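import Cfsg.Agent.Lib.PushingUpOdd.Setup

/-!
`U = V Ω₁(Z(J(S)))`, the subgroup `B = C_S(Ω₁(Z(J(S))))` and `C = C_B(U)`.
-/

set_option autoImplicit false
set_option linter.unusedSectionVars false
set_option linter.style.haveILetI false

open scoped IsMulCommutative commutatorElement

namespace CfsgLib.PushingUpOdd

open Cfsg CfsgLib.LocalEven.RankOneFF CfsgLib.LocalEven.SylowIn CfsgLib.LocalEven.MovesFixed
open CfsgLib.Fusion.Thompson
open PushingUpSingle.Block.Data (Z B U1 O V1 mem_Z_iff mem_B_iff)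

variable {G : Type*} [Group G] [Finite G] [Fact (Nat.Prime 2)] [hC : (Cp 2 G).Normal]
  [IsMulCommutative (Vp 2 G)] [hV : (Vp 2 G).Normal]
  {S : Sylow 2 G} {M : Subgroup G} {A : Subgroup (MulAut ↥(S : Subgroup G))}
  {ρ : G ⧸ Cp 2 G →* AddMonoid.End (Additive (Vp 2 G))} {T : Sylow 2 (G ⧸ Cp 2 G)}

namespace Cfg

variable (c : Cfg S M A ρ T)

include c

/-- The image of `g`. -/
abbrev pr (_ : Cfg S M A ρ T) : G →* G ⧸ Cp 2 G := QuotientGroup.mk' (Cp 2 G)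

theorem pr_surjective : Function.Surjective c.pr := QuotientGroup.mk'_surjective _

theorem pr_eq_one {g : G} : c.pr g = 1 ↔ g ∈ Cp 2 G := QuotientGroup.eq_one_iff g

theorem coe_act (g : G) (v : Additive (Vp 2 G)) :
    ((Additive.toMul (ρ (c.pr g) v) : Vp 2 G) : G) = g * ((Additive.toMul v : Vp 2 G) : G) * g⁻¹ := c.act g v

theorem act_eq_iff (g : G) (v : Additive (Vp 2 G)) :
    ρ (c.pr g) v = v ↔ g * ((Additive.toMul v : Vp 2 G) : G) = ((Additive.toMul v : Vp 2 G) : G) * g := by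
  rw [← mul_inv_eq_iff_eq_mul, ← c.coe_act]
  exact ⟨fun h => by rw [h], fun h => Additive.toMul.injective (Subtype.ext h)⟩

theorem mem_fx_map_iff (K : Subgroup G) (v : Additive (Vp 2 G)) :
    v ∈ fx ρ (K.map c.pr) ↔ ∀ g ∈ K, g * ((Additive.toMul v : Vp 2 G) : G) = ((Additive.toMul v : Vp 2 G) : G) * g :=
  ⟨fun h g hg => (c.act_eq_iff g v).1 (h _ (Subgroup.mem_map_of_mem _ hg)),
    fun h => by rintro _ ⟨g, hg, rfl⟩; exact (c.act_eq_iff g v).2 (h g hg)⟩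

/-- The offenders and their replacements. -/
theorem offender {E : Subgroup G} (hE : E ∈ maxElementaryAbelianSubgroups 2 G) :
    (E ⊓ Cp 2 G) ⊔ Vp 2 G ∈ maxElementaryAbelianSubgroups 2 G ∧ (E ⊓ Cp 2 G) ⊔ Vp 2 G ≤ pCore 2 G := by
  obtain ⟨hEA, hb, hmax⟩ := maxEA_facts ρ c.act hE
  exact ⟨hmax (no_over_abelian c.roots.base _ hb.comm hb.pow),
    c.hyp.pgroup_C_le (isPGroup_isEA hEA) (sup_le inf_le_right fun v hv => Subgroup.mem_centralizer_iff.2 fun w hw =>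
      mul_comm_of_isEA (omc_isEA _) hw hv)⟩

theorem exists_le_Q : ∃ E ∈ maxElementaryAbelianSubgroups 2 G, E ≤ pCore 2 G := by
  obtain ⟨E, hE, -⟩ := exists_maxEA_le_sylow (p := 2) S
  exact ⟨_, c.offender hE⟩

theorem le_J {E : Subgroup G} (hE : E ∈ maxElementaryAbelianSubgroups 2 G) (hES : E ≤ (S : Subgroup G)) :
    E ≤ thompsonSubgroupOf 2 (S : Subgroup G) := by
  rw [thompsonSubgroupOf_eq hE hES]
  exact le_sSup ⟨hE, hES⟩

theorem le_JQ {E : Subgroup G} (hE : E ∈ maxElementaryAbelianSubgroups 2 G) (hEQ : E ≤ pCore 2 G) :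
    E ≤ thompsonSubgroupOf 2 (pCore 2 G) := by
  rw [thompsonSubgroupOf_eq hE hEQ]
  exact le_sSup ⟨hE, hEQ⟩

theorem JQ_le : thompsonSubgroupOf 2 (pCore 2 G) ≤ thompsonSubgroupOf 2 (S : Subgroup G) := by
  obtain ⟨E, hE, hEQ⟩ := c.exists_le_Q
  rw [thompsonSubgroupOf_eq hE hEQ]
  exact sSup_le fun F hF => c.le_J hF.1 (hF.2.trans (Solvable.Cores.pCore_le_sylow S))

theorem V_le_JQ : Vp 2 G ≤ thompsonSubgroupOf 2 (pCore 2 G) := by
  obtain ⟨E, hE, -⟩ := exists_maxEA_le_sylow (p := 2) S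
  exact le_sup_right.trans (c.le_JQ (c.offender hE).1 (c.offender hE).2)

theorem mem_Z_of {x : G} (hpow : x ^ 2 = 1)
    (hcen : ∀ j ∈ thompsonSubgroupOf 2 (S : Subgroup G), j * x = x * j) : x ∈ Z S := by
  obtain ⟨E, hE, hES⟩ := exists_maxEA_le_sylow (p := 2) S
  refine mem_Z_iff.2 ⟨c.le_J hE hES (mem_of_pow_eq_one_of_centralizes hE
    (Subgroup.mem_centralizer_iff.2 fun e he => hcen e (c.le_J hE hES he)) hpow), hcen, hpow⟩

theorem mem_Z_iff_fx (v : Additive (Vp 2 G)) :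
    ((Additive.toMul v : Vp 2 G) : G) ∈ Z S ↔ v ∈ fx ρ (PushingUpOdd.roots ρ (T : Subgroup (G ⧸ Cp 2 G))) := by
  rw [← c.image, c.mem_fx_map_iff]
  exact ⟨fun h => (mem_Z_iff.1 h).2.1, fun h => c.mem_Z_of (omc_pow _ (Additive.toMul v).2) h⟩

theorem V_le_V1 : Vp 2 G ≤ V1 2 G := fun v hv =>
  mem_omc (c.V_le_JQ hv) (fun y hy => Subgroup.mem_centralizer_iff.1 (omc_le _ hv).2 y (thompsonSubgroupOf_le _ hy))
    (omc_pow _ hv)

theorem Z_le_V1 : Z S ≤ V1 2 G := fun z hz => by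
  obtain ⟨-, hzc, hzp⟩ := mem_Z_iff.1 hz
  obtain ⟨E, hE, hEQ⟩ := c.exists_le_Q
  exact mem_omc (c.le_JQ hE hEQ (mem_of_pow_eq_one_of_centralizes hE (Subgroup.mem_centralizer_iff.2 fun e he =>
    hzc e (c.JQ_le (c.le_JQ hE hEQ he))) hzp)) (fun y hy => hzc y (c.JQ_le hy)) hzp

/-- An element of `Ω₁(Z(J(Q)))` split along an offender. -/
theorem split_V1 {E : Subgroup G} (hE : E ∈ maxElementaryAbelianSubgroups 2 G) {u : G} (hu : u ∈ V1 2 G) :
    ∃ b ∈ E, ∃ v ∈ Vp 2 G, u = b * v := by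
  obtain ⟨hF, hFQ⟩ := c.offender hE
  have hmem : u ∈ (((E ⊓ Cp 2 G) ⊔ Vp 2 G : Subgroup G) : Set G) :=
    mem_of_pow_eq_one_of_centralizes hF (Subgroup.mem_centralizer_iff.2 fun y hy =>
      Subgroup.mem_centralizer_iff.1 (omc_le _ hu).2 y (c.le_JQ hF hFQ hy)) (omc_pow _ hu)
  rw [Subgroup.mul_normal] at hmem
  obtain ⟨b, hb, v, hv, rfl⟩ := hmem
  exact ⟨b, (Subgroup.mem_inf.1 hb).1, v, hv, rfl⟩

theorem comm_V1 {E : Subgroup G} (hE : E ∈ maxElementaryAbelianSubgroups 2 G) {e u : G} (he : e ∈ E)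
    (hu : u ∈ V1 2 G) : e * u * e⁻¹ * u⁻¹ ∈ Vp 2 G := by
  obtain ⟨b, hb, v, hv, rfl⟩ := c.split_V1 hE hu
  have hcm : e * b = b * e := mul_comm_of_isEA hE.1 he hb
  have h1 : b * (e * v * e⁻¹ * v⁻¹) * b⁻¹ ∈ Vp 2 G :=
    hV.conj_mem _ (mul_mem (hV.conj_mem v hv e) (inv_mem hv)) b
  convert h1 using 1
  calc e * (b * v) * e⁻¹ * (b * v)⁻¹ = (e * b) * v * e⁻¹ * v⁻¹ * b⁻¹ := by group
    _ = (b * e) * v * e⁻¹ * v⁻¹ * b⁻¹ := by rw [hcm]
    _ = _ := by group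

theorem U1_le_V1 : U1 S ≤ V1 2 G := sup_le c.V_le_V1 c.Z_le_V1

theorem U1_le_Q : U1 S ≤ pCore 2 G := c.U1_le_V1.trans PushingUpSingle.Block.Data.V1_le_Q

theorem U1_le_C : U1 S ≤ Cp 2 G := c.U1_le_Q.trans pCore_le_Cp

theorem U1_comm {a b : G} (ha : a ∈ U1 S) (hb : b ∈ U1 S) : a * b = b * a :=
  mul_comm_of_isEA (omc_isEA _) (c.U1_le_V1 ha) (c.U1_le_V1 hb)

theorem U1_pow {a : G} (ha : a ∈ U1 S) : a ^ 2 = 1 := omc_pow _ (c.U1_le_V1 ha)

theorem mem_U1 {u : G} (hu : u ∈ U1 S) : ∃ v ∈ Vp 2 G, ∃ z ∈ Z S, u = v * z := by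
  have hu' : u ∈ ((Vp 2 G ⊔ Z S : Subgroup G) : Set G) := hu
  rw [Subgroup.normal_mul] at hu'
  obtain ⟨v, hv, z, hz, rfl⟩ := hu'
  exact ⟨v, hv, z, hz, rfl⟩

theorem Z_norm : (S : Subgroup G) ≤ Subgroup.normalizer (Z S : Set G) := fun _ hs => by
  haveI := PushingUpSingle.Block.Data.Z0_char (S := S)
  exact OddOrder.PStable.normalizer_le_normalizer_map (S : Subgroup G) (PushingUpSingle.Block.Data.Z0 S)
    (Subgroup.le_normalizer hs)

theorem U1_normal : (U1 S).Normal := by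
  rw [← Subgroup.normalizer_eq_top_iff, eq_top_iff, ← c.hyp.thompson_sup]
  refine sup_le (sSup_le fun E hE => le_normalizer_of_map_conj fun e he => ?_) fun s hs => ?_
  · refine Subgroup.eq_of_le_of_card_ge ?_ (Subgroup.card_map_of_injective (MulAut.conj e).injective).ge
    rintro _ ⟨u, hu, rfl⟩
    show e * u * e⁻¹ ∈ U1 S
    have h2 := mul_mem (Subgroup.mem_sup_left (c.comm_V1 hE he (c.U1_le_V1 hu)) : e * u * e⁻¹ * u⁻¹ ∈ U1 S) hu
    rwa [inv_mul_cancel_right] at h2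
  · refine map_conj_eq_iff.1 ?_
    rw [Subgroup.map_sup, map_conj_eq_iff.2 (c.Z_norm hs),
      map_conj_eq_iff.2 ((Subgroup.normalizer_eq_top_iff.2 hV).ge (Subgroup.mem_top s))]

theorem O_normal : (O S).Normal := by
  haveI := c.U1_normal
  haveI := LocalEven.SylowIn.pCore_normal G 2
  infer_instance

theorem U1_le_O : U1 S ≤ O S := fun _ hu => ⟨c.U1_le_Q hu, Subgroup.mem_centralizer_iff.2 fun _ hw => c.U1_comm hw hu⟩

theorem V_le_O : Vp 2 G ≤ O S := le_sup_left.trans c.U1_le_O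

theorem Z_le_O : Z S ≤ O S := le_sup_right.trans c.U1_le_O

theorem J_le_B : thompsonSubgroupOf 2 (S : Subgroup G) ≤ B S := fun j hj =>
  mem_B_iff.2 ⟨thompsonSubgroupOf_le _ hj, fun z hz => ((mem_Z_iff.1 hz).2.1 j hj).symm⟩

theorem O_le_B : O S ≤ B S := PushingUpSingle.Block.Data.O_le_B

theorem B_le_S : B S ≤ (S : Subgroup G) := fun _ hb => (mem_B_iff.1 hb).1

theorem fixes_of_mem_B {b : G} (hb : b ∈ B S) :
    ∀ v ∈ fx ρ (PushingUpOdd.roots ρ (T : Subgroup (G ⧸ Cp 2 G))), ρ (c.pr b) v = v := fun v hv =>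
  (c.act_eq_iff b v).2 ((mem_B_iff.1 hb).2 _ ((c.mem_Z_iff_fx v).2 hv)).symm

theorem map_B : (B S).map c.pr = PushingUpOdd.roots ρ (T : Subgroup (G ⧸ Cp 2 G)) := by
  refine le_antisymm ?_ (c.image.ge.trans (Subgroup.map_mono c.J_le_B))
  rintro _ ⟨b, hb, rfl⟩
  exact c.roots.mem_roots_of_fix c.wt (c.eqT ▸ Subgroup.mem_map_of_mem _ (c.B_le_S hb)) (c.fixes_of_mem_B hb)

theorem B_inf_C : B S ⊓ Cp 2 G = O S := by
  refine le_antisymm (fun x hx => PushingUpSingle.Block.Data.mem_O_iff.2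
    ⟨c.hyp.sylow_inf_C ⟨c.B_le_S hx.1, hx.2⟩, (mem_B_iff.1 hx.1).2⟩) fun x hx => ⟨c.O_le_B hx, pCore_le_Cp hx.1⟩

theorem mem_O_of_comm {b : G} (hb : b ∈ B S) (hcm : ∀ u ∈ U1 S, u * b = b * u) : b ∈ O S := by
  rw [← c.B_inf_C]
  exact ⟨hb, Subgroup.mem_centralizer_iff.2 fun v hv => hcm v (Subgroup.mem_sup_left hv)⟩

theorem B_inf_cent : B S ⊓ Subgroup.centralizer (U1 S : Set G) = O S :=
  le_antisymm (fun _ hx => c.mem_O_of_comm hx.1 (Subgroup.mem_centralizer_iff.1 hx.2))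
    (le_inf c.O_le_B inf_le_right)

theorem card_B : Nat.card (B S) = Nat.card (PushingUpOdd.roots ρ (T : Subgroup (G ⧸ Cp 2 G))) * Nat.card (O S) := by
  have := Subgroup.card_eq_card_quotient_mul_card_subgroup (c.pr.comp (B S).subtype).ker
  rw [Nat.card_congr (QuotientGroup.quotientKerEquivRange _).toEquiv, MonoidHom.range_comp, Subgroup.range_subtype,
    c.map_B, show (c.pr.comp (B S).subtype).ker = (O S).subgroupOf (B S) by
      ext a
      rw [MonoidHom.mem_ker, Subgroup.mem_subgroupOf, ← c.B_inf_C]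
      exact ⟨fun h => ⟨a.2, c.pr_eq_one.1 h⟩, fun h => c.pr_eq_one.2 h.2⟩,
    Nat.card_congr (Subgroup.subgroupOfEquivOfLe c.O_le_B).toEquiv] at this
  exact this

theorem card_U1 : Nat.card (U1 S) = Nat.card (PushingUpOdd.roots ρ (T : Subgroup (G ⧸ Cp 2 G))) * Nat.card (Z S) := by
  have hn : Z S ≤ Subgroup.normalizer (Vp 2 G : Set G) := (Subgroup.normalizer_eq_top_iff.2 hV).ge.trans' le_top
  have h1 := card_sup_mul_card_inf (N := Vp 2 G) (K := Z S) hn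
  have h2 : Nat.card (Vp 2 G ⊓ Z S : Subgroup G) =
      Nat.card (fx ρ (PushingUpOdd.roots ρ (T : Subgroup (G ⧸ Cp 2 G)))) := Nat.card_congr
    { toFun := fun x => ⟨Additive.ofMul (⟨(x : G), x.2.1⟩ : Vp 2 G), (c.mem_Z_iff_fx _).1 x.2.2⟩
      invFun := fun v => ⟨((Additive.toMul (v : Additive (Vp 2 G)) : Vp 2 G) : G),
        (Additive.toMul (v : Additive (Vp 2 G))).2, (c.mem_Z_iff_fx _).2 v.2⟩
      left_inv := fun x => rfl
      right_inv := fun v => rfl }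
  have h3 : Nat.card (Vp 2 G) = Nat.card (Additive (Vp 2 G)) := rfl
  rw [h2, h3, c.wt] at h1
  refine Nat.eq_of_mul_eq_mul_right (Nat.card_pos (α := fx ρ (PushingUpOdd.roots ρ (T : Subgroup (G ⧸ Cp 2 G))))) ?_
  rw [mul_right_comm]
  exact h1

theorem centralizer_O_le : Subgroup.centralizer (O S : Set G) ≤ O S := by
  haveI := c.O_normal
  haveI := LocalEven.SylowIn.pCore_normal G 2
  set Q := pCore 2 G
  have hQp : IsPGroup 2 Q := Solvable.Cores.isPGroup_pCore 2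
  have key : ∀ g ∈ Subgroup.centralizer (O S : Set G), (orderOf g).Coprime 2 → g = 1 := by
    intro g hg hcop
    have hgQ : g ∈ Subgroup.centralizer (Q : Set G) := Subgroup.mem_centralizer_iff.mpr fun q hq => by
      set d := g * q * g⁻¹ * q⁻¹
      have hdQ : d ∈ Q := Q.mul_mem ((inferInstance : Q.Normal).conj_mem q hq g) (inv_mem hq)
      have hdO : d ∈ Subgroup.centralizer (O S : Set G) := Subgroup.mem_centralizer_iff.mpr fun w hw => by
        have hw' : q⁻¹ * w * q ∈ O S := by simpa using (inferInstance : (O S).Normal).conj_mem w hw q⁻¹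
        have e1 := Subgroup.mem_centralizer_iff.mp hg _ hw'
        have e2 := Subgroup.mem_centralizer_iff.mp hg w hw
        calc w * d = (w * g) * q * g⁻¹ * q⁻¹ := by simp only [d]; group
          _ = (g * w) * q * g⁻¹ * q⁻¹ := by rw [e2]
          _ = g * q * ((q⁻¹ * w * q) * g⁻¹) * q⁻¹ := by group
          _ = g * q * (g⁻¹ * (g * (q⁻¹ * w * q)) * g⁻¹) * q⁻¹ := by group
          _ = g * q * (g⁻¹ * ((q⁻¹ * w * q) * g) * g⁻¹) * q⁻¹ := by rw [e1]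
          _ = _ := by simp only [d]; group
      have hdmem : d ∈ O S := ⟨hdQ, Subgroup.centralizer_le (SetLike.coe_subset_coe.mpr c.U1_le_O) hdO⟩
      have hd1 : d = 1 := LocalEvenB.PushingUp.fixed_of_step (u := q) (by simp [d])
        (Subgroup.mem_centralizer_iff.mp hg d hdmem).symm hcop (by
          obtain ⟨k, hk⟩ := hQp ⟨d, hdQ⟩
          exact ⟨k, congrArg Subtype.val hk⟩)
      have h2 : g * q * g⁻¹ * q⁻¹ = 1 := hd1
      rw [mul_inv_eq_one, mul_inv_eq_iff_eq_mul] at h2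
      exact h2.symm
    obtain ⟨k, hk⟩ := hQp ⟨g, c.hyp.con hgQ⟩
    exact KGroups.CharP.eq_one_of_pow_coprime hcop (pow_orderOf_eq_one g) (k := k) (congrArg Subtype.val hk)
  have hp : IsPGroup 2 (Subgroup.centralizer (O S : Set G)) := fun g => by
    refine ⟨(orderOf (g : G)).factorization 2, Subtype.ext (key _ (pow_mem g.2 _) ?_)⟩
    have hd : 2 ^ (orderOf (g : G)).factorization 2 ∣ orderOf (g : G) := Nat.ordProj_dvd _ _
    rw [SubmonoidClass.coe_pow, orderOf_pow, Nat.gcd_eq_right hd]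
    exact (Nat.coprime_ordCompl Fact.out (orderOf_pos _).ne').symm
  intro g hg
  exact ⟨LocalEven.SylowIn.le_pCore hp hg, Subgroup.centralizer_le (SetLike.coe_subset_coe.mpr c.U1_le_O) hg⟩

end Cfg

end CfsgLib.PushingUpOdd
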