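import Cfsg.Agent.Lib.PushingUpOdd.Orbit
import Cfsg.Agent.Lib.PushingUpRankOne.Main
import Cfsg.Agent.Lib.PushingUpSingle.Main

/-!
Pushing up against automorphisms of odd order of a Sylow two-subgroup.
-/

set_option autoImplicit false
set_option linter.unusedSectionVars false
set_option linter.style.haveILetI false

open scoped IsMulCommutative commutatorElement MatrixGroups

namespace CfsgLib.PushingUpOdd

open Cfsg CfsgLib.LocalEven.RankOneFF CfsgLib.LocalEven.SylowIn CfsgLib.LocalEven.MovesFixed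
open CfsgLib.Fusion.Thompson
open PushingUpSingle.Block.Data (Z0 B0 Z B U1 O mem_Z_iff mem_B_iff)

variable {G : Type*} [Group G] [Finite G] [Fact (Nat.Prime 2)]

/-- A subgroup with a Sylow two-subgroup and all elements of odd order is everything. -/
theorem eq_top_of_sylow {H : Type*} [Group H] [Finite H] (K : Subgroup H) (P : Sylow 2 H) (hP : (P : Subgroup H) ≤ K)
    (hodd : ∀ x : H, (orderOf x).Coprime 2 → x ∈ K) : K = ⊤ := by
  rw [← Subgroup.index_eq_one]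
  by_contra hne
  obtain ⟨q, hq, hdvd⟩ := Nat.exists_prime_and_dvd hne
  haveI := Fact.mk hq
  obtain ⟨Q, hQK⟩ : ∃ Q : Sylow q H, (Q : Subgroup H) ≤ K := by
    by_cases e : q = 2
    · subst e; exact ⟨P, hP⟩
    obtain ⟨Q⟩ := (inferInstance : Nonempty (Sylow q H))
    refine ⟨Q, fun x hx => hodd x ?_⟩
    obtain ⟨k, hk⟩ := Q.2 ⟨x, hx⟩
    exact Nat.Coprime.coprime_dvd_left (orderOf_dvd_of_pow_eq_one (congrArg Subtype.val hk))
      (((Nat.coprime_primes hq Nat.prime_two).2 e).pow_left k)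
  exact Q.not_dvd_index (hdvd.trans (Subgroup.index_dvd_of_le hQK))

variable [hC : (Cp 2 G).Normal] [IsMulCommutative (Vp 2 G)] [hV : (Vp 2 G).Normal]
  {S : Sylow 2 G} {M : Subgroup G} {A : Subgroup (MulAut ↥(S : Subgroup G))}
  {ρ : G ⧸ Cp 2 G →* AddMonoid.End (Additive (Vp 2 G))} {T : Sylow 2 (G ⧸ Cp 2 G)}

namespace Cfg

variable (c : Cfg S M A ρ T)

include c

theorem T_le_normalizer : (T : Subgroup (G ⧸ Cp 2 G)) ≤
    Subgroup.normalizer ((PushingUpOdd.roots ρ (T : Subgroup (G ⧸ Cp 2 G))) : Set (G ⧸ Cp 2 G)) := by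
  rw [← c.image]
  refine c.eqT.le.trans ((Subgroup.map_mono fun s hs => ?_).trans (Subgroup.le_normalizer_map c.pr))
  exact normalizer_le_normalizer_thompsonOf _ (Subgroup.le_normalizer hs)

/-- An element of an offender outside `M` giving a rank one group over the roots. -/
theorem exists_outside : ∃ (x : G) (E : Subgroup G) (F : Type) (_ : Field F) (_ : Fintype F) (n : ℕ)
    (f : ↥(PushingUpOdd.roots ρ (T : Subgroup (G ⧸ Cp 2 G)) ⊔ Subgroup.zpowers (c.pr x)) →* SL(2, F)),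
    1 ≤ n ∧ Fintype.card F = 2 ^ n ∧ E ∈ maxElementaryAbelianSubgroups 2 G ∧ x ∈ E ∧ Function.Surjective f ∧
    PushingUpOdd.roots ρ (T : Subgroup (G ⧸ Cp 2 G)) ≠ ⊥ ∧
    c.pr x ∉ M.map c.pr ∧
    fx ρ (PushingUpOdd.roots ρ (T : Subgroup (G ⧸ Cp 2 G))) ⊔ fx ρ (Subgroup.zpowers (c.pr x)) = ⊤ ∧
    (∀ R ≤ PushingUpOdd.roots ρ (T : Subgroup (G ⧸ Cp 2 G)) ⊔ Subgroup.zpowers (c.pr x), IsPGroup 2 R →
      PushingUpOdd.roots ρ (T : Subgroup (G ⧸ Cp 2 G)) ≤ R → R = PushingUpOdd.roots ρ (T : Subgroup (G ⧸ Cp 2 G))) ∧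
    ∀ K ≤ PushingUpOdd.roots ρ (T : Subgroup (G ⧸ Cp 2 G)) ⊔ Subgroup.zpowers (c.pr x),
      PushingUpOdd.roots ρ (T : Subgroup (G ⧸ Cp 2 G)) ≤ K →
      K = PushingUpOdd.roots ρ (T : Subgroup (G ⧸ Cp 2 G)) ⊔ Subgroup.zpowers (c.pr x) ∨
        K ≤ Subgroup.normalizer (PushingUpOdd.roots ρ (T : Subgroup (G ⧸ Cp 2 G)) : Set (G ⧸ Cp 2 G)) := by
  obtain ⟨xb, Ab, F, iF, iFF, n, f, hn, hF, hA, hxA, hxN, hf, hspan, hR, hK⟩ := c.roots.exists_rankOne
  obtain ⟨P, hP⟩ := (hA.isPGroup c.roots.base.amb).exists_le_sylow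
  obtain ⟨gb, hgb⟩ := MulAction.exists_smul_eq (G ⧸ Cp 2 G) P T
  have hX₁ : LocalEven.RankOneFF.cj gb Ab ∈ rootSet ρ (T : Subgroup (G ⧸ Cp 2 G)) :=
    ⟨hA.cj gb, hgb ▸ Subgroup.map_mono hP⟩
  have hne : PushingUpOdd.roots ρ (T : Subgroup (G ⧸ Cp 2 G)) ≠ ⊥ := fun e =>
    hX₁.1.off.ne_bot (le_bot_iff.1 (e ▸ Roots.le_roots hX₁))
  obtain ⟨E₁, hE₁, hE₁S, hne₁⟩ : ∃ E ∈ maxElementaryAbelianSubgroups 2 G, E ≤ (S : Subgroup G) ∧ E.map c.pr ≠ ⊥ := by
    by_contra hall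
    push Not at hall
    obtain ⟨A₀, hA₀, hA₀S⟩ := exists_maxEA_le_sylow (p := 2) S
    refine hne (le_bot_iff.1 (c.image.ge.trans ?_))
    rw [Subgroup.map_le_iff_le_comap, thompsonSubgroupOf_eq hA₀ hA₀S]
    exact sSup_le fun E hE => Subgroup.map_le_iff_le_comap.1 (hall E hE.1 hE.2).le
  obtain ⟨-, hb, -⟩ := maxEA_facts ρ c.act hE₁
  obtain ⟨B', hB'E, hB', -⟩ := exists_off_sub c.roots.base.amb hne₁ hb.comm hb.pow hb.wt
  obtain ⟨X₂, hX₂B, hX₂, -⟩ := exists_good c.roots.base hB'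
  obtain ⟨t, ht, hteq⟩ := c.roots.orbit X₂
    ⟨hX₂, (hX₂B.trans hB'E).trans (c.eqT ▸ Subgroup.map_mono hE₁S)⟩ _ hX₁
  obtain ⟨g, rfl⟩ := c.pr_surjective gb
  obtain ⟨s, -, rfl⟩ : t ∈ (S : Subgroup G).map c.pr := c.eqT ▸ ht
  have hxb : c.pr g * xb * (c.pr g)⁻¹ ∈ LocalEven.RankOneFF.cj (c.pr s) X₂ := hteq ▸ conj_mem_cj _ hxA
  obtain ⟨e, he, hee⟩ := (hX₂B.trans hB'E) (mem_cj.1 hxb)
  have hxx : c.pr ((g⁻¹ * s) * e * (g⁻¹ * s)⁻¹) = xb := by
    rw [map_mul, map_mul, map_inv, map_mul, map_inv, hee]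
    group
  subst hxx
  exact ⟨(g⁻¹ * s) * e * (g⁻¹ * s)⁻¹, _, F, iF, iFF, n, f, hn, hF, maxEA_map_equiv (MulAut.conj (g⁻¹ * s)) hE₁,
    ⟨e, he, rfl⟩, hf, hne, hxN, hspan, hR, hK⟩

/-- A subgroup outside `M` whose elements of odd order act trivially on `C_B(U)` modulo `U`. -/
theorem exists_rank_one : ∃ H : Subgroup G, ¬ H ≤ M ∧ IsSylowIn 2 (B S) H ∧
    ∀ y ∈ H, (orderOf y).Coprime 2 → ∀ o ∈ O S, y * o * y⁻¹ * o⁻¹ ∈ U1 S := by
  classical
  obtain ⟨x, E, F, iF, iFF, n, f, hn, hF, hE, hxE, hf, hne, hxM, hspan, hR, hK⟩ := c.exists_outside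
  let R₀ : Subgroup (G ⧸ Cp 2 G) := PushingUpOdd.roots ρ (T : Subgroup (G ⧸ Cp 2 G))
  let D : Subgroup (G ⧸ Cp 2 G) := R₀ ⊔ Subgroup.zpowers (c.pr x)
  haveI := c.U1_normal
  haveI := c.O_normal
  -- `Ω₁(Z(J(S)))` split along `x`
  have hsplit : ∀ z ∈ Z S, ∃ v ∈ Vp 2 G, v ∈ Z S ∧ ∃ z₂ ∈ Z S, x * z₂ = z₂ * x ∧ z = v * z₂ := by
    intro z hz
    obtain ⟨b, hb, v, hv, e⟩ := c.split_V1 hE (c.Z_le_V1 hz)
    obtain ⟨v₁, hv₁, v₂, hv₂, hvv⟩ := AddSubgroup.mem_sup.1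
      (show Additive.ofMul (⟨v, hv⟩ : Vp 2 G) ∈ fx ρ R₀ ⊔ fx ρ (Subgroup.zpowers (c.pr x)) from hspan ▸ AddSubgroup.mem_top _)
    have hvv' : ((Additive.toMul v₁ : Vp 2 G) : G) * ((Additive.toMul v₂ : Vp 2 G) : G) = v :=
      congrArg (fun w : Additive (Vp 2 G) => ((Additive.toMul w : Vp 2 G) : G)) hvv
    set a₁ := ((Additive.toMul v₁ : Vp 2 G) : G)
    set a₂ := ((Additive.toMul v₂ : Vp 2 G) : G)
    have ha₁ : a₁ ∈ Z S := (c.mem_Z_iff_fx v₁).2 hv₁
    have h2 : x * a₂ = a₂ * x := (c.act_eq_iff x v₂).1 ((mem_fx_zpowers ρ).1 hv₂)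
    refine ⟨a₁, (Additive.toMul v₁).2, ha₁, a₁⁻¹ * z, mul_mem (inv_mem ha₁) hz, ?_, (mul_inv_cancel_left _ _).symm⟩
    have hab : b * a₁ = a₁ * b := by
      have hbU : b ∈ PushingUpSingle.Block.Data.V1 2 G := by
        have h1 := mul_mem (c.Z_le_V1 hz) (inv_mem (c.V_le_V1 hv))
        rwa [e, mul_inv_cancel_right] at h1
      exact mul_comm_of_isEA (omc_isEA _) hbU (c.Z_le_V1 ha₁)
    have hz₂ : a₁⁻¹ * z = b * a₂ := by
      rw [e, ← hvv', ← mul_assoc b, hab, mul_assoc, inv_mul_cancel_left]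
    have hxb : Commute x b := mul_comm_of_isEA hE.1 hxE hb
    rw [hz₂]
    exact (hxb.mul_right h2).eq
  -- the normaliser of the roots
  set N' := (Subgroup.normalizer (R₀ : Set (G ⧸ Cp 2 G))).comap c.pr with hN'
  have hSN : (S : Subgroup G) ≤ N' := Subgroup.map_le_iff_le_comap.1 (c.eqT.ge.trans c.T_le_normalizer)
  have hN'M : N' ≤ M := by
    refine c.hyp.overM _ hSN fun e => hne (c.roots.base.core R₀ ?_ (T.2.to_le Roots.roots_le))
    refine Subgroup.normalizer_eq_top_iff.1 ?_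
    rw [← Subgroup.map_comap_eq_self_of_surjective c.pr_surjective (Subgroup.normalizer (R₀ : Set (G ⧸ Cp 2 G))), ← hN', e,
      Subgroup.map_top_of_surjective _ c.pr_surjective]
  -- the minimal subgroup over `B` covering `D`
  obtain ⟨H, ⟨hBH, hHle, hHD⟩, hmin⟩ := (Set.toFinite {H : Subgroup G | B S ≤ H ∧ H ≤ B S ⊔ Subgroup.zpowers x ∧
      H.map c.pr = D}).exists_minimal ⟨B S ⊔ Subgroup.zpowers x, le_sup_left, le_rfl, by
        rw [Subgroup.map_sup, c.map_B, MonoidHom.map_zpowers]⟩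
  have hHM : ¬ H ≤ M := fun h => hxM (Subgroup.map_mono (f := c.pr) h
    (hHD ▸ Subgroup.mem_sup_right (Subgroup.mem_zpowers _)))
  have hsub : ∀ K : Subgroup G, B S ≤ K → K ≤ H → K = H ∨ K ≤ N' := by
    intro K hBK hKH
    rcases hK (K.map c.pr) ((Subgroup.map_mono hKH).trans hHD.le) (c.map_B.ge.trans (Subgroup.map_mono hBK)) with e | e
    · exact Or.inl (le_antisymm hKH (hmin ⟨hBK, hKH.trans hHle, e⟩ hKH))
    · exact Or.inr (Subgroup.map_le_iff_le_comap.1 e)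
  have hcen : ∀ h ∈ H, ∀ z₂ ∈ Z S, x * z₂ = z₂ * x → h * z₂ = z₂ * h := by
    intro h hh z₂ hz₂ hxz
    have hle : B S ⊔ Subgroup.zpowers x ≤ Subgroup.centralizer ({z₂} : Set G) :=
      sup_le (fun b hb => Subgroup.mem_centralizer_singleton_iff.2 ((mem_B_iff.1 hb).2 z₂ hz₂).symm)
        (Subgroup.zpowers_le.2 (Subgroup.mem_centralizer_singleton_iff.2 hxz))
    exact Subgroup.mem_centralizer_singleton_iff.1 (hle (hHle hh))
  have hsyl : IsSylowIn 2 (B S) H := by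
    refine ⟨hBH, S.2.to_le c.B_le_S, fun R hRH hRp hBR => le_antisymm (fun r hr => ?_) hBR⟩
    have hRmap : R.map c.pr = R₀ := hR _ ((Subgroup.map_mono hRH).trans hHD.le) (hRp.map _)
      (c.map_B.ge.trans (Subgroup.map_mono hBR))
    obtain ⟨j, hj, e⟩ : c.pr r ∈ (thompsonSubgroupOf 2 (S : Subgroup G)).map c.pr :=
      c.image.ge (hRmap.le (Subgroup.mem_map_of_mem _ hr))
    have hmem : j⁻¹ * r ∈ pCore 2 G := c.hyp.pgroup_C_le (hRp.to_le (inf_le_left : R ⊓ Cp 2 G ≤ R)) inf_le_right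
      (Subgroup.mem_inf.2 ⟨mul_mem (inv_mem (hBR (c.J_le_B hj))) hr,
        c.pr_eq_one.1 (by rw [map_mul, map_inv, e, inv_mul_cancel])⟩)
    have hrS : r ∈ (S : Subgroup G) := by
      have h1 := mul_mem (thompsonSubgroupOf_le (p := 2) _ hj) (Solvable.Cores.pCore_le_sylow S hmem)
      rwa [mul_inv_cancel_left] at h1
    refine mem_B_iff.2 ⟨hrS, fun z hz => ?_⟩
    obtain ⟨v, hv, hvZ, z₂, hz₂, hxz, rfl⟩ := hsplit z hz
    have h1 : r * v = v * r := (c.act_eq_iff r (Additive.ofMul ⟨v, hv⟩)).1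
      ((c.mem_Z_iff_fx (Additive.ofMul ⟨v, hv⟩)).1 hvZ _ (hRmap.le (Subgroup.mem_map_of_mem _ hr)))
    exact ((Commute.mul_right (h1 : Commute r v) (hcen r (hRH hr) z₂ hz₂ hxz : Commute r z₂)).eq).symm
  refine ⟨H, hHM, hsyl, ?_⟩
  set P := hsyl.toSylow
  have hOH : O S ≤ H := c.O_le_B.trans hBH
  have hOp : (O S).subgroupOf H ≤ pCore 2 H :=
    LocalEven.SylowIn.le_pCore ((S.2.to_le (c.O_le_B.trans c.B_le_S)).comap_of_injective H.subtype H.subtype_injective)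
  have hE₁ : Subgroup.centralizer (pCore 2 H : Set H) ≤ pCore 2 H := fun y hy => hOp (Subgroup.mem_subgroupOf.2
    (c.centralizer_O_le (Subgroup.mem_centralizer_iff.2 fun o ho =>
      congrArg Subtype.val (Subgroup.mem_centralizer_iff.1 hy ⟨o, hOH ho⟩ (hOp (show (⟨o, hOH ho⟩ : H) ∈ (O S).subgroupOf H from ho))))))
  have hbig : ∀ K : Subgroup H, (P : Subgroup H) ≤ K → K ≠ ⊤ → K ≤ N'.subgroupOf H := by
    intro K hPK hK'
    have hBK : B S ≤ K.map H.subtype := hsyl.toSylow_map.ge.trans (Subgroup.map_mono hPK)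
    rcases hsub _ hBK (Subgroup.map_subtype_le _) with e | e
    · refine absurd (Subgroup.map_injective H.subtype_injective (e.trans ?_)) hK'
      rw [← MonoidHom.range_eq_map, Subgroup.range_subtype]
    · exact fun y hy => e (Subgroup.mem_map_of_mem _ hy)
  have hE₂ : ∃! M' : Subgroup H, IsCoatom M' ∧ (P : Subgroup H) ≤ M' := by
    have hne' : N'.subgroupOf H ≠ ⊤ := fun e => hHM ((Subgroup.subgroupOf_eq_top.1 e).trans hN'M)
    have hPN : (P : Subgroup H) ≤ N'.subgroupOf H := fun y hy => hSN (c.B_le_S (hsyl.toSylow_map.le ⟨y, hy, rfl⟩))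
    refine ⟨N'.subgroupOf H, ⟨⟨hne', fun K hK' => by_contra fun hK'' => hK'.not_ge (hbig K (hPN.trans hK'.le) hK'')⟩, hPN⟩, ?_⟩
    rintro K ⟨hK1, hK2⟩
    exact ((hK1.le_iff.1 (hbig K hK2 hK1.1)).resolve_left hne').symm
  set p₀ : H →* D := (c.pr.comp H.subtype).codRestrict D fun h => hHD.le (Subgroup.mem_map_of_mem _ h.2)
  set ψ : H →* Matrix.ProjectiveSpecialLinearGroup (Fin 2) F := (QuotientGroup.mk' _).comp (f.comp p₀)
  have hψ : Function.Surjective ψ := fun q => by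
    obtain ⟨s, rfl⟩ := QuotientGroup.mk'_surjective _ q
    obtain ⟨d, rfl⟩ := hf s
    obtain ⟨h, hh, e⟩ := hHD.ge d.2
    exact ⟨⟨h, hh⟩, congrArg (fun z => QuotientGroup.mk' (Subgroup.center SL(2, F)) (f z)) (Subtype.ext e : p₀ ⟨h, hh⟩ = d)⟩
  have hd : ∀ U : Subgroup ↥(P : Subgroup H), U ≠ ⊥ → U.Characteristic → ¬ (U.map (P : Subgroup H).subtype).Normal := by
    intro U hU hUc hUn
    let e : ↥(B0 S) ≃* ↥(P : Subgroup H) := ((B0 S).equivMapOfInjective _ (S : Subgroup G).subtype_injective).trans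
      (Subgroup.subgroupOfEquivOfLe hBH).symm
    haveI := PushingUpSingle.Block.Data.B0_char (S := S)
    have hUc' : (U.map e.symm.toMonoidHom).Characteristic := Subgroup.characteristic_iff_map_eq.2 fun φ => by
      have h := Subgroup.characteristic_iff_map_eq.1 hUc ((e.symm.trans φ).trans e)
      conv_rhs => rw [← h]
      rw [Subgroup.map_map, Subgroup.map_map]
      congr 1
      ext y
      simp
    set U' := (U.map e.symm.toMonoidHom).map (B0 S).subtype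
    have hU'c : U'.Characteristic :=
      PushingUpSingle.char_map_subtype (PushingUpSingle.Block.Data.B0_char (S := S)) hUc'
    have heq : U'.map (S : Subgroup G).subtype = (U.map (P : Subgroup H).subtype).map H.subtype := by
      rw [Subgroup.map_map, Subgroup.map_map, Subgroup.map_map]
      congr 1
      ext y
      obtain ⟨b, rfl⟩ := e.surjective y
      show (((e.symm (e b) : B0 S) : ↥(S : Subgroup G)) : G) = (((e b : ↥(P : Subgroup H)) : H) : G)
      rw [e.symm_apply_apply]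
      rfl
    have hU' : U' ≠ ⊥ := fun h => hU (by
      have h1 := (Subgroup.map_eq_bot_iff_of_injective _ (B0 S).subtype_injective).1 h
      exact (Subgroup.map_eq_bot_iff_of_injective _ e.symm.injective).1 h1)
    refine hHM (le_trans ?_ (c.hyp.normalizer_char_le hU'c hU'))
    rw [heq]
    calc H = (⊤ : Subgroup H).map H.subtype := by rw [← MonoidHom.range_eq_map, Subgroup.range_subtype]
      _ ≤ _ := (Subgroup.map_mono (Subgroup.normalizer_eq_top_iff.2 hUn).ge).trans (Subgroup.le_normalizer_map _)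
  obtain ⟨M', φ, X⟩ := PushingUpRankOne.exists_ctx P hE₁ hE₂ ψ.ker F n hn hF
    ⟨QuotientGroup.quotientKerEquivOfSurjective ψ hψ⟩ hd
  rcases X.cases with ⟨U₀, D'⟩ | ⟨hp, -⟩
  swap
  · exact absurd hp (by norm_num)
  intro y hy hcop o ho
  have hbase : PushingUpRankOne.baseV 2 (P : Subgroup H) ≤ (U1 S).subgroupOf H := by
    refine Subgroup.normalClosure_le_normal fun z hz => ?_
    obtain ⟨hzP, hzc, hzp⟩ := hz
    refine Subgroup.mem_sup_right (c.mem_Z_of (congrArg Subtype.val hzp) fun j hj => ?_)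
    exact congrArg Subtype.val (Subgroup.mem_centralizer_iff.1 hzc ⟨j, hBH (c.J_le_B hj)⟩ (c.J_le_B hj))
  exact hbase (PushingUpRankOne.OneData.fixesQ X.pre D' ⟨y, hy⟩ (by rwa [Subgroup.orderOf_mk]) ⟨o, hOH ho⟩
    (hOp (show (⟨o, hOH ho⟩ : H) ∈ (O S).subgroupOf H from ho)))

/-- The images of `U` do not all lie in `C_B(U)`. -/
theorem contra_of_images
    (hall : ∀ a ∈ A, up S (((U1 S).subgroupOf (S : Subgroup G)).map a.toMonoidHom) ≤ O S) : False := by
  classical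
  set U0 := (U1 S).subgroupOf (S : Subgroup G) with hU0
  set T0 : Subgroup ↥(S : Subgroup G) := ⨆ a : A, U0.map (a : MulAut ↥(S : Subgroup G)).toMonoidHom with hT0
  have hTle : up S T0 ≤ O S := by
    rw [up, hT0, Subgroup.map_iSup]
    exact iSup_le fun a => hall _ a.2
  have hUT : U1 S ≤ up S T0 := by
    rw [← Subgroup.map_subgroupOf_eq_of_le (c.U1_le_O.trans (c.O_le_B.trans c.B_le_S))]
    refine Subgroup.map_mono (le_iSup_of_le (1 : A) ?_)
    exact (Subgroup.map_id U0).ge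
  have hinv : ∀ a ∈ A, ∀ y ∈ T0, a y ∈ T0 := by
    intro a ha y hy
    have h1 : T0.map a.toMonoidHom ≤ T0 := by
      rw [hT0, Subgroup.map_iSup]
      refine iSup_le fun b => le_iSup_of_le (⟨a, ha⟩ * b) ?_
      rw [Subgroup.map_map]
      exact le_rfl
    exact h1 ⟨y, hy, rfl⟩
  have hSn : (S : Subgroup G) ≤ Subgroup.normalizer (up S T0 : Set G) := fun s hs => by
    refine map_conj_eq_iff.1 ?_
    rw [up, hT0, Subgroup.map_iSup, Subgroup.map_iSup]
    exact iSup_congr fun a => map_conj_eq_iff.2 ((c.member_map _).norm hs)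
  obtain ⟨H, hHM, hsyl, hodd⟩ := c.exists_rank_one
  have hHn : H ≤ Subgroup.normalizer (up S T0 : Set G) := by
    refine Subgroup.subgroupOf_eq_top.1 (eq_top_of_sylow _ hsyl.toSylow
      (fun y hy => hSn (c.B_le_S (hsyl.toSylow_map.le ⟨y, hy, rfl⟩))) fun y hy => ?_)
    refine map_conj_eq_iff.1 (Subgroup.eq_of_le_of_card_ge ?_ (card_cj (y : G) _).ge)
    rintro _ ⟨w, hw, rfl⟩
    show (y : G) * w * (y : G)⁻¹ ∈ up S T0
    have h1 := mul_mem (hUT (hodd y y.2 (by rwa [Subgroup.orderOf_coe]) w (hTle hw))) hw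
    rwa [inv_mul_cancel_right] at h1
  have htop : Subgroup.normalizer (up S T0 : Set G) = ⊤ := by
    by_contra e
    exact hHM (hHn.trans (c.hyp.overM _ hSn e))
  have hbot := c.hyp.none T0 (Subgroup.normalizer_eq_top_iff.1 htop) hinv
  have hV0 : Vp 2 G = ⊥ := by
    have h1 : Vp 2 G ≤ up S T0 := le_sup_left.trans hUT
    rwa [hbot, up, Subgroup.map_bot, le_bot_iff] at h1
  refine c.hyp.coatom.1 (top_le_iff.1 (le_trans (fun g _ => Subgroup.mem_centralizer_iff.2 fun v hv => ?_) c.hyp.C_le))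
  rw [hV0] at hv
  rw [Subgroup.mem_bot.1 hv, one_mul, mul_one]

/-- The configuration does not exist for a group of automorphisms of odd order. -/
theorem contra (hA : Odd (Nat.card A)) : False := c.contra_of_images fun _ ha => c.images_le hA ha

end Cfg

omit hC hV [IsMulCommutative (Vp 2 G)] in
/-- Some nontrivial invariant subgroup of the Sylow subgroup is normal. -/
theorem exists_normal (hirr : ∀ S : Sylow 2 G, ∃! M : Subgroup G, IsCoatom M ∧ (S : Subgroup G) ≤ M)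
    (hchar : Subgroup.centralizer (pCore 2 G : Set G) ≤ pCore 2 G) (S : Sylow 2 G)
    (A : Subgroup (MulAut ↥(S : Subgroup G))) (hA : Odd (Nat.card A)) :
    ∃ U : Subgroup G, U ≠ ⊥ ∧ U.Normal ∧ U ≤ (S : Subgroup G) ∧
      ∀ a ∈ A, ∀ x : ↥(S : Subgroup G), (x : G) ∈ U → ((a x : ↥(S : Subgroup G)) : G) ∈ U := by
  by_contra hno
  obtain ⟨M, ⟨hM, hSM⟩, huniq⟩ := hirr S
  have h : Hyp S M A := by
    refine ⟨hchar, hM, hSM, fun K hK hK' => ?_, fun T hT hinv => ?_⟩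
    · obtain ⟨M', hM', hle⟩ := (eq_top_or_exists_le_coatom K).resolve_left hK'
      exact hle.trans (huniq M' ⟨hM', hK.trans hle⟩).le
    · by_contra hne
      refine hno ⟨T.map (S : Subgroup G).subtype,
        fun e => hne ((Subgroup.map_eq_bot_iff_of_injective _ (S : Subgroup G).subtype_injective).1 e), hT,
        Subgroup.map_subtype_le _, fun a ha x hx => ?_⟩
      obtain ⟨y, hy, e⟩ := hx
      obtain rfl : y = x := Subtype.ext e
      exact ⟨a y, hinv a ha y hy, rfl⟩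
  haveI : (Cp 2 G).Normal := Cp_normal
  haveI : (Vp 2 G).Normal := Vp_normal
  haveI : IsMulCommutative (Vp 2 G) := (omc_isEA _).1
  obtain ⟨ρ, T, c⟩ := exists_cfg h
  exact c.contra hA

end CfsgLib.PushingUpOdd
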