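import Cfsg.Agent.Lib.PushingUpOdd.Baumann
import Mathlib.GroupTheory.Perm.Cycle.Type

/-!
The images of `U` under a group of odd order all lie in `C_B(U)`.
-/

set_option autoImplicit false
set_option linter.unusedSectionVars false
set_option linter.style.haveILetI false

open scoped IsMulCommutative commutatorElement

namespace CfsgLib.PushingUpOdd

open Cfsg CfsgLib.LocalEven.RankOneFF CfsgLib.LocalEven.SylowIn CfsgLib.LocalEven.MovesFixed
open CfsgLib.Fusion.Thompson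
open PushingUpSingle.Block.Data (Z0 B0 Z B U1 O mem_Z_iff mem_B_iff)

variable {G : Type*} [Group G] [Finite G] [Fact (Nat.Prime 2)] [hC : (Cp 2 G).Normal]
  [IsMulCommutative (Vp 2 G)] [hV : (Vp 2 G).Normal]
  {S : Sylow 2 G} {M : Subgroup G} {A : Subgroup (MulAut ↥(S : Subgroup G))}
  {ρ : G ⧸ Cp 2 G →* AddMonoid.End (Additive (Vp 2 G))} {T : Sylow 2 (G ⧸ Cp 2 G)}

namespace Cfg

/-- What an image of `U` inherits. -/
structure Member (c : Cfg S M A ρ T) (W : Subgroup G) : Prop where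
  le : W ≤ B S
  ge : Z S ≤ W
  comm : ∀ a ∈ W, ∀ b ∈ W, a * b = b * a
  pow : ∀ a ∈ W, a ^ 2 = 1
  norm : (S : Subgroup G) ≤ Subgroup.normalizer (W : Set G)
  card : Nat.card W = Nat.card (U1 S)
  cent : Nat.card (B S) = Nat.card (PushingUpOdd.roots ρ (T : Subgroup (G ⧸ Cp 2 G))) *
    Nat.card (B S ⊓ Subgroup.centralizer (W : Set G) : Subgroup G)

variable (c : Cfg S M A ρ T) {W W' : Subgroup G}

include c in
/-- An element trivial on `O` modulo `U` centralises the commutators in `O`. -/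
theorem fixer_commute {g o o' : G} (hgo : ∃ u ∈ U1 S, g * o * g⁻¹ = u * o)
    (hgo' : ∃ u ∈ U1 S, g * o' * g⁻¹ = u * o') (ho : o ∈ O S) (ho' : o' ∈ O S) :
    g * (o * o' * o⁻¹ * o'⁻¹) = (o * o' * o⁻¹ * o'⁻¹) * g := by
  obtain ⟨u, hu, e⟩ := hgo
  obtain ⟨u', hu', e'⟩ := hgo'
  have h1 : o * u' = u' * o := (Subgroup.mem_centralizer_iff.1 ho.2 u' hu').symm
  have h2 : o' * u = u * o' := (Subgroup.mem_centralizer_iff.1 ho'.2 u hu).symm
  have h2' : o' * u⁻¹ = u⁻¹ * o' := (Commute.inv_right h2 :)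
  refine mul_inv_eq_iff_eq_mul.1 ?_
  calc g * (o * o' * o⁻¹ * o'⁻¹) * g⁻¹ = (g * o * g⁻¹) * (g * o' * g⁻¹) * (g * o * g⁻¹)⁻¹ * (g * o' * g⁻¹)⁻¹ := by group
    _ = u * (o * u') * (o' * o⁻¹) * u⁻¹ * o'⁻¹ * u'⁻¹ := by rw [e, e']; group
    _ = (u * u') * (o * o' * o⁻¹) * u⁻¹ * o'⁻¹ * u'⁻¹ := by rw [h1]; group
    _ = (u * u') * (o * o' * o⁻¹ * o'⁻¹) * (o' * u⁻¹) * o'⁻¹ * u'⁻¹ := by group
    _ = (u * u') * (o * o' * o⁻¹ * o'⁻¹) * (u * u')⁻¹ := by
      rw [h2', c.U1_comm hu hu']; group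
    _ = _ := by
      have hm : o * o' * o⁻¹ * o'⁻¹ ∈ O S := mul_mem (mul_mem (mul_mem ho ho') (inv_mem ho)) (inv_mem ho')
      rw [Subgroup.mem_centralizer_iff.1 hm.2 _ (mul_mem hu hu'), mul_inv_cancel_right]

section

variable (m : c.Member W) (hW : ¬ W ≤ O S)
include m hW

theorem mem_Z_of_comm {v : G} (hv : v ∈ Vp 2 G) (hcm : ∀ w ∈ W, w * v = v * w) : v ∈ Z S := by
  have hle : W.map c.pr ≤ PushingUpOdd.roots ρ (T : Subgroup (G ⧸ Cp 2 G)) := (Subgroup.map_mono m.le).trans c.map_B.le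
  have hne : W.map c.pr ≠ ⊥ := fun e => hW fun w hw => c.B_inf_C.le
    ⟨m.le hw, c.pr_eq_one.1 ((Subgroup.mem_bot).1 (e ▸ Subgroup.mem_map_of_mem _ hw))⟩
  have hinv : (T : Subgroup (G ⧸ Cp 2 G)) ≤ Subgroup.normalizer ((W.map c.pr : Subgroup (G ⧸ Cp 2 G)) : Set _) :=
    c.eqT.le.trans ((Subgroup.map_mono m.norm).trans (Subgroup.le_normalizer_map c.pr))
  exact (c.mem_Z_iff_fx (Additive.ofMul ⟨v, hv⟩)).2
    (c.roots.fx_invariant hle hne hinv ((c.mem_fx_map_iff W _).2 hcm))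

theorem Z_comm {z : G} (hz : z ∈ Z S) {w : G} (hw : w ∈ W) : w * z = z * w := m.comm _ hw _ (m.ge hz)

theorem U1_inf_cent : U1 S ⊓ Subgroup.centralizer (W : Set G) ≤ Z S := by
  intro u hu
  obtain ⟨v, hv, z, hz, rfl⟩ := c.mem_U1 hu.1
  refine mul_mem (c.mem_Z_of_comm m hW hv fun w hw => ?_) hz
  have e1 := Subgroup.mem_centralizer_iff.1 hu.2 w hw
  have e2 := c.Z_comm m hW hz hw
  exact mul_right_cancel (b := z) (by
    calc w * v * z = w * (v * z) := mul_assoc _ _ _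
      _ = v * z * w := e1
      _ = v * (w * z) := by rw [mul_assoc, e2]
      _ = v * w * z := (mul_assoc _ _ _).symm)

theorem exists_U1_cent {b : G} (hb : b ∈ B S) :
    ∃ u ∈ U1 S, ∃ d ∈ B S, (∀ w ∈ W, w * d = d * w) ∧ b = u * d := by
  haveI := c.U1_normal
  set D := B S ⊓ Subgroup.centralizer (W : Set G)
  have h1 := card_sup_mul_card_inf (N := U1 S) (K := D) ((Subgroup.normalizer_eq_top_iff.2 c.U1_normal).ge.trans' le_top)
  have h2 : Nat.card (U1 S ⊓ D : Subgroup G) ≤ Nat.card (Z S) :=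
    Subgroup.card_le_of_le ((inf_le_inf_left _ inf_le_right).trans (c.U1_inf_cent m hW))
  have h3 : Nat.card (B S) ≤ Nat.card (U1 S ⊔ D : Subgroup G) := by
    refine Nat.le_of_mul_le_mul_right ?_ (Nat.card_pos (α := Z S))
    calc Nat.card (B S) * Nat.card (Z S) = Nat.card (U1 S) * Nat.card D := by rw [m.cent, c.card_U1]; ring
      _ = Nat.card (U1 S ⊔ D : Subgroup G) * Nat.card (U1 S ⊓ D : Subgroup G) := h1.symm
      _ ≤ _ := Nat.mul_le_mul_left _ h2
  have hb' : b ∈ ((U1 S ⊔ D : Subgroup G) : Set G) := by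
    rw [Subgroup.eq_of_le_of_card_ge (sup_le (c.U1_le_O.trans c.O_le_B) inf_le_left) h3]
    exact hb
  rw [Subgroup.normal_mul] at hb'
  obtain ⟨u, hu, d, hd, rfl⟩ := hb'
  exact ⟨u, hu, d, hd.1, Subgroup.mem_centralizer_iff.1 hd.2, rfl⟩

theorem inf_O_le : W ⊓ O S ≤ Z S := by
  intro w hw
  refine c.mem_Z_of (m.pow w hw.1) fun j hj => ?_
  obtain ⟨u, hu, d, -, hd, rfl⟩ := c.exists_U1_cent m hW (c.J_le_B hj)
  have e1 : u * w = w * u := Subgroup.mem_centralizer_iff.1 hw.2.2 u hu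
  calc u * d * w = u * (w * d) := by rw [hd w hw.1, mul_assoc]
    _ = w * (u * d) := by rw [← mul_assoc, e1, mul_assoc]

theorem map_eq : W.map c.pr = PushingUpOdd.roots ρ (T : Subgroup (G ⧸ Cp 2 G)) := by
  refine Subgroup.eq_of_le_of_card_ge ((Subgroup.map_mono m.le).trans c.map_B.le) ?_
  have := Subgroup.card_eq_card_quotient_mul_card_subgroup (c.pr.comp W.subtype).ker
  rw [Nat.card_congr (QuotientGroup.quotientKerEquivRange _).toEquiv, MonoidHom.range_comp, Subgroup.range_subtype,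
    m.card, c.card_U1] at this
  have h2 : Nat.card (c.pr.comp W.subtype).ker ≤ Nat.card (Z S) := by
    refine Nat.card_le_card_of_injective (fun x => (⟨((x : W) : G), c.inf_O_le m hW ⟨(x : W).2,
      c.B_inf_C.le ⟨m.le (x : W).2, c.pr_eq_one.1 x.2⟩⟩⟩ : Z S)) fun x y e => Subtype.ext (Subtype.ext ?_)
    exact congrArg (fun z : Z S => (z : G)) e
  exact Nat.le_of_mul_le_mul_right (this.le.trans (Nat.mul_le_mul_left _ h2)) (Nat.card_pos (α := Z S))

/-- `B = W V C_C(W)`. -/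
theorem exists_dec {b : G} (hb : b ∈ B S) :
    ∃ w ∈ W, ∃ v : Vp 2 G, ∃ k ∈ O S, (∀ w ∈ W, w * k = k * w) ∧ b = w * v * k := by
  obtain ⟨w, hw, e⟩ : c.pr b ∈ W.map c.pr := c.map_eq m hW ▸ c.map_B ▸ Subgroup.mem_map_of_mem _ hb
  have ho : w⁻¹ * b ∈ O S := c.B_inf_C.le <| Subgroup.mem_inf.2
    ⟨mul_mem (inv_mem (m.le hw)) hb, c.pr_eq_one.1 (by rw [map_mul, map_inv, e, inv_mul_cancel])⟩
  obtain ⟨u, hu, d, hdB, hd, e'⟩ := c.exists_U1_cent m hW (c.O_le_B ho)
  obtain ⟨v, hv, z, hz, rfl⟩ := c.mem_U1 hu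
  have hk : z * d ∈ O S := by
    have : v⁻¹ * (w⁻¹ * b) ∈ O S := mul_mem (inv_mem (c.V_le_O hv)) ho
    rwa [e', mul_assoc v, inv_mul_cancel_left] at this
  refine ⟨w, hw, ⟨v, hv⟩, z * d, hk, fun x hx => ?_, ?_⟩
  · calc x * (z * d) = z * (x * d) := by rw [← mul_assoc, c.Z_comm m hW hz hx, mul_assoc]
      _ = z * d * x := by rw [hd x hx, mul_assoc]
  · show b = w * v * (z * d)
    rw [mul_assoc w, ← mul_assoc v z, ← e', mul_inv_cancel_left]

/-- The elements acting trivially on `O` modulo `U`. -/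
theorem exists_fixer : ∃ Γ : Subgroup G, Γ.Normal ∧ W ≤ Γ ∧
    ∀ g ∈ Γ, ∀ o ∈ O S, ∃ u ∈ U1 S, g * o * g⁻¹ = u * o := by
  haveI := c.U1_normal
  haveI := c.O_normal
  haveI : ((O S).map (QuotientGroup.mk' (U1 S))).Normal :=
    Subgroup.Normal.map inferInstance _ (QuotientGroup.mk'_surjective _)
  refine ⟨(Subgroup.centralizer ((O S).map (QuotientGroup.mk' (U1 S)) : Set (G ⧸ U1 S))).comap (QuotientGroup.mk' (U1 S)),
    inferInstance, fun w hw => Subgroup.mem_centralizer_iff.2 ?_, fun g hg o ho => ?_⟩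
  · rintro _ ⟨o, ho, rfl⟩
    obtain ⟨u, hu, d, -, hd, rfl⟩ := c.exists_U1_cent m hW (c.O_le_B ho)
    rw [map_mul, show QuotientGroup.mk' (U1 S) u = 1 from (QuotientGroup.eq_one_iff u).2 hu, one_mul, ← map_mul,
      ← map_mul, hd w hw]
  · refine ⟨g * o * g⁻¹ * o⁻¹, (QuotientGroup.eq_one_iff _).1 ?_, (inv_mul_cancel_right _ _).symm⟩
    have e := Subgroup.mem_centralizer_iff.1 hg _ (Subgroup.mem_map_of_mem _ ho)
    show QuotientGroup.mk' (U1 S) (g * o * g⁻¹ * o⁻¹) = 1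
    rw [map_mul, map_mul, map_mul, map_inv, map_inv, ← e, mul_inv_cancel_right, mul_inv_cancel]

theorem fixed_of_commute {P : G → Prop} {v : Vp 2 G} (hP : ∀ g, P g → g * (v : G) = (v : G) * g)
    (hΓ : ∀ Γ : Subgroup G, Γ.Normal → W ≤ Γ → (∀ g ∈ Γ, ∀ o ∈ O S, ∃ u ∈ U1 S, g * o * g⁻¹ = u * o) →
      ∀ g ∈ Γ, P g) :
    Additive.ofMul v ∈ fx ρ (Subgroup.normalClosure
      (PushingUpOdd.roots ρ (T : Subgroup (G ⧸ Cp 2 G)) : Set (G ⧸ Cp 2 G))) := by
  obtain ⟨Γ, hn, hWΓ, hg⟩ := c.exists_fixer m hW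
  haveI := hn.map c.pr c.pr_surjective
  refine fx_anti ρ (Subgroup.normalClosure_le_normal ((c.map_eq m hW).ge.trans (Subgroup.map_mono hWΓ))) ?_
  exact (c.mem_fx_map_iff Γ _).2 fun g hgΓ => hP g (hΓ Γ hn hWΓ hg g hgΓ)

theorem sq_fixed {o : G} (ho : o ∈ O S) {v : Vp 2 G} (hv : (v : G) = o * o) :
    Additive.ofMul v ∈ fx ρ (Subgroup.normalClosure
      (PushingUpOdd.roots ρ (T : Subgroup (G ⧸ Cp 2 G)) : Set (G ⧸ Cp 2 G))) := by
  refine c.fixed_of_commute m hW (P := fun g => g * (v : G) = (v : G) * g) (fun _ h => h) fun Γ _ _ hg g hgΓ => ?_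
  obtain ⟨u, hu, e⟩ := hg g hgΓ o ho
  have huo : o * u = u * o := (Subgroup.mem_centralizer_iff.1 ho.2 u hu).symm
  rw [hv]
  refine mul_inv_eq_iff_eq_mul.1 ?_
  calc g * (o * o) * g⁻¹ = (g * o * g⁻¹) * (g * o * g⁻¹) := by group
    _ = u * (o * u) * o := by rw [e]; group
    _ = (u * u) * (o * o) := by rw [huo]; group
    _ = o * o := by rw [← pow_two u, c.U1_pow hu, one_mul]

theorem comm_fixed {o o' : G} (ho : o ∈ O S) (ho' : o' ∈ O S) {v : Vp 2 G} (hv : (v : G) = o * o' * o⁻¹ * o'⁻¹) :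
    Additive.ofMul v ∈ fx ρ (Subgroup.normalClosure
      (PushingUpOdd.roots ρ (T : Subgroup (G ⧸ Cp 2 G)) : Set (G ⧸ Cp 2 G))) :=
  c.fixed_of_commute m hW (P := fun g => g * (v : G) = (v : G) * g) (fun _ h => h) fun _ _ _ hg g hgΓ =>
    hv ▸ c.fixer_commute (hg g hgΓ o ho) (hg g hgΓ o' ho') ho ho'

end

/-- Two images outside `C_B(U)` are equal. -/
theorem member_unique (m : c.Member W) (m' : c.Member W') (hW : ¬ W ≤ O S) (hW' : ¬ W' ≤ O S) : W = W' := by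
  have hvk : ∀ {k : G}, k ∈ O S → ∀ v : Vp 2 G, k * (v : G) = (v : G) * k := fun hk v =>
    (Subgroup.mem_centralizer_iff.1 hk.2 _ (Subgroup.mem_sup_left v.2)).symm
  have hconj : ∀ (g : G) (v : Vp 2 G), g * (v : G) * g⁻¹ = ((Additive.toMul (ρ (c.pr g) (Additive.ofMul v)) : Vp 2 G) : G) :=
    fun g v => (c.coe_act g _).symm
  let P : G ⧸ Cp 2 G → Additive (Vp 2 G) → Prop := fun x v =>
    ∃ w ∈ W, ∃ k ∈ O S, (∀ y ∈ W, y * k = k * y) ∧ c.pr w = x ∧ w * ((Additive.toMul v : Vp 2 G) : G) * k ∈ W'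
  have hpr : ∀ {w : G} (v : Vp 2 G) {k : G}, k ∈ O S → c.pr (w * v * k) = c.pr w := fun {w} v {k} hk => by
    rw [map_mul, map_mul, c.pr_eq_one.2 (pCore_le_Cp hk.1), c.pr_eq_one.2 (c.U1_le_C (Subgroup.mem_sup_left v.2)),
      mul_one, mul_one]
  have hcov : ∀ x ∈ PushingUpOdd.roots ρ (T : Subgroup (G ⧸ Cp 2 G)), ∃ v, P x v := by
    intro x hx
    obtain ⟨w', hw', rfl⟩ : x ∈ W'.map c.pr := (c.map_eq m' hW').ge hx
    obtain ⟨w, hw, v, k, hk, hkW, e⟩ := c.exists_dec m hW (m'.le hw')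
    exact ⟨Additive.ofMul v, w, hw, k, hk, hkW, by rw [e, hpr v hk], show w * (v : G) * k ∈ W' from e ▸ hw'⟩
  have hfix : ∀ x v, P x v → ρ x v - v ∈ fx ρ (Subgroup.normalClosure
      (PushingUpOdd.roots ρ (T : Subgroup (G ⧸ Cp 2 G)) : Set (G ⧸ Cp 2 G))) := by
    rintro x v ⟨w, hw, k, hk, hkW, rfl, hmem⟩
    refine c.sq_fixed m hW (o := k⁻¹) (inv_mem hk) (v := Additive.toMul (ρ (c.pr w) v - v)) ?_
    set u : Vp 2 G := Additive.toMul v
    rw [toMul_sub, div_eq_mul_inv, Subgroup.coe_mul, c.coe_act, Subgroup.coe_inv]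
    have hsq : w * (u : G) * k * (w * (u : G) * k) = 1 := (pow_two _).symm.trans (m'.pow _ hmem)
    have hw2 : w⁻¹ = w := inv_eq_of_mul_eq_one_right (by rw [← pow_two]; exact m.pow w hw)
    have hu2 : (u : G)⁻¹ = u := inv_eq_of_mul_eq_one_right (by
      rw [← pow_two]; exact c.U1_pow (Subgroup.mem_sup_left u.2))
    show w * (u : G) * w⁻¹ * (u : G)⁻¹ = k⁻¹ * k⁻¹
    rw [hw2, hu2]
    have e : w * (u : G) * w * (u : G) * (k * k) = 1 := by
      calc w * (u : G) * w * (u : G) * (k * k) = w * (u : G) * (w * ((u : G) * k)) * k := by group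
        _ = w * (u : G) * (w * (k * (u : G))) * k := by rw [hvk hk]
        _ = w * (u : G) * ((w * k) * (u : G)) * k := by group
        _ = w * (u : G) * ((k * w) * (u : G)) * k := by rw [hkW w hw]
        _ = w * (u : G) * k * (w * (u : G) * k) := by group
        _ = 1 := hsq
    rw [← mul_inv_rev]
    exact eq_inv_of_mul_eq_one_left e
  have hmul : ∀ x y v v', P x v → P y v' →
      ∃ d ∈ fx ρ (PushingUpOdd.roots ρ (T : Subgroup (G ⧸ Cp 2 G))), P (x * y) (v + v' + d) := by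
    rintro x y v v' ⟨w, hw, k, hk, hkW, rfl, hmem⟩ ⟨w₂, hw₂, k₂, hk₂, hk₂W, rfl, hmem₂⟩
    refine ⟨ρ (c.pr w₂⁻¹) v - v, c.roots.comm_mem_roots_fx
      ((c.map_eq m hW).le (Subgroup.mem_map_of_mem _ (inv_mem hw₂))) v, w * w₂, mul_mem hw hw₂, k * k₂,
      mul_mem hk hk₂, fun y hy => by rw [← mul_assoc, hkW y hy, mul_assoc, hk₂W y hy, mul_assoc], map_mul _ _ _, ?_⟩
    rw [show v + v' + (ρ (c.pr w₂⁻¹) v - v) = ρ (c.pr w₂⁻¹) v + v' by abel, toMul_add, Subgroup.coe_mul, c.coe_act]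
    have hm := mul_mem hmem hmem₂
    convert hm using 1
    set a := ((Additive.toMul v : Vp 2 G) : G)
    set b := ((Additive.toMul v' : Vp 2 G) : G)
    calc w * w₂ * (w₂⁻¹ * a * w₂⁻¹⁻¹ * b) * (k * k₂) = w * a * (w₂ * (b * k)) * k₂ := by group
      _ = w * a * (w₂ * (k * b)) * k₂ := by rw [hvk hk]
      _ = w * a * ((w₂ * k) * b) * k₂ := by group
      _ = w * a * ((k * w₂) * b) * k₂ := by rw [hkW w₂ hw₂]
      _ = _ := by group
  have hWk : ∀ w' ∈ W', ∃ w ∈ W, ∃ k ∈ O S, (∀ y ∈ W, y * k = k * y) ∧ w' = w * k := by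
    intro w' hw'
    obtain ⟨w, hw, v, k, hk, hkW, rfl⟩ := c.exists_dec m hW (m'.le hw')
    have hz : (v : G) ∈ Z S := (c.mem_Z_iff_fx (Additive.ofMul v)).2
      (c.roots.rigid hcov hfix hmul ((c.map_eq m hW).le (Subgroup.mem_map_of_mem _ hw))
        (v := Additive.ofMul v) ⟨w, hw, k, hk, hkW, rfl, hw'⟩)
    exact ⟨w * v, mul_mem hw (m.ge hz), k, hk, hkW, rfl⟩
  -- the centralisers are equal
  have hle : B S ⊓ Subgroup.centralizer (W' : Set G) ≤ B S ⊓ Subgroup.centralizer (W : Set G) := by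
    intro b hb
    obtain ⟨w, hw, v, k, hk, hkW, rfl⟩ := c.exists_dec m hW hb.1
    have hz : (v : G) ∈ Z S := by
      refine (c.mem_Z_iff_fx (Additive.ofMul v)).2 (c.roots.mem_fx_roots_of_comm fun x hx => ?_)
      obtain ⟨w', hw', rfl⟩ : x ∈ W'.map c.pr := (c.map_eq m' hW').ge hx
      obtain ⟨w₁, hw₁, k₁, hk₁, hk₁W, rfl⟩ := hWk w' hw'
      rw [map_mul, c.pr_eq_one.2 (pCore_le_Cp hk₁.1), mul_one]
      refine c.comm_fixed m hW (o := k₁) (o' := k) hk₁ hk
        (v := Additive.toMul (ρ (c.pr w₁) (Additive.ofMul v) - Additive.ofMul v)) ?_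
      rw [toMul_sub, div_eq_mul_inv, Subgroup.coe_mul, c.coe_act, Subgroup.coe_inv]
      show w₁ * (v : G) * w₁⁻¹ * (v : G)⁻¹ = k₁ * k * k₁⁻¹ * k⁻¹
      have e := Subgroup.mem_centralizer_iff.1 hb.2 _ hw'
      have hww : w₁ * w = w * w₁ := m.comm _ hw₁ _ hw
      have e1 : w * (w₁ * (v : G) * (k₁ * k)) = w * ((v : G) * w₁ * (k * k₁)) := by
        calc w * (w₁ * (v : G) * (k₁ * k)) = (w * w₁) * (((v : G) * k₁) * k) := by group
          _ = (w₁ * w) * ((k₁ * (v : G)) * k) := by rw [hww, hvk hk₁]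
          _ = w₁ * (w * k₁) * ((v : G) * k) := by group
          _ = w₁ * (k₁ * w) * ((v : G) * k) := by rw [hk₁W w hw]
          _ = w₁ * k₁ * (w * (v : G) * k) := by group
          _ = w * (v : G) * k * (w₁ * k₁) := e
          _ = w * ((v : G) * (k * w₁) * k₁) := by group
          _ = w * ((v : G) * (w₁ * k) * k₁) := by rw [hkW w₁ hw₁]
          _ = _ := by group
      have e2 := mul_left_cancel e1
      have e3 : w₁ * (v : G) = (v : G) * w₁ * (k * k₁ * k⁻¹ * k₁⁻¹) := by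
        calc w₁ * (v : G) = w₁ * (v : G) * (k₁ * k) * (k₁ * k)⁻¹ := (mul_inv_cancel_right _ _).symm
          _ = (v : G) * w₁ * (k * k₁) * (k₁ * k)⁻¹ := by rw [e2]
          _ = _ := by group
      set d := k * k₁ * k⁻¹ * k₁⁻¹
      have hd : d ∈ O S := mul_mem (mul_mem (mul_mem hk hk₁) (inv_mem hk)) (inv_mem hk₁)
      have hdv : d * (v : G) = (v : G) * d := hvk hd v
      have hdw : w₁ * d = d * w₁ := by
        have hc1 : Commute w₁ k := hkW w₁ hw₁
        have hc2 : Commute w₁ k₁ := hk₁W w₁ hw₁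
        exact ((hc1.mul_right hc2).mul_right hc1.inv_right).mul_right hc2.inv_right
      have e4 : w₁ * (v : G) * w₁⁻¹ * (v : G)⁻¹ = d := by
        calc w₁ * (v : G) * w₁⁻¹ * (v : G)⁻¹ = (v : G) * (w₁ * d) * w₁⁻¹ * (v : G)⁻¹ := by rw [e3]; group
          _ = (v : G) * (d * w₁) * w₁⁻¹ * (v : G)⁻¹ := by rw [hdw]
          _ = ((v : G) * d) * (v : G)⁻¹ := by group
          _ = d := by rw [← hdv, mul_inv_cancel_right]
      have hinv : d⁻¹ = k₁ * k * k₁⁻¹ * k⁻¹ := by simp only [d]; group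
      rw [← hinv, e4]
      refine (inv_eq_of_mul_eq_one_right ?_).symm
      rw [← pow_two, ← e4]
      exact c.U1_pow (Subgroup.mem_sup_left (mul_mem (hV.conj_mem _ v.2 w₁) (inv_mem v.2)))
    exact ⟨hb.1, Subgroup.mem_centralizer_iff.2 fun y hy => by
      have h1 : Commute y w := m.comm _ hy _ hw
      have h2 : Commute y (v : G) := m.comm _ hy _ (m.ge hz)
      have h3 : Commute y k := hkW y hy
      exact ((h1.mul_right h2).mul_right h3).eq⟩
  have heq := Subgroup.eq_of_le_of_card_ge hle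
    (Nat.le_of_mul_le_mul_left (m.cent.symm.trans m'.cent).le Nat.card_pos)
  have hsub : W' ≤ W := by
    intro w' hw'
    obtain ⟨w, hw, k, hk, hkW, rfl⟩ := hWk w' hw'
    refine mul_mem hw (m.ge (c.mem_Z_of ?_ fun j hj => ?_))
    · have hc : Commute w k := hkW w hw
      have := m'.pow _ hw'
      rwa [hc.mul_pow, m.pow w hw, one_mul] at this
    · obtain ⟨u, hu, d, hdB, hd, rfl⟩ := c.exists_U1_cent m hW (c.J_le_B hj)
      have h1 : (w * k) * d = d * (w * k) :=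
        Subgroup.mem_centralizer_iff.1 (heq.ge ⟨hdB, Subgroup.mem_centralizer_iff.2 hd⟩).2 _ hw'
      have h2 : k * d = d * k := by
        refine mul_left_cancel (a := w) ?_
        calc w * (k * d) = d * (w * k) := (mul_assoc _ _ _).symm.trans h1
          _ = w * (d * k) := by rw [← mul_assoc, ← hd w hw, mul_assoc]
      have h3 : u * k = k * u := Subgroup.mem_centralizer_iff.1 hk.2 u hu
      calc u * d * k = u * (k * d) := by rw [h2, mul_assoc]
        _ = k * (u * d) := by rw [← mul_assoc, h3, mul_assoc]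
  exact (Subgroup.eq_of_le_of_card_ge hsub (by rw [m.card, m'.card])).symm

/-- The image of a subgroup of `S`. -/
abbrev up (S : Sylow 2 G) (X : Subgroup ↥(S : Subgroup G)) : Subgroup G := X.map (S : Subgroup G).subtype

theorem member_map (a : MulAut ↥(S : Subgroup G)) :
    c.Member (up S (((U1 S).subgroupOf (S : Subgroup G)).map a.toMonoidHom)) := by
  set U0 := (U1 S).subgroupOf (S : Subgroup G)
  have hinj := (S : Subgroup G).subtype_injective
  have hU : up S U0 = U1 S := Subgroup.map_subgroupOf_eq_of_le (c.U1_le_O.trans (c.O_le_B.trans c.B_le_S))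
  haveI := PushingUpSingle.Block.Data.Z0_char (S := S)
  haveI := PushingUpSingle.Block.Data.B0_char (S := S)
  have hB : (B0 S).map a.toMonoidHom = B0 S := Subgroup.characteristic_iff_map_eq.1 inferInstance a
  have hZ : (Z0 S).map a.toMonoidHom = Z0 S := Subgroup.characteristic_iff_map_eq.1 inferInstance a
  have hmemU : ∀ {x}, x ∈ U0 → (x : G) ∈ U1 S := fun hx => Subgroup.mem_subgroupOf.1 hx
  refine ⟨Subgroup.map_mono (hB ▸ Subgroup.map_mono ?_), Subgroup.map_mono (hZ ▸ Subgroup.map_mono ?_), ?_, ?_, ?_, ?_, ?_⟩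
  · exact (Subgroup.map_le_map_iff_of_injective hinj).1 (hU.le.trans (c.U1_le_O.trans c.O_le_B))
  · exact (Subgroup.map_le_map_iff_of_injective hinj).1 (le_sup_right.trans hU.ge)
  · rintro _ ⟨_, ⟨x, hx, rfl⟩, rfl⟩ _ ⟨_, ⟨y, hy, rfl⟩, rfl⟩
    have : x * y = y * x := Subtype.ext (c.U1_comm (hmemU hx) (hmemU hy))
    rw [← map_mul, ← map_mul, ← map_mul, ← map_mul, this]
  · rintro _ ⟨_, ⟨x, hx, rfl⟩, rfl⟩
    have : x ^ 2 = 1 := Subtype.ext (c.U1_pow (hmemU hx))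
    rw [← map_pow, ← map_pow, this, map_one, map_one]
  · haveI := c.U1_normal
    haveI : (U0.map a.toMonoidHom).Normal := Subgroup.Normal.map inferInstance _ a.surjective
    calc (S : Subgroup G) = (⊤ : Subgroup ↥(S : Subgroup G)).map (S : Subgroup G).subtype := by
          rw [← MonoidHom.range_eq_map, Subgroup.range_subtype]
      _ ≤ _ := (Subgroup.map_mono (Subgroup.normalizer_eq_top_iff.2 ‹(U0.map a.toMonoidHom).Normal›).ge).trans
          (Subgroup.le_normalizer_map _)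
  · rw [← hU, Subgroup.card_map_of_injective hinj, Subgroup.card_map_of_injective hinj,
      Subgroup.card_map_of_injective (f := a.toMonoidHom) a.injective]
  · have hcen : ∀ X : Subgroup ↥(S : Subgroup G), B S ⊓ Subgroup.centralizer (up S X : Set G) =
        up S (B0 S ⊓ Subgroup.centralizer (X : Set ↥(S : Subgroup G))) := by
      intro X
      apply le_antisymm
      · rintro _ ⟨⟨b, hb, rfl⟩, hb'⟩
        exact ⟨b, ⟨hb, Subgroup.mem_centralizer_iff.2 fun x hx => Subtype.ext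
          (Subgroup.mem_centralizer_iff.1 hb' _ ⟨x, hx, rfl⟩)⟩, rfl⟩
      · rintro _ ⟨b, hb, rfl⟩
        refine ⟨⟨b, hb.1, rfl⟩, Subgroup.mem_centralizer_iff.2 ?_⟩
        rintro _ ⟨x, hx, rfl⟩
        exact congrArg Subtype.val (Subgroup.mem_centralizer_iff.1 hb.2 x hx)
    have hmap : (B0 S ⊓ Subgroup.centralizer (U0 : Set ↥(S : Subgroup G))).map a.toMonoidHom =
        B0 S ⊓ Subgroup.centralizer ((U0.map a.toMonoidHom : Subgroup _) : Set ↥(S : Subgroup G)) := by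
      rw [Subgroup.map_inf _ _ _ a.injective, hB]
      congr 1
      ext y
      constructor
      · rintro ⟨y, hy, rfl⟩
        refine Subgroup.mem_centralizer_iff.2 ?_
        rintro _ ⟨x, hx, rfl⟩
        rw [← map_mul, ← map_mul, Subgroup.mem_centralizer_iff.1 hy x hx]
      · intro hy
        refine ⟨a.symm y, Subgroup.mem_centralizer_iff.2 fun x hx => a.injective ?_, a.apply_symm_apply y⟩
        rw [map_mul, map_mul, a.apply_symm_apply]
        exact Subgroup.mem_centralizer_iff.1 hy _ ⟨x, hx, rfl⟩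
    have h1 : ∀ X : Subgroup ↥(S : Subgroup G), Nat.card (up S (X.map a.toMonoidHom)) = Nat.card (up S X) := fun X => by
      rw [Subgroup.card_map_of_injective hinj, Subgroup.card_map_of_injective hinj,
        Subgroup.card_map_of_injective (f := a.toMonoidHom) a.injective]
    rw [hcen, ← hmap, h1, ← hcen, hU, c.B_inf_cent]
    exact c.card_B

include c in
/-- All images lie in `C_B(U)`. -/
theorem images_le (hA : Odd (Nat.card A)) {a : MulAut ↥(S : Subgroup G)} (ha : a ∈ A) :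
    up S (((U1 S).subgroupOf (S : Subgroup G)).map a.toMonoidHom) ≤ O S := by
  classical
  set U0 := (U1 S).subgroupOf (S : Subgroup G)
  have hinj := (S : Subgroup G).subtype_injective
  have hU : up S U0 = U1 S := Subgroup.map_subgroupOf_eq_of_le (c.U1_le_O.trans (c.O_le_B.trans c.B_le_S))
  let nc : Subgroup ↥(S : Subgroup G) → Subgroup ↥(S : Subgroup G) → Prop :=
    fun X Y => ∃ x ∈ X, ∃ y ∈ Y, x * y ≠ y * x
  letI : MulAction A (Subgroup ↥(S : Subgroup G)) :=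
    { smul := fun b X => X.map (b : MulAut ↥(S : Subgroup G)).toMonoidHom
      one_smul := fun X => Subgroup.map_id X
      mul_smul := fun b b' (X : Subgroup ↥(S : Subgroup G)) =>
        show X.map ((b * b' : A) : MulAut ↥(S : Subgroup G)).toMonoidHom =
          (X.map (b' : MulAut ↥(S : Subgroup G)).toMonoidHom).map (b : MulAut ↥(S : Subgroup G)).toMonoidHom by
          rw [Subgroup.map_map]; rfl }
  have hsmul : ∀ (b : A) (X : Subgroup ↥(S : Subgroup G)), b • X = X.map (b : MulAut ↥(S : Subgroup G)).toMonoidHom := fun _ _ => rfl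
  have hnc : ∀ (b : A) X Y, nc X Y → nc (b • X) (b • Y) := by
    rintro b X Y ⟨x, hx, y, hy, hne⟩
    exact ⟨_, ⟨x, hx, rfl⟩, _, ⟨y, hy, rfl⟩, fun e => hne ((b : MulAut ↥(S : Subgroup G)).injective
      (by rw [map_mul, map_mul]; exact e))⟩
  have hout : ∀ b : A, nc U0 (b • U0) → ¬ up S (b • U0) ≤ O S := by
    rintro b ⟨x, hx, y, hy, hne⟩ hle
    exact hne (Subtype.ext (Subgroup.mem_centralizer_iff.1 (hle (Subgroup.mem_map_of_mem _ hy)).2 _
      (Subgroup.mem_subgroupOf.1 hx)))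
  by_contra hbad
  obtain ⟨y, hy, hyO⟩ := SetLike.not_le_iff_exists.1 hbad
  obtain ⟨yy, hyy, rfl⟩ := hy
  set b₀ : A := ⟨a, ha⟩
  have hnc₀ : nc U0 (b₀ • U0) := by
    by_contra hall
    refine hyO (c.mem_O_of_comm ((c.member_map a).le ⟨yy, hyy, rfl⟩) fun u hu => ?_)
    have huS : u ∈ (S : Subgroup G) := (c.U1_le_O.trans (c.O_le_B.trans c.B_le_S)) hu
    by_contra hne
    exact hall ⟨⟨u, huS⟩, Subgroup.mem_subgroupOf.2 hu, yy, hyy, fun e => hne (congrArg Subtype.val e)⟩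
  set Orb := MulAction.orbit A U0
  have hex : ∀ X : Orb, ∃ Y : Orb, nc X Y := by
    rintro ⟨_, ⟨b, rfl⟩⟩
    refine ⟨⟨b • b₀ • U0, b * b₀, mul_smul _ _ _⟩, hnc b _ _ hnc₀⟩
  have huniq : ∀ X Y Y' : Orb, nc X Y → nc X Y' → Y = Y' := by
    rintro ⟨_, ⟨b, rfl⟩⟩ ⟨_, ⟨b₁, rfl⟩⟩ ⟨_, ⟨b₂, rfl⟩⟩ h1 h2
    have e1 := hnc b⁻¹ _ _ h1
    have e2 := hnc b⁻¹ _ _ h2
    simp only [← mul_smul, inv_mul_cancel, one_smul] at e1 e2
    have := c.member_unique (W := up S ((b⁻¹ * b₁) • U0)) (W' := up S ((b⁻¹ * b₂) • U0))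
      (c.member_map _) (c.member_map _) (hout _ e1) (hout _ e2)
    have e3 : (b⁻¹ * b₁) • U0 = (b⁻¹ * b₂) • U0 := Subgroup.map_injective hinj this
    rw [mul_smul, mul_smul] at e3
    exact Subtype.ext (smul_left_cancel _ e3)
  choose f hf using hex
  have hsymm : ∀ X Y : Subgroup ↥(S : Subgroup G), nc X Y → nc Y X :=
    fun X Y ⟨x, hx, y, hy, hne⟩ => ⟨y, hy, x, hx, hne.symm⟩
  have hinv : Function.Involutive f := fun X => huniq (f X) _ _ (hf (f X)) (hsymm _ _ (hf X))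
  have hnofix : ∀ X, f X ≠ X := by
    intro X e
    obtain ⟨x, hx, y, hy, hne⟩ := hf X
    obtain ⟨_, ⟨b, rfl⟩⟩ := X
    have hy' : y ∈ b • U0 := by rw [e] at hy; exact hy
    obtain ⟨x₀, hx₀, rfl⟩ := hx
    obtain ⟨y₀, hy₀, rfl⟩ := hy'
    apply hne
    rw [← map_mul, ← map_mul]
    exact congrArg _ (Subtype.ext (c.U1_comm (Subgroup.mem_subgroupOf.1 hx₀) (Subgroup.mem_subgroupOf.1 hy₀)))
  haveI : Finite (Subgroup ↥(S : Subgroup G)) := inferInstance
  haveI := Fintype.ofFinite Orb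
  have hdvd : Nat.card Orb ∣ Nat.card A := by
    rw [Nat.card_congr (MulAction.orbitEquivQuotientStabilizer A U0)]
    exact Subgroup.card_quotient_dvd_card _
  have hodd : ¬ 2 ∣ Fintype.card Orb := by
    rw [← Nat.card_eq_fintype_card]
    exact fun h => (Nat.not_even_iff_odd.2 hA) (even_iff_two_dvd.2 (h.trans hdvd))
  obtain ⟨X, hX⟩ := Equiv.Perm.exists_fixed_point_of_prime (p := 2) (n := 1) hodd (σ := hinv.toPerm)
    (by ext X; simp [pow_two, hinv X])
  exact hnofix X hX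

end Cfg

end CfsgLib.PushingUpOdd
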