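import Cfsg.Agent.Lib.PushingUpOdd.Main
import Cfsg.Agent.Lib.Solvable.FrattiniFitting
import Cfsg.Prelude.Def_Quasithin

/-!
Pushing up for a pair of subgroups over a Sylow two-subgroup in a group of even characteristic.
-/

set_option autoImplicit false
set_option linter.unusedSectionVars false
set_option linter.style.haveILetI false

open scoped IsMulCommutative commutatorElement

namespace CfsgLib.PushingUpOdd

open Cfsg CfsgLib.LocalEven.RankOneFF CfsgLib.LocalEven.SylowIn CfsgLib.LocalEven.MovesFixed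
open CfsgLib.Fusion.Thompson
open PushingUpSingle.Block.Data (Z0 B0 Z B U1 O mem_Z_iff mem_B_iff)

namespace Cfg

variable {G : Type*} [Group G] [Finite G] [Fact (Nat.Prime 2)] [hC : (Cp 2 G).Normal]
  [IsMulCommutative (Vp 2 G)] [hV : (Vp 2 G).Normal]
  {S : Sylow 2 G} {M : Subgroup G} {A : Subgroup (MulAut ↥(S : Subgroup G))}
  {ρ : G ⧸ Cp 2 G →* AddMonoid.End (Additive (Vp 2 G))} {T : Sylow 2 (G ⧸ Cp 2 G)}
  (c : Cfg S M A ρ T)

include c

theorem thompson_le_of_B_le {Γ : Subgroup G} [hΓ : Γ.Normal] (h : B S ≤ Γ) : thompsonSubgroup 2 G ≤ Γ := by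
  refine sSup_le fun E hE x hx => ?_
  obtain ⟨P, hP⟩ := (isPGroup_isEA hE.1).exists_le_sylow
  obtain ⟨g, hg⟩ := MulAction.exists_smul_eq G P S
  have hgE : LocalEven.RankOneFF.cj g E ≤ (S : Subgroup G) := hg ▸ Subgroup.map_mono hP
  have h1 := h (c.J_le_B (c.le_J (maxEA_map_equiv (MulAut.conj g) hE) hgE (conj_mem_cj g hx)))
  simpa [mul_assoc] using hΓ.conj_mem _ h1 g⁻¹

theorem odd_mem {Γ : Subgroup G} [Γ.Normal] (h : thompsonSubgroup 2 G ≤ Γ ⊔ O S) {e : G}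
    (he : (orderOf e).Coprime 2) : e ∈ Γ := by
  have htop : Γ ⊔ (S : Subgroup G) = ⊤ := top_le_iff.1 (c.hyp.thompson_sup.ge.trans
    (sup_le (h.trans (sup_le_sup_left (c.O_le_B.trans c.B_le_S) _)) le_sup_right))
  obtain ⟨γ, hγ, s, hs, rfl⟩ := Subgroup.mem_sup_of_normal_left.1 (htop ▸ Subgroup.mem_top e)
  refine (QuotientGroup.eq_one_iff _).1 (?_ : QuotientGroup.mk' Γ (γ * s) = 1)
  obtain ⟨a, ha⟩ := S.2 ⟨s, hs⟩
  have hd : orderOf (QuotientGroup.mk' Γ (γ * s)) ∣ 2 ^ a := by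
    rw [map_mul, show QuotientGroup.mk' Γ γ = 1 from (QuotientGroup.eq_one_iff γ).2 hγ, one_mul]
    exact (orderOf_map_dvd _ _).trans (orderOf_dvd_of_pow_eq_one (by simpa using congrArg Subtype.val ha))
  exact orderOf_eq_one_iff.1 (Nat.eq_one_of_dvd_coprimes (he.pow_right a) (orderOf_map_dvd _ _) hd)

/-- Elements of odd order centralise the commutators in `C_B(U)`. -/
theorem commutator_fixed {W : Subgroup G} (m : c.Member W) (hW : ¬ W ≤ O S) {e o o' : G}
    (he : (orderOf e).Coprime 2) (ho : o ∈ O S) (ho' : o' ∈ O S) :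
    e * (o * o' * o⁻¹ * o'⁻¹) = (o * o' * o⁻¹ * o'⁻¹) * e := by
  obtain ⟨Γ, hn, hWΓ, hg⟩ := c.exists_fixer m hW
  haveI := c.O_normal
  have hB : B S ≤ Γ ⊔ O S := fun b hb => by
    obtain ⟨w, hw, v, k, hk, -, rfl⟩ := c.exists_dec m hW hb
    rw [mul_assoc]
    exact Subgroup.mul_mem_sup (hWΓ hw) (mul_mem (c.V_le_O v.2) hk)
  have heΓ := c.odd_mem (c.thompson_le_of_B_le hB) he
  exact c.fixer_commute (hg e heΓ o ho) (hg e heΓ o' ho') ho ho'

theorem odd_comm_U1 {e u : G} (he : (orderOf e).Coprime 2) (hu : u ∈ U1 S) : e * u * e⁻¹ * u⁻¹ ∈ Vp 2 G := by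
  haveI := c.U1_normal
  set π := QuotientGroup.mk' (Vp 2 G)
  haveI : ((U1 S).map π).Normal := Subgroup.Normal.map inferInstance _ (QuotientGroup.mk'_surjective _)
  set Γ := (Subgroup.centralizer ((U1 S).map π : Set (G ⧸ Vp 2 G))).comap π
  have hJ : thompsonSubgroup 2 G ≤ Γ ⊔ O S := le_trans (sSup_le fun E hE a ha => ?_) le_sup_left
  · have h := Subgroup.mem_centralizer_iff.1 (c.odd_mem hJ he) _ (Subgroup.mem_map_of_mem π hu)
    refine (QuotientGroup.eq_one_iff _).1 (?_ : π (e * u * e⁻¹ * u⁻¹) = 1)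
    rw [map_mul, map_mul, map_mul, map_inv, map_inv, ← h, mul_inv_cancel_right, mul_inv_cancel]
  · refine Subgroup.mem_centralizer_iff.2 ?_
    rintro _ ⟨w, hw, rfl⟩
    have h : π (a * w * a⁻¹ * w⁻¹) = 1 := (QuotientGroup.eq_one_iff _).2 (c.comm_V1 hE ha (c.U1_le_V1 hw))
    rw [map_mul, map_mul, map_mul, map_inv, map_inv, mul_inv_eq_one, mul_inv_eq_iff_eq_mul] at h
    exact h.symm

/-- A normal two-subgroup meeting `U` in the centraliser of another image is centralised by the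
elements of odd order. -/
theorem centralize_normal {W : Subgroup G} (m : c.Member W) (hW : ¬ W ≤ O S) (Q : Subgroup G) [hQ : Q.Normal]
    (hQp : IsPGroup 2 Q) (hcen : Q ⊓ U1 S ≤ Subgroup.centralizer (W : Set G))
    {e q : G} (he : (orderOf e).Coprime 2) (hq : q ∈ Q) : e * q = q * e := by
  haveI := c.U1_normal
  have hQQ : Q ≤ pCore 2 G := LocalEven.SylowIn.le_pCore hQp
  have hP : Q ⊓ U1 S ≤ Z S := (le_inf inf_le_right hcen).trans (c.U1_inf_cent m hW)
  have hfix : ∀ {e b : G}, (orderOf e).Coprime 2 → b ∈ Q ⊓ U1 S → e * b = b * e := fun {e b} he hb => by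
    have hB : B S ≤ Subgroup.centralizer ((Q ⊓ U1 S : Subgroup G) : Set G) := fun x hx =>
      Subgroup.mem_centralizer_iff.2 fun y hy => (mem_B_iff.1 hx).2 y (hP hy)
    exact (Subgroup.mem_centralizer_iff.1 (c.odd_mem ((c.thompson_le_of_B_le hB).trans le_sup_left) he) b hb).symm
  have hpow : ∀ {d : G}, d ∈ Q → ∃ k : ℕ, d ^ 2 ^ k = 1 := fun {d} hd => by
    obtain ⟨k, hk⟩ := hQp ⟨d, hd⟩
    exact ⟨k, by simpa using congrArg Subtype.val hk⟩
  have hstep : ∀ {o : G}, o ∈ Q → o ∈ O S → e * o * e⁻¹ * o⁻¹ ∈ U1 S → e * o = o * e := fun {o} ho _ hd => by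
    have h1 : e * o * e⁻¹ * o⁻¹ = 1 := LocalEvenB.PushingUp.fixed_of_step (u := o) (inv_mul_cancel_right _ _).symm
      (hfix he (Subgroup.mem_inf.2 ⟨mul_mem (hQ.conj_mem o ho e) (inv_mem ho), hd⟩)) he (hpow (mul_mem (hQ.conj_mem o ho e) (inv_mem ho)))
    rwa [mul_inv_eq_one, mul_inv_eq_iff_eq_mul] at h1
  set d := q * e * q⁻¹ * e⁻¹ with hd
  have hdQ : d ∈ Q := by
    have h := mul_mem hq (hQ.conj_mem _ (inv_mem hq) e)
    convert h using 1
    rw [hd]; group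
  have hdO : d ∈ O S := by
    refine ⟨hQQ hdQ, Subgroup.mem_centralizer_iff.2 fun u hu => ?_⟩
    set a := e⁻¹ * u * e * u⁻¹ with ha
    set b := q⁻¹ * u * q * u⁻¹ with hb
    have hqU : q⁻¹ * u * q ∈ U1 S := by simpa using ‹(U1 S).Normal›.conj_mem u hu q⁻¹
    have haV : a ∈ Vp 2 G := by
      have := c.odd_comm_U1 (e := e⁻¹) (by rwa [orderOf_inv]) hu
      rwa [inv_inv] at this
    have hb' : b ∈ Q ⊓ U1 S := Subgroup.mem_inf.2 ⟨by
      have h := mul_mem (inv_mem hq) (hQ.conj_mem q hq u)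
      convert h using 1
      rw [hb]; group, mul_mem hqU (inv_mem hu)⟩
    have haq : a * q = q * a := (Subgroup.mem_centralizer_iff.1 (pCore_le_Cp (hQQ hq)) a haV)
    have hqa : q⁻¹ * a = a * q⁻¹ := (Commute.inv_left (Commute.symm haq) :)
    have hab : a * b = b * a := c.U1_comm (Subgroup.mem_sup_left haV) hb'.2
    refine (mul_inv_eq_iff_eq_mul.1 ?_).symm
    calc d * u * d⁻¹ = q * (e * (q⁻¹ * (e⁻¹ * u * e) * q) * e⁻¹) * q⁻¹ := by rw [hd]; group
      _ = q * (e * ((q⁻¹ * a) * (u * q)) * e⁻¹) * q⁻¹ := by rw [ha]; group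
      _ = q * (e * ((a * b) * u) * e⁻¹) * q⁻¹ := by rw [hqa, hb]; group
      _ = q * ((e * b) * (a * u) * e⁻¹) * q⁻¹ := by rw [hab]; group
      _ = q * ((b * e) * (a * u) * e⁻¹) * q⁻¹ := by rw [hfix he hb']
      _ = u := by rw [ha, hb]; group
  have he' : (orderOf (q * e * q⁻¹)).Coprime 2 := by
    have := MulEquiv.orderOf_eq (MulAut.conj q) e
    rw [MulAut.conj_apply] at this
    rwa [this]
  have hdU : e * d * e⁻¹ * d⁻¹ ∈ U1 S := by
    obtain ⟨Γ, hn, hWΓ, hg⟩ := c.exists_fixer m hW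
    haveI := c.O_normal
    have hB : B S ≤ Γ ⊔ O S := fun b hb => by
      obtain ⟨w, hw, v, k, hk, -, rfl⟩ := c.exists_dec m hW hb
      rw [mul_assoc]
      exact Subgroup.mul_mem_sup (hWΓ hw) (mul_mem (c.V_le_O v.2) hk)
    obtain ⟨u, hu, e1⟩ := hg e (c.odd_mem (c.thompson_le_of_B_le hB) he) d hdO
    rwa [e1, mul_inv_cancel_right]
  have hde := hstep hdQ hdO hdU
  have hd1 : e * q = q * e := by
    have h1 : e * q * e⁻¹ = d⁻¹ * q := by rw [hd]; group
    have h2 : d⁻¹ = 1 := LocalEvenB.PushingUp.fixed_of_step h1 (Commute.inv_right hde).eq he (hpow (inv_mem hdQ))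
    rwa [h2, one_mul, mul_inv_eq_iff_eq_mul] at h1
  exact hd1

end Cfg

variable {G : Type*} [Group G] [Finite G] [Fact (Nat.Prime 2)]

/-- The subgroups do not commute elementwise. -/
def Nc (X Y : Subgroup G) : Prop := ∃ x ∈ X, ∃ y ∈ Y, x * y ≠ y * x

theorem Nc.symm {X Y : Subgroup G} : Nc X Y → Nc Y X := fun ⟨x, hx, y, hy, h⟩ => ⟨y, hy, x, hx, h.symm⟩

theorem Nc.cj {X Y : Subgroup G} (h : Nc X Y) (g : G) :
    Nc (LocalEven.RankOneFF.cj g X) (LocalEven.RankOneFF.cj g Y) := by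
  obtain ⟨x, hx, y, hy, h⟩ := h
  refine ⟨_, conj_mem_cj g hx, _, conj_mem_cj g hy, fun e => h ((MulAut.conj g).injective ?_)⟩
  simpa [mul_assoc] using e

theorem comm_of_not_nc {X Y : Subgroup G} (h : ¬ Nc X Y) {x y : G} (hx : x ∈ X) (hy : y ∈ Y) : x * y = y * x :=
  by_contra fun e => h ⟨x, hx, y, hy, e⟩

/-- The setting inside the ambient group. -/
structure Pair (T : Sylow 2 G) (M₀ H R X₁ : Subgroup G) (S : Sylow 2 X₁)
    (A : Subgroup (MulAut ↥(S : Subgroup X₁))) : Prop where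
  TM : (T : Subgroup G) ≤ M₀
  TH : (T : Subgroup G) ≤ H
  RT : R ≤ (T : Subgroup G)
  RM : M₀ ≤ Subgroup.normalizer (R : Set G)
  eqS : (S : Subgroup X₁).map X₁.subtype = R
  big : ∃ X : Subgroup G, X₁ ≤ X ∧ H ≤ Subgroup.normalizer (X : Set G) ∧ (T : Subgroup G) ⊓ X ≤ R
  small : ∃ D : Subgroup G, D ≤ R ∧ X₁ ≤ Subgroup.normalizer (D : Set G) ∧
    (T : Subgroup G) ≤ Subgroup.normalizer (D : Set G) ∧ X₁ ⊓ Subgroup.centralizer (D : Set G) ≤ D
  to_mem : ∀ a ∈ A, ∃ m ∈ M₀, ∀ x : ↥(S : Subgroup X₁), ((a x : X₁) : G) = m * ((x : X₁) : G) * m⁻¹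
  of_mem : ∀ m ∈ M₀, ∃ a ∈ A, ∀ x : ↥(S : Subgroup X₁), ((a x : X₁) : G) = m * ((x : X₁) : G) * m⁻¹

/-- The image of `U` in the ambient group. -/
abbrev Ug {X₁ : Subgroup G} (S : Sylow 2 X₁) : Subgroup G := (U1 S).map X₁.subtype

namespace Pair

variable {T : Sylow 2 G} {M₀ H R X₁ : Subgroup G} {S : Sylow 2 X₁} {A : Subgroup (MulAut ↥(S : Subgroup X₁))}
  {M : Subgroup X₁} [hC : (Cp 2 X₁).Normal] [IsMulCommutative (Vp 2 X₁)] [hV : (Vp 2 X₁).Normal]
  {ρ : X₁ ⧸ Cp 2 X₁ →* AddMonoid.End (Additive (Vp 2 X₁))} {T' : Sylow 2 (X₁ ⧸ Cp 2 X₁)}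
  (P : Pair T M₀ H R X₁ S A) (c : Cfg S M A ρ T')

include P c

theorem R_le : R ≤ X₁ := P.eqS ▸ Subgroup.map_subtype_le _

theorem exists_member {m : G} (hm : m ∈ M₀) :
    ∃ W : Subgroup X₁, c.Member W ∧ W.map X₁.subtype = LocalEven.RankOneFF.cj m (Ug S) := by
  obtain ⟨a, -, ha⟩ := P.of_mem m hm
  refine ⟨_, c.member_map a, ?_⟩
  have hUS : U1 S ≤ (S : Subgroup X₁) := c.U1_le_O.trans (c.O_le_B.trans c.B_le_S)
  ext y
  constructor
  · rintro ⟨_, ⟨_, ⟨x, hx, rfl⟩, rfl⟩, rfl⟩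
    exact ⟨_, ⟨_, hx, rfl⟩, (ha x).symm⟩
  · rintro ⟨_, ⟨x, hx, rfl⟩, rfl⟩
    exact ⟨_, ⟨_, ⟨⟨x, hUS hx⟩, hx, rfl⟩, rfl⟩, ha ⟨x, hUS hx⟩⟩

theorem le_R {m : G} (hm : m ∈ M₀) : LocalEven.RankOneFF.cj m (Ug S) ≤ R := by
  obtain ⟨W, mW, hW⟩ := P.exists_member c hm
  rw [← hW, ← P.eqS]
  exact Subgroup.map_mono (mW.le.trans c.B_le_S)

theorem comm_Z {m : G} (hm : m ∈ M₀) {y z : G} (hy : y ∈ LocalEven.RankOneFF.cj m (Ug S))
    (hz : z ∈ (Z S).map X₁.subtype) : y * z = z * y := by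
  obtain ⟨W, mW, hW⟩ := P.exists_member c hm
  obtain ⟨w, hw, rfl⟩ := hW ▸ hy
  obtain ⟨z, hz, rfl⟩ := hz
  exact congrArg Subtype.val ((mem_B_iff.1 (mW.le hw)).2 z hz).symm

theorem not_le_O {W : Subgroup X₁} (hW : Nc (Ug S) (W.map X₁.subtype)) : ¬ W ≤ O S := fun hle => by
  obtain ⟨_, ⟨u, hu, rfl⟩, _, ⟨w, hw, rfl⟩, h⟩ := hW
  exact h (congrArg Subtype.val (Subgroup.mem_centralizer_iff.1 (hle hw).2 u hu))

theorem mem_O {m : G} (hm : m ∈ M₀) (h : ¬ Nc (Ug S) (LocalEven.RankOneFF.cj m (Ug S))) {y : G}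
    (hy : y ∈ LocalEven.RankOneFF.cj m (Ug S)) : ∃ o ∈ O S, ((o : X₁) : G) = y := by
  obtain ⟨W, mW, hW⟩ := P.exists_member c hm
  obtain ⟨w, hw, rfl⟩ := hW ▸ hy
  refine ⟨w, c.mem_O_of_comm (mW.le hw) fun u hu => Subtype.ext ?_, rfl⟩
  exact comm_of_not_nc h ⟨u, hu, rfl⟩ hy

theorem unique {a b b' : G} (ha : a ∈ M₀) (hb : b ∈ M₀) (hb' : b' ∈ M₀)
    (h : Nc (LocalEven.RankOneFF.cj a (Ug S)) (LocalEven.RankOneFF.cj b (Ug S)))
    (h' : Nc (LocalEven.RankOneFF.cj a (Ug S)) (LocalEven.RankOneFF.cj b' (Ug S))) :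
    LocalEven.RankOneFF.cj b (Ug S) = LocalEven.RankOneFF.cj b' (Ug S) := by
  have e := h.cj a⁻¹
  have e' := h'.cj a⁻¹
  rw [cj_cj, cj_cj, inv_mul_cancel, LocalEven.RankOneFF.cj_one] at e e'
  obtain ⟨W, mW, hW⟩ := P.exists_member c (mul_mem (inv_mem ha) hb)
  obtain ⟨W', mW', hW'⟩ := P.exists_member c (mul_mem (inv_mem ha) hb')
  have := c.member_unique mW mW' (P.not_le_O c (hW.symm ▸ e)) (P.not_le_O c (hW'.symm ▸ e'))
  rw [this, hW'] at hW
  have := congrArg (LocalEven.RankOneFF.cj a) hW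
  rw [cj_cj, cj_cj, mul_inv_cancel_left, mul_inv_cancel_left] at this
  exact this.symm

theorem exists_nc : ∃ g ∈ M₀, Nc (Ug S) (LocalEven.RankOneFF.cj g (Ug S)) := by
  by_contra hall
  push Not at hall
  refine c.contra_of_images fun a ha => ?_
  obtain ⟨m, hm, hma⟩ := P.to_mem a ha
  rintro _ ⟨_, ⟨x, hx, rfl⟩, rfl⟩
  obtain ⟨o, ho, e⟩ := P.mem_O c hm (hall m hm) (conj_mem_cj m (Subgroup.mem_map_of_mem X₁.subtype hx))
  have e' : o = (a x : X₁) := Subtype.ext (e.trans (hma x).symm)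
  show ((a x : ↥(S : Subgroup X₁)) : X₁) ∈ O S
  rwa [← e']

theorem not_nc_sylow {t : G} (ht : t ∈ (T : Subgroup G)) : ¬ Nc (Ug S) (LocalEven.RankOneFF.cj t (Ug S)) := by
  obtain ⟨D, hDR, hX1D, hTD, hDc⟩ := P.small
  have hD : D.subgroupOf X₁ ≤ pCore 2 X₁ := by
    haveI : (D.subgroupOf X₁).Normal := ⟨fun n hn g => (Subgroup.mem_normalizer_iff.1 (hX1D g.2) _).1 hn⟩
    exact LocalEven.SylowIn.le_pCore ((T.2.to_le (hDR.trans P.RT)).comap_of_injective X₁.subtype X₁.subtype_injective)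
  have hVc : (Vp 2 X₁).map X₁.subtype ≤ Subgroup.centralizer (D : Set G) := by
    rintro _ ⟨v, hv, rfl⟩
    exact Subgroup.mem_centralizer_iff.2 fun d hd => congrArg Subtype.val
      (Subgroup.mem_centralizer_iff.1 (omc_le _ hv).2 (⟨d, (hDR.trans (P.R_le c)) hd⟩ : X₁) (hD hd))
  have hVD : (Vp 2 X₁).map X₁.subtype ≤ D := (le_inf (Subgroup.map_subtype_le _) hVc).trans hDc
  have hcom : LocalEven.RankOneFF.cj t ((Vp 2 X₁).map X₁.subtype) ≤
      Subgroup.centralizer ((Vp 2 X₁).map X₁.subtype : Set G) :=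
    ((Subgroup.map_mono hVc).trans (by
      rw [← centralizer_map_conj, map_conj_eq_iff.2 (hTD ht)])).trans (Subgroup.centralizer_le hVD)
  have hzc : ∀ {t : G}, t ∈ (T : Subgroup G) →
      LocalEven.RankOneFF.cj t (Ug S) ≤ Subgroup.centralizer ((Z S).map X₁.subtype : Set G) := fun {t} ht y hy =>
    Subgroup.mem_centralizer_iff.2 fun z hz => (P.comm_Z c (P.TM ht) hy hz).symm
  have hle : LocalEven.RankOneFF.cj t (Ug S) ≤ Subgroup.centralizer (Ug S : Set G) := by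
    rw [LocalEven.RankOneFF.cj, Ug, Subgroup.map_sup, Subgroup.map_sup]
    refine sup_le ?_ ?_ <;> rw [Subgroup.le_centralizer_iff] <;> refine sup_le ?_ ?_ <;> rw [Subgroup.le_centralizer_iff]
    · exact hcom
    · exact (Subgroup.map_mono (Subgroup.map_mono le_sup_left)).trans (hzc ht)
    · have h := Subgroup.map_mono (f := (MulAut.conj t).toMonoidHom)
        ((Subgroup.le_centralizer_iff.1 (hzc (inv_mem ht))).trans
          (Subgroup.centralizer_le (Subgroup.map_mono (f := (MulAut.conj t⁻¹).toMonoidHom)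
            (Subgroup.map_mono (f := X₁.subtype) (le_sup_left : Vp 2 X₁ ≤ U1 S)))))
      rwa [← centralizer_map_conj, map_conj_conj, mul_inv_cancel, map_conj_one] at h
    · exact (Subgroup.map_mono (Subgroup.map_mono le_sup_right)).trans (hzc ht)
  rintro ⟨x, hx, y, hy, h⟩
  exact h (Subgroup.mem_centralizer_iff.1 (hle hy) x hx)

/-- Both orbits of a Sylow subgroup cannot make up all conjugates. -/
theorem not_two_orbits {g : G} (hg : g ∈ M₀) (hnc : Nc (Ug S) (LocalEven.RankOneFF.cj g (Ug S)))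
    (hall : ∀ m ∈ M₀, (∃ t ∈ (T : Subgroup G), LocalEven.RankOneFF.cj m (Ug S) = LocalEven.RankOneFF.cj t (Ug S)) ∨
      ∃ t ∈ (T : Subgroup G), LocalEven.RankOneFF.cj m (Ug S) = LocalEven.RankOneFF.cj (t * g) (Ug S)) : False := by
  classical
  letI : MulAction G (Subgroup G) :=
    { smul := fun x X => LocalEven.RankOneFF.cj x X
      one_smul := fun X => LocalEven.RankOneFF.cj_one X
      mul_smul := fun x y X => (cj_cj x y X).symm }
  have hsm : ∀ (x : G) (X : Subgroup G), x • X = LocalEven.RankOneFF.cj x X := fun _ _ => rfl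
  set U := Ug S
  set W := LocalEven.RankOneFF.cj g U with hW
  set O₁ := MulAction.orbit (T : Subgroup G) U
  set O₂ := MulAction.orbit (T : Subgroup G) W
  have hTm : ∀ t : (T : Subgroup G), (t : G) ∈ M₀ := fun t => P.TM t.2
  have hstab : MulAction.stabilizer (T : Subgroup G) U = MulAction.stabilizer (T : Subgroup G) W := by
    ext t
    have e := hnc.cj (t : G)
    rw [cj_cj] at e
    constructor
    · intro ht
      have ht' : LocalEven.RankOneFF.cj (t : G) U = U := ht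
      rw [ht'] at e
      show LocalEven.RankOneFF.cj (t : G) W = W
      rw [hW, cj_cj]
      exact P.unique c (one_mem _) (mul_mem (hTm t) hg) hg (by rwa [LocalEven.RankOneFF.cj_one])
        (by rwa [LocalEven.RankOneFF.cj_one])
    · intro ht
      have ht' : LocalEven.RankOneFF.cj (t : G) W = W := ht
      rw [hW, cj_cj] at ht'
      rw [ht'] at e
      have h := P.unique c hg (hTm t) (one_mem _) e.symm (by rw [LocalEven.RankOneFF.cj_one]; exact hnc.symm)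
      rwa [LocalEven.RankOneFF.cj_one] at h
  have hcard : Nat.card O₁ = Nat.card O₂ := by
    rw [Nat.card_congr (MulAction.orbitEquivQuotientStabilizer (T : Subgroup G) U),
      Nat.card_congr (MulAction.orbitEquivQuotientStabilizer (T : Subgroup G) W), hstab]
  have hdis : Disjoint O₁ O₂ := by
    refine Set.disjoint_left.2 ?_
    rintro _ ⟨t, rfl⟩ ⟨t', ht'⟩
    refine P.not_nc_sylow c (mul_mem (inv_mem t'.2) t.2) ?_
    have e : LocalEven.RankOneFF.cj (t' : G) W = LocalEven.RankOneFF.cj (t : G) U := ht'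
    have e' := congrArg (LocalEven.RankOneFF.cj (t' : G)⁻¹) e
    simp only [hW, cj_cj, ← mul_assoc, inv_mul_cancel, one_mul] at e'
    exact e' ▸ hnc
  have horb : MulAction.orbit M₀ U = O₁ ∪ O₂ := by
    ext X
    constructor
    · rintro ⟨m, rfl⟩
      rcases hall m m.2 with ⟨t, ht, e⟩ | ⟨t, ht, e⟩
      · exact Or.inl ⟨⟨t, ht⟩, e.symm⟩
      · exact Or.inr ⟨⟨t, ht⟩, (e.trans (cj_cj t g U).symm).symm⟩
    · rintro (⟨t, rfl⟩ | ⟨t, rfl⟩)
      · exact ⟨⟨t, hTm t⟩, rfl⟩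
      · exact ⟨⟨t * g, mul_mem (hTm t) hg⟩, (cj_cj (t : G) g U).symm⟩
  have hsM : Nat.card (MulAction.stabilizer (T : Subgroup G) U) ∣ Nat.card (MulAction.stabilizer M₀ U) := by
    refine Subgroup.card_dvd_of_injective
      (((Subgroup.inclusion P.TM).comp (MulAction.stabilizer (T : Subgroup G) U).subtype).codRestrict _ fun x => x.2) ?_
    intro x y e
    exact Subtype.ext (Subgroup.inclusion_injective P.TM (congrArg Subtype.val e))
  have hM0 : Nat.card M₀ = 2 * Nat.card O₁ * Nat.card (MulAction.stabilizer M₀ U) := by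
    rw [Subgroup.card_eq_card_quotient_mul_card_subgroup (MulAction.stabilizer M₀ U),
      ← Nat.card_congr (MulAction.orbitEquivQuotientStabilizer M₀ U), Nat.card_coe_set_eq (MulAction.orbit M₀ U), horb,
      Set.ncard_union_eq hdis, ← Nat.card_coe_set_eq O₁, ← Nat.card_coe_set_eq O₂, ← hcard, two_mul]
  have hT : Nat.card (T : Subgroup G) = Nat.card O₁ * Nat.card (MulAction.stabilizer (T : Subgroup G) U) := by
    rw [Nat.card_congr (MulAction.orbitEquivQuotientStabilizer (T : Subgroup G) U),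
      ← Subgroup.card_eq_card_quotient_mul_card_subgroup]
  have h2 : 2 * Nat.card (T : Subgroup G) ∣ Nat.card M₀ := by
    rw [hM0, hT, ← mul_assoc]
    exact mul_dvd_mul_left _ hsM
  refine T.not_dvd_index ?_
  have h3 := h2.trans M₀.card_subgroup_dvd_card
  rw [← (T : Subgroup G).card_mul_index, mul_comm 2] at h3
  exact Nat.dvd_of_mul_dvd_mul_left Nat.card_pos h3

/-- The setting is impossible in a group of even characteristic. -/
theorem contradiction (hE : IsOfEvenCharacteristic G) : False := by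
  classical
  obtain ⟨g, hg, hnc⟩ := P.exists_nc c
  set U := Ug S
  set W := LocalEven.RankOneFF.cj g U with hW
  have hTW : LocalEven.RankOneFF.cj g W = U := by
    have h := P.unique c hg (mul_mem hg hg) (one_mem _) ((cj_cj g g U) ▸ hnc.cj g)
      (by rw [LocalEven.RankOneFF.cj_one]; exact hnc.symm)
    rwa [← cj_cj, LocalEven.RankOneFF.cj_one] at h
  obtain ⟨mW, hmW, hWeq⟩ := P.exists_member c hg
  have hWO : ¬ mW ≤ O S := P.not_le_O c (hWeq ▸ hnc)
  by_cases hall : ∀ m ∈ M₀, (∃ t ∈ (T : Subgroup G), LocalEven.RankOneFF.cj m U = LocalEven.RankOneFF.cj t U) ∨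
      ∃ t ∈ (T : Subgroup G), LocalEven.RankOneFF.cj m U = LocalEven.RankOneFF.cj (t * g) U
  · exact P.not_two_orbits c hg hnc hall
  push Not at hall
  obtain ⟨m₀, hm₀, hm₁, hm₂⟩ := hall
  -- conjugates of the pair through `m₀` lie in both copies of `C_B(U)`
  have key : ∀ t ∈ (T : Subgroup G), ∀ k, (k = t * m₀ ∨ k = t * m₀ * g) →
      ¬ Nc U (LocalEven.RankOneFF.cj k U) ∧ ¬ Nc U (LocalEven.RankOneFF.cj (g⁻¹ * k) U) := by
    intro t ht k hk
    have ha : t * m₀ ∈ M₀ := mul_mem (P.TM ht) hm₀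
    have hY : Nc (LocalEven.RankOneFF.cj (t * m₀) U) (LocalEven.RankOneFF.cj (t * m₀ * g) U) := by
      have := hnc.cj (t * m₀)
      rwa [cj_cj] at this
    have h₁ : LocalEven.RankOneFF.cj (t * m₀) U ≠ U := fun e => by
      have h := congrArg (LocalEven.RankOneFF.cj t⁻¹) e
      rw [cj_cj, inv_mul_cancel_left] at h
      exact hm₁ t⁻¹ (inv_mem ht) h
    have h₂ : LocalEven.RankOneFF.cj (t * m₀) U ≠ W := fun e => by
      have h := congrArg (LocalEven.RankOneFF.cj t⁻¹) e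
      rw [cj_cj, inv_mul_cancel_left, cj_cj] at h
      exact hm₂ t⁻¹ (inv_mem ht) h
    have n₁ : ¬ Nc U (LocalEven.RankOneFF.cj (t * m₀) U) := fun h => h₂ (P.unique c (one_mem _) ha hg
      (by rwa [LocalEven.RankOneFF.cj_one]) (by rwa [LocalEven.RankOneFF.cj_one]))
    have n₂ : ¬ Nc W (LocalEven.RankOneFF.cj (t * m₀) U) := fun h => h₁ ((P.unique c hg ha (one_mem _) h
      (by rw [LocalEven.RankOneFF.cj_one]; exact hnc.symm)).trans (LocalEven.RankOneFF.cj_one U))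
    have n₃ : ¬ Nc U (LocalEven.RankOneFF.cj (t * m₀ * g) U) := fun h => by
      have e := P.unique c (mul_mem ha hg) ha (one_mem _) hY.symm (by rw [LocalEven.RankOneFF.cj_one]; exact h.symm)
      exact h₁ (e.trans (LocalEven.RankOneFF.cj_one U))
    have n₄ : ¬ Nc W (LocalEven.RankOneFF.cj (t * m₀ * g) U) := fun h => by
      exact h₂ (P.unique c (mul_mem ha hg) ha hg hY.symm h.symm)
    refine ⟨?_, fun h => ?_⟩
    · rcases hk with rfl | rfl <;> assumption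
    · have h' := h.cj g
      rw [cj_cj, mul_inv_cancel_left] at h'
      rcases hk with rfl | rfl
      · exact n₂ h'
      · exact n₄ h'
  let Sg : Set G := {d | ∃ t ∈ (T : Subgroup G), ∃ y ∈ LocalEven.RankOneFF.cj m₀ U,
    ∃ y' ∈ LocalEven.RankOneFF.cj (m₀ * g) U, d = t * (y * y' * y⁻¹ * y'⁻¹) * t⁻¹}
  set Dz := Subgroup.closure Sg with hDz
  have hDR : Dz ≤ R := (Subgroup.closure_le _).2 <| by
    rintro _ ⟨t, ht, y, hy, y', hy', rfl⟩
    have h1 := P.le_R c hm₀ hy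
    have h2 := P.le_R c (mul_mem hm₀ hg) hy'
    exact (Subgroup.mem_normalizer_iff.1 (P.RM (P.TM ht)) _).1
      (mul_mem (mul_mem (mul_mem h1 h2) (inv_mem h1)) (inv_mem h2))
  have hTD : (T : Subgroup G) ≤ Subgroup.normalizer (Dz : Set G) := by
    intro s hs
    refine map_conj_eq_iff.1 (Subgroup.eq_of_le_of_card_ge ?_
      (Subgroup.card_map_of_injective (MulAut.conj s).injective).ge)
    rw [Subgroup.map_le_iff_le_comap, hDz, Subgroup.closure_le]
    rintro _ ⟨t, ht, y, hy, y', hy', rfl⟩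
    exact Subgroup.subset_closure ⟨s * t, mul_mem hs ht, y, hy, y', hy',
      show s * (t * (y * y' * y⁻¹ * y'⁻¹) * t⁻¹) * s⁻¹ = _ by group⟩
  have hDne : Dz ≠ ⊥ := by
    obtain ⟨y, hy, y', hy', hne⟩ : Nc (LocalEven.RankOneFF.cj m₀ U) (LocalEven.RankOneFF.cj (m₀ * g) U) := by
      have := hnc.cj m₀
      rwa [cj_cj] at this
    intro e
    have hmem : (1 : G) * (y * y' * y⁻¹ * y'⁻¹) * (1 : G)⁻¹ ∈ Dz :=
      Subgroup.subset_closure ⟨1, one_mem _, y, hy, y', hy', rfl⟩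
    rw [e, Subgroup.mem_bot, one_mul, inv_one, mul_one, mul_inv_eq_one, mul_inv_eq_iff_eq_mul] at hmem
    exact hne hmem
  -- elements of odd order of both copies centralise it
  have hodd : ∀ e : X₁, (orderOf e).Coprime 2 → ∀ d ∈ Dz,
      (e : G) * d = d * e ∧ g * e * g⁻¹ * d = d * (g * e * g⁻¹) := by
    intro e he d hd
    have hle : Dz ≤ Subgroup.centralizer {(e : G), g * e * g⁻¹} := (Subgroup.closure_le _).2 <| by
      rintro _ ⟨t, ht, y, hy, y', hy', rfl⟩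
      have ha := mul_mem (P.TM ht) hm₀
      have hy2 : t * y * t⁻¹ ∈ LocalEven.RankOneFF.cj (t * m₀) U := cj_cj t m₀ U ▸ conj_mem_cj t hy
      have hy2' : t * y' * t⁻¹ ∈ LocalEven.RankOneFF.cj (t * m₀ * g) U := by
        rw [mul_assoc, ← cj_cj]
        exact conj_mem_cj t hy'
      obtain ⟨k₁, k₂⟩ := key t ht _ (Or.inl rfl)
      obtain ⟨k₁', k₂'⟩ := key t ht _ (Or.inr rfl)
      have hcomm : ∀ {z z' : G}, (∃ o ∈ O S, ((o : X₁) : G) = z) → (∃ o ∈ O S, ((o : X₁) : G) = z') →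
          (e : G) * (z * z' * z⁻¹ * z'⁻¹) = (z * z' * z⁻¹ * z'⁻¹) * e := by
        rintro _ _ ⟨o, ho, rfl⟩ ⟨o', ho', rfl⟩
        exact congrArg Subtype.val (c.commutator_fixed hmW hWO he ho ho')
      have c₁ := hcomm (P.mem_O c ha k₁ hy2) (P.mem_O c (mul_mem ha hg) k₁' hy2')
      have c₂ := hcomm
        (P.mem_O c (mul_mem (inv_mem hg) ha) k₂ (cj_cj g⁻¹ (t * m₀) U ▸ conj_mem_cj g⁻¹ hy2))
        (P.mem_O c (mul_mem (inv_mem hg) (mul_mem ha hg)) k₂' (cj_cj g⁻¹ (t * m₀ * g) U ▸ conj_mem_cj g⁻¹ hy2'))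
      refine Subgroup.mem_centralizer_iff.2 ?_
      rintro x (rfl | rfl)
      · simpa [mul_assoc] using c₁
      · refine (MulAut.conj g⁻¹).injective ?_
        simpa [mul_assoc] using c₂
    exact ⟨Subgroup.mem_centralizer_iff.1 (hle hd) _ (by simp), Subgroup.mem_centralizer_iff.1 (hle hd) _ (by simp)⟩
  -- a central involution there
  haveI : Group.IsNilpotent (T : Subgroup G) := T.2.isNilpotent
  haveI : (Dz.subgroupOf (T : Subgroup G)).Normal :=
    ⟨fun n hn t => (Subgroup.mem_normalizer_iff.1 (hTD t.2) _).1 hn⟩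
  have hDne' : Dz.subgroupOf (T : Subgroup G) ≠ ⊥ := fun e => hDne (le_bot_iff.1 fun x hx => by
    have : (⟨x, P.RT (hDR hx)⟩ : (T : Subgroup G)) ∈ Dz.subgroupOf (T : Subgroup G) := hx
    rw [e, Subgroup.mem_bot] at this
    exact congrArg Subtype.val this)
  obtain ⟨z, hz, hzD, hzT⟩ : ∃ z : G, orderOf z = 2 ∧ z ∈ Dz ∧ ∀ t ∈ (T : Subgroup G), t * z = z * t := by
    set K := Dz.subgroupOf (T : Subgroup G) ⊓ Subgroup.center (T : Subgroup G)
    haveI : Nontrivial K := (Subgroup.nontrivial_iff_ne_bot K).2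
      (Solvable.FrattiniFitting.inf_center_ne_bot _ hDne')
    obtain ⟨y, hy⟩ : ∃ y : K, orderOf y = 2 := by
      refine exists_prime_orderOf_dvd_card' 2 ?_
      obtain ⟨n, hn, e⟩ := (T.2.to_subgroup K).nontrivial_iff_card.1 inferInstance
      rw [e]; exact dvd_pow_self 2 hn.ne'
    refine ⟨(y : (T : Subgroup G)), by rw [Subgroup.orderOf_coe, Subgroup.orderOf_coe, hy],
      (Subgroup.mem_inf.1 y.2).1, fun t ht => ?_⟩
    exact congrArg Subtype.val (Subgroup.mem_center_iff.1 (Subgroup.mem_inf.1 y.2).2 ⟨t, ht⟩)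
  set N := Subgroup.normalizer (Subgroup.zpowers z : Set G)
  have hmemN : ∀ {x : G}, x * z = z * x → x ∈ N := fun {x} hx =>
    Subgroup.centralizer_le_normalizer _ (Subgroup.mem_centralizer_iff.2 fun w hw => by
      obtain ⟨i, rfl⟩ := Subgroup.mem_zpowers_iff.1 hw
      exact ((Commute.zpow_right (hx : Commute x z) i).eq).symm)
  have hTN : (T : Subgroup G) ≤ N := fun t ht => hmemN (hzT t ht)
  have hX₁ : ∀ k : G, k = 1 ∨ k = g → LocalEven.RankOneFF.cj k X₁ ≤ N := by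
    intro k hk
    rw [LocalEven.RankOneFF.cj, Subgroup.map_le_iff_le_comap, ← Subgroup.subgroupOf_eq_top]
    have hkM : k ∈ M₀ := by rcases hk with rfl | rfl; exacts [one_mem _, hg]
    refine eq_top_of_sylow _ S (fun r hr => ?_) fun e he => ?_
    · have hr' : (r : G) ∈ R := P.eqS ▸ Subgroup.mem_map_of_mem _ hr
      exact hTN (P.RT ((Subgroup.mem_normalizer_iff.1 (P.RM hkM) _).1 hr'))
    · refine hmemN ?_
      obtain ⟨h1, h2⟩ := hodd e he z hzD
      show k * (e : G) * k⁻¹ * z = z * (k * (e : G) * k⁻¹)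
      rcases hk with rfl | rfl
      · simpa using h1
      · exact h2
  have hX₁N : X₁ ≤ N := (LocalEven.RankOneFF.cj_one X₁).ge.trans (hX₁ 1 (Or.inl rfl))
  have hN2 : IsTwoLocal N := by
    refine ⟨Subgroup.zpowers z, T.2.to_le (Subgroup.zpowers_le.2 (P.RT (hDR hzD))), fun e => ?_, rfl⟩
    rw [Subgroup.zpowers_eq_bot] at e
    rw [e, orderOf_one] at hz
    omega
  have hchar : N ⊓ Subgroup.centralizer (pCoreOf 2 N : Set G) ≤ pCoreOf 2 N :=
    (charP_iff N).1 (hE N hN2 ⟨T, hTN⟩)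
  set Q₀ := pCoreOf 2 N with hQ₀
  have hQT : Q₀ ≤ (T : Subgroup G) := by
    rintro _ ⟨x, hx, rfl⟩
    exact Solvable.Cores.pCore_le_sylow (T.subtype hTN) hx
  obtain ⟨X, hX₁X, hHX, hTX⟩ := P.big
  set Q := Q₀.subgroupOf X₁
  haveI hQn : Q.Normal := ⟨fun n hn x => (Subgroup.mem_normalizer_iff.1 (normalizer_pCoreOf N (hX₁N x.2)) _).1 hn⟩
  have hQp : IsPGroup 2 Q := (isPGroup_pCoreOf (p := 2) N).comap_of_injective X₁.subtype X₁.subtype_injective
  have hQc : Q ≤ pCore 2 X₁ := LocalEven.SylowIn.le_pCore hQp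
  have hgQ : Q ⊓ U1 S ≤ Subgroup.centralizer (mW : Set X₁) := by
    -- the other copy
    set Q' := Q₀.comap ((MulAut.conj g).toMonoidHom.comp X₁.subtype)
    haveI : Q'.Normal := ⟨fun n hn x => by
      have hx := (Subgroup.mem_normalizer_iff.1 (normalizer_pCoreOf N
        (hX₁ g (Or.inr rfl) (conj_mem_cj g x.2))) _).1 hn
      show g * ((x : G) * n * (x : G)⁻¹) * g⁻¹ ∈ Q₀
      convert hx using 1
      show g * ((x : G) * n * (x : G)⁻¹) * g⁻¹ = g * x * g⁻¹ * (g * n * g⁻¹) * (g * x * g⁻¹)⁻¹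
      group⟩
    have hQ'c : Q' ≤ pCore 2 X₁ := LocalEven.SylowIn.le_pCore ((isPGroup_pCoreOf (p := 2) N).comap_of_injective _
      ((MulAut.conj g).injective.comp X₁.subtype_injective))
    have hV' : ∀ q ∈ Q, ∀ y ∈ LocalEven.RankOneFF.cj g ((Vp 2 X₁).map X₁.subtype), y * (q : G) = (q : G) * y := by
      rintro q hq _ ⟨_, ⟨v, hv, rfl⟩, rfl⟩
      have hqR : (q : G) ∈ R := hTX (Subgroup.mem_inf.2 ⟨hQT hq, hX₁X q.2⟩)
      have hr : g⁻¹ * q * g ∈ R :=
        (Subgroup.mem_normalizer_iff''.1 (P.RM hg) _).1 hqR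
      have hq' : (⟨g⁻¹ * q * g, (P.R_le c) hr⟩ : X₁) ∈ Q' := by
        show g * (g⁻¹ * (q : G) * g) * g⁻¹ ∈ Q₀
        have : g * (g⁻¹ * (q : G) * g) * g⁻¹ = (q : G) := by group
        rw [this]; exact hq
      have h : (v : G) * (g⁻¹ * q * g) = g⁻¹ * q * g * v :=
        congrArg Subtype.val (Subgroup.mem_centralizer_iff.1 (pCore_le_Cp (hQ'c hq')) v hv)
      show g * (v : G) * g⁻¹ * q = q * (g * v * g⁻¹)
      calc g * (v : G) * g⁻¹ * q = g * ((v : G) * (g⁻¹ * q * g)) * g⁻¹ := by group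
        _ = g * ((g⁻¹ * q * g) * v) * g⁻¹ := by rw [h]
        _ = _ := by group
    intro q hq
    obtain ⟨hqQ, hqU⟩ := Subgroup.mem_inf.1 hq
    have hle : W ≤ Subgroup.centralizer {(q : G)} := by
      show LocalEven.RankOneFF.cj g ((Vp 2 X₁ ⊔ Z S).map X₁.subtype) ≤ _
      rw [LocalEven.RankOneFF.cj, Subgroup.map_sup, Subgroup.map_sup]
      refine sup_le (fun y hy => Subgroup.mem_centralizer_singleton_iff.2 (hV' q hqQ y hy)) ?_
      rintro _ ⟨z', hz', rfl⟩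
      have h1 : g⁻¹ * (q : G) * g ∈ LocalEven.RankOneFF.cj g⁻¹ U := by
        have := conj_mem_cj g⁻¹ (Subgroup.mem_map_of_mem X₁.subtype hqU)
        rwa [inv_inv] at this
      have h := P.comm_Z c (inv_mem hg) h1 hz'
      refine Subgroup.mem_centralizer_singleton_iff.2 ?_
      show g * z' * g⁻¹ * q = q * (g * z' * g⁻¹)
      calc g * z' * g⁻¹ * (q : G) = g * (z' * (g⁻¹ * q * g)) * g⁻¹ := by group
        _ = g * ((g⁻¹ * q * g) * z') * g⁻¹ := by rw [h]
        _ = _ := by group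
    refine Subgroup.mem_centralizer_iff.2 fun w hw => Subtype.ext ?_
    exact Subgroup.mem_centralizer_singleton_iff.1 (hle ((hW ▸ hWeq).le (Subgroup.mem_map_of_mem _ hw)))
  have hfix : ∀ e : X₁, (orderOf e).Coprime 2 → e = 1 := by
    intro e he
    have he' : (orderOf (e : G)).Coprime 2 := by rwa [Subgroup.orderOf_coe]
    have heC : (e : G) ∈ Subgroup.centralizer (Q₀ : Set G) := Subgroup.mem_centralizer_iff.2 fun q hq => by
      have hqX : q ∈ Subgroup.normalizer (X : Set G) := hHX (P.TH (hQT hq))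
      set d := (e : G) * q * (e : G)⁻¹ * q⁻¹ with hd
      have hdQ : d ∈ Q₀ := mul_mem ((Subgroup.mem_normalizer_iff.1 (normalizer_pCoreOf N (hX₁N e.2)) _).1 hq) (inv_mem hq)
      have hdX : d ∈ X := by
        have h := mul_mem (hX₁X e.2) ((Subgroup.mem_normalizer_iff.1 hqX _).1 (inv_mem (hX₁X e.2)))
        rw [hd]
        simpa [mul_assoc] using h
      have hdX₁ : d ∈ X₁ := (P.R_le c) (hTX (Subgroup.mem_inf.2 ⟨hQT hdQ, hdX⟩))
      have hcd := c.centralize_normal hmW hWO Q hQp hgQ he (q := ⟨d, hdX₁⟩) hdQ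
      have hd1 : d = 1 := by
        obtain ⟨k, hk⟩ := isPGroup_pCoreOf (p := 2) N ⟨d, hdQ⟩
        exact LocalEvenB.PushingUp.fixed_of_step (u := q) (by rw [hd]; group)
          (congrArg Subtype.val hcd) he' ⟨k, by simpa using congrArg Subtype.val hk⟩
      rw [hd, mul_inv_eq_one, mul_inv_eq_iff_eq_mul] at hd1
      exact hd1.symm
    obtain ⟨k, hk⟩ := isPGroup_pCoreOf (p := 2) N ⟨(e : G), hchar (Subgroup.mem_inf.2 ⟨hX₁N e.2, heC⟩)⟩
    exact Subtype.ext (KGroups.CharP.eq_one_of_pow_coprime he' (pow_orderOf_eq_one (e : G)) (k := k)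
      (by simpa using congrArg Subtype.val hk))
  have hStop : (S : Subgroup X₁) = ⊤ := eq_top_of_sylow _ S le_rfl fun e he => hfix e he ▸ one_mem _
  exact c.hyp.coatom.1 (top_le_iff.1 (hStop.ge.trans c.hyp.le))

end Pair

end CfsgLib.PushingUpOdd

namespace CfsgLib.PushingUpOdd

open Cfsg CfsgLib.LocalEven.RankOneFF CfsgLib.LocalEven.SylowIn CfsgLib.LocalEven.MovesFixed

variable {G : Type*} [Group G] [Finite G] [Fact (Nat.Prime 2)]

/-- A nontrivial subgroup of `R` normalised by both subgroups. -/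
theorem exists_common_normal (hE : IsOfEvenCharacteristic G) (T : Sylow 2 G) (M₀ H : Subgroup G)
    (hTM : (T : Subgroup G) ≤ M₀) (hTH : (T : Subgroup G) ≤ H) (hH : pCore 2 H ≠ ⊥)
    (hU : ∃! K : Subgroup H, IsCoatom K ∧ (T : Subgroup G).subgroupOf H ≤ K)
    (R : Subgroup G) (hRT : R ≤ (T : Subgroup G))
    (hRS : ∃ P : Sylow 2 ↥(oddGenerated H ⊔ R), (P : Subgroup _) = R.subgroupOf (oddGenerated H ⊔ R))
    (hRM : M₀ ≤ Subgroup.normalizer (R : Set G)) :
    ∃ R₀ : Subgroup G, R₀ ≠ ⊥ ∧ R₀ ≤ R ∧ M₀ ⊔ H ≤ Subgroup.normalizer (R₀ : Set G) := by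
  classical
  by_contra hno
  obtain ⟨K, ⟨hKc, hTK⟩, huniq⟩ := hU
  set K' := K.map H.subtype with hK'
  have hTK' : (T : Subgroup G) ≤ K' := fun t ht => ⟨⟨t, hTH ht⟩, hTK ht, rfl⟩
  have hK'H : ¬ H ≤ K' := fun h => hKc.1 (top_le_iff.1 fun x _ => by
    obtain ⟨y, hy, e⟩ := h x.2
    exact (Subtype.ext e : y = x) ▸ hy)
  have hover : ∀ Y : Subgroup G, (T : Subgroup G) ≤ Y → Y ≤ H → ¬ Y ≤ K' → H ≤ Y := by
    intro Y hTY hYH hYK
    by_contra hne
    obtain ⟨L, hL, hle⟩ := (eq_top_or_exists_le_coatom (Y.subgroupOf H)).resolve_left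
      fun e => hne (Subgroup.subgroupOf_eq_top.1 e)
    have := huniq L ⟨hL, fun t ht => hle (hTY ht)⟩
    exact hYK fun y hy => ⟨⟨y, hYH hy⟩, this ▸ hle hy, rfl⟩
  -- the core of `H`
  set Q := pCoreOf 2 H with hQdef
  have hQne : Q ≠ ⊥ := fun e => hH ((Subgroup.map_eq_bot_iff_of_injective _ H.subtype_injective).1 e)
  have hQT : Q ≤ (T : Subgroup G) := by
    rintro _ ⟨x, hx, rfl⟩
    exact Solvable.Cores.pCore_le_sylow (T.subtype hTH) hx
  have hHQ : H ≤ Subgroup.normalizer (Q : Set G) := normalizer_pCoreOf H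
  have hcon : H ⊓ Subgroup.centralizer (Q : Set G) ≤ Q := by
    set N := Subgroup.normalizer (Q : Set G)
    have hN : N ⊓ Subgroup.centralizer (pCoreOf 2 N : Set G) ≤ pCoreOf 2 N :=
      (charP_iff N).1 (hE N ⟨Q, T.2.to_le hQT, hQne, rfl⟩ ⟨T, hTH.trans hHQ⟩)
    have hON : pCoreOf 2 N ≤ (T : Subgroup G) := by
      rintro _ ⟨x, hx, rfl⟩
      exact Solvable.Cores.pCore_le_sylow (T.subtype (hTH.trans hHQ)) hx
    have hle : pCoreOf 2 N ≤ Q :=
      le_pCoreOf (hON.trans hTH) (hHQ.trans (normalizer_pCoreOf N)) (T.2.to_le hON)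
    exact fun x hx => hle (hN ⟨hHQ hx.1, Subgroup.centralizer_le (SetLike.coe_subset_coe.2 hle) hx.2⟩)
  -- the normal subgroup `X`
  set X := oddGenerated H ⊔ R
  have hOH : oddGenerated H ≤ H := (Subgroup.closure_le _).2 fun x hx => hx.1
  have hXH : X ≤ H := sup_le hOH (hRT.trans hTH)
  have hTO : (T : Subgroup G) ≤ Subgroup.normalizer (oddGenerated H : Set G) := by
    intro t ht
    refine map_conj_eq_iff.1 (Subgroup.eq_of_le_of_card_ge ?_
      (Subgroup.card_map_of_injective (MulAut.conj t).injective).ge)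
    rw [Subgroup.map_le_iff_le_comap, oddGenerated, Subgroup.closure_le]
    intro x hx
    refine Subgroup.subset_closure ⟨mul_mem (mul_mem (hTH ht) hx.1) (inv_mem (hTH ht)), ?_⟩
    rw [MulEquiv.toMonoidHom_eq_coe, MonoidHom.coe_coe, MulEquiv.orderOf_eq]
    exact hx.2
  have hHeq : H ≤ oddGenerated H ⊔ (T : Subgroup G) := by
    rw [← Subgroup.subgroupOf_eq_top]
    refine eq_top_of_sylow _ (T.subtype hTH) (fun t ht => Subgroup.mem_sup_right ht) fun x hx => ?_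
    exact Subgroup.mem_sup_left (Subgroup.subset_closure
      ⟨x.2, Nat.coprime_two_right.1 (by rwa [Subgroup.subtype_apply, Subgroup.orderOf_coe])⟩)
  have hHX : H ≤ Subgroup.normalizer (X : Set G) :=
    hHeq.trans (sup_le (le_sup_left.trans Subgroup.le_normalizer) fun t ht => map_conj_eq_iff.1 (by
      rw [Subgroup.map_sup, map_conj_eq_iff.2 (hTO ht), map_conj_eq_iff.2 (hRM (hTM ht))]))
  obtain ⟨P, hP⟩ := hRS
  have hRX : IsSylowIn 2 R X := by
    have h := IsSylowIn.of_map_subtype P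
    rwa [hP, Subgroup.map_subgroupOf_eq_of_le le_sup_right] at h
  have hTX : (T : Subgroup G) ⊓ X ≤ R :=
    (hRX.2.2 _ inf_le_right (T.2.to_le inf_le_left) (le_inf hRT le_sup_right)).le
  have hXK : ¬ X ≤ K' := fun h => hK'H (hHeq.trans (sup_le (le_sup_left.trans h) hTK'))
  set D := Q ⊓ X with hDdef
  have hDR : D ≤ R := (inf_le_inf_right _ hQT).trans hTX
  have hHD : H ≤ Subgroup.normalizer (D : Set G) := fun h hh => map_conj_eq_iff.1 (by
    rw [hDdef, Subgroup.map_inf _ _ _ (MulAut.conj h).injective, map_conj_eq_iff.2 (hHQ hh),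
      map_conj_eq_iff.2 (hHX hh)])
  have hDc : X ⊓ Subgroup.centralizer (D : Set G) ≤ D := by
    set C := X ⊓ Subgroup.centralizer (D : Set G) with hCdef
    have hodd : ∀ x ∈ C, (orderOf x).Coprime 2 → x = 1 := by
      intro x hx hcop
      have hxH : x ∈ H := hXH hx.1
      have hxQ : x ∈ Q := hcon ⟨hxH, Subgroup.mem_centralizer_iff.2 fun q hq => by
        have hd : x * q * x⁻¹ * q⁻¹ ∈ D := by
          refine Subgroup.mem_inf.2 ⟨mul_mem ((Subgroup.mem_normalizer_iff.1 (hHQ hxH) _).1 hq) (inv_mem hq), ?_⟩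
          have h := mul_mem hx.1 ((Subgroup.mem_normalizer_iff.1 (hHX (hTH (hQT hq))) _).1 (inv_mem hx.1))
          simpa [mul_assoc] using h
        obtain ⟨k, hk⟩ := T.2.to_le (hDR.trans hRT) ⟨_, hd⟩
        have h1 := LocalEvenB.PushingUp.fixed_of_step (x := x) (u := q) (inv_mul_cancel_right _ _).symm
          (Subgroup.mem_centralizer_iff.1 hx.2 _ hd).symm hcop ⟨k, congrArg Subtype.val hk⟩
        rw [mul_inv_eq_one, mul_inv_eq_iff_eq_mul] at h1
        exact h1.symm⟩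
      obtain ⟨k, hk⟩ := T.2.to_le hQT ⟨x, hxQ⟩
      exact KGroups.CharP.eq_one_of_pow_coprime hcop (pow_orderOf_eq_one x) (k := k) (congrArg Subtype.val hk)
    have hp : IsPGroup 2 C := fun g => by
      refine ⟨(orderOf (g : G)).factorization 2, Subtype.ext (hodd _ (pow_mem g.2 _) ?_)⟩
      have hd : 2 ^ (orderOf (g : G)).factorization 2 ∣ orderOf (g : G) := Nat.ordProj_dvd _ _
      rw [SubmonoidClass.coe_pow, orderOf_pow, Nat.gcd_eq_right hd]
      exact (Nat.coprime_ordCompl Fact.out (orderOf_pos _).ne').symm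
    have hn : H ≤ Subgroup.normalizer (C : Set G) := fun h hh => map_conj_eq_iff.1 (by
      rw [hCdef, Subgroup.map_inf _ _ _ (MulAut.conj h).injective, map_conj_eq_iff.2 (hHX hh),
        ← centralizer_map_conj, map_conj_eq_iff.2 (hHD hh)])
    exact le_inf (le_pCoreOf (inf_le_left.trans hXH) hn hp) inf_le_left
  -- the minimal subgroup outside the maximal one
  obtain ⟨X₁, ⟨hRX₁, hX₁X, hX₁K⟩, hmin⟩ := (Set.toFinite {Y : Subgroup G | R ≤ Y ∧ Y ≤ X ∧ ¬ Y ≤ K'}).exists_minimal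
    ⟨X, le_sup_right, le_rfl, hXK⟩
  have hS : IsSylowIn 2 R X₁ := ⟨hRX₁, T.2.to_le hRT, fun U hU hUp hRU => hRX.2.2 U (hU.trans hX₁X) hUp hRU⟩
  set S := hS.toSylow
  have heqS : (S : Subgroup X₁).map X₁.subtype = R := hS.toSylow_map
  set e : ↥R ≃* ↥(S : Subgroup X₁) := (Subgroup.subgroupOfEquivOfLe hRX₁).symm
  set φ : M₀ →* MulAut ↥(S : Subgroup X₁) :=
    (MulAut.congr e).toMonoidHom.comp (R.normalizerMonoidHom.comp (Subgroup.inclusion hRM))
  have hφ : ∀ (m : M₀) (x : ↥(S : Subgroup X₁)), ((φ m x : X₁) : G) = m * ((x : X₁) : G) * (m : G)⁻¹ := fun m x => rfl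
  set M := K'.subgroupOf X₁
  have hMne : M ≠ ⊤ := fun h => hX₁K (Subgroup.subgroupOf_eq_top.1 h)
  have hSM : (S : Subgroup X₁) ≤ M := fun r hr => hTK' (hRT (heqS ▸ Subgroup.mem_map_of_mem _ hr))
  have hoverM : ∀ Y : Subgroup X₁, (S : Subgroup X₁) ≤ Y → Y ≠ ⊤ → Y ≤ M := by
    intro Y hSY hY y hy
    by_contra hyM
    refine hY (Subgroup.map_injective X₁.subtype_injective (le_antisymm ?_ ?_))
    · exact Subgroup.map_mono le_top
    · rw [← MonoidHom.range_eq_map, Subgroup.range_subtype]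
      exact hmin ⟨heqS ▸ Subgroup.map_mono hSY, (Subgroup.map_subtype_le _).trans hX₁X,
        fun h => hyM (h (Subgroup.mem_map_of_mem _ hy))⟩ (Subgroup.map_subtype_le _)
  have hconX₁ : Subgroup.centralizer (pCore 2 X₁ : Set X₁) ≤ pCore 2 X₁ := by
    haveI : (D.subgroupOf X₁).Normal :=
      ⟨fun n hn g => (Subgroup.mem_normalizer_iff.1 (hHD (hXH (hX₁X g.2))) _).1 hn⟩
    have hD : D.subgroupOf X₁ ≤ pCore 2 X₁ :=
      LocalEven.SylowIn.le_pCore ((T.2.to_le (hDR.trans hRT)).comap_of_injective X₁.subtype X₁.subtype_injective)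
    intro x hx
    refine hD (hDc ⟨hX₁X x.2, Subgroup.mem_centralizer_iff.2 fun d hd => ?_⟩)
    exact congrArg Subtype.val (Subgroup.mem_centralizer_iff.1 hx ⟨d, hRX₁ (hDR hd)⟩ (hD hd))
  have hHyp : Hyp S M φ.range := by
    refine ⟨hconX₁, ⟨hMne, fun L hL => by_contra fun hL' => hL.not_ge (hoverM L (hSM.trans hL.le) hL')⟩, hSM, hoverM,
      fun U hUn hUinv => ?_⟩
    by_contra hne
    set R₀ := (U.map (S : Subgroup X₁).subtype).map X₁.subtype
    have hR₀R : R₀ ≤ R := heqS ▸ Subgroup.map_mono (Subgroup.map_subtype_le _)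
    have hM₀ : M₀ ≤ Subgroup.normalizer (R₀ : Set G) := by
      refine fun m hm => map_conj_eq_iff.1 (Subgroup.eq_of_le_of_card_ge ?_
        (Subgroup.card_map_of_injective (MulAut.conj m).injective).ge)
      rintro _ ⟨_, ⟨_, ⟨x, hx, rfl⟩, rfl⟩, rfl⟩
      exact ⟨_, ⟨_, hUinv _ ⟨⟨m, hm⟩, rfl⟩ x hx, rfl⟩, hφ ⟨m, hm⟩ x⟩
    have hX₁ : X₁ ≤ Subgroup.normalizer (R₀ : Set G) := by
      have h := (Subgroup.map_mono (f := X₁.subtype) (Subgroup.normalizer_eq_top_iff.2 hUn).ge).trans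
        (Subgroup.le_normalizer_map _)
      rwa [← MonoidHom.range_eq_map, Subgroup.range_subtype] at h
    have hH₀ : H ≤ H ⊓ Subgroup.normalizer (R₀ : Set G) := hover _ (le_inf hTH (hTM.trans hM₀)) inf_le_left
      fun h => hX₁K ((le_inf (hX₁X.trans hXH) hX₁).trans h)
    refine hno ⟨R₀, fun h => hne ?_, hR₀R, sup_le hM₀ (hH₀.trans inf_le_right)⟩
    exact (Subgroup.map_eq_bot_iff_of_injective _ (S : Subgroup X₁).subtype_injective).1
      ((Subgroup.map_eq_bot_iff_of_injective _ X₁.subtype_injective).1 h)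
  haveI : (Cp 2 X₁).Normal := Cp_normal
  haveI : (Vp 2 X₁).Normal := Vp_normal
  haveI : IsMulCommutative (Vp 2 X₁) := (omc_isEA _).1
  obtain ⟨ρ, T', c⟩ := exists_cfg hHyp
  have hPair : Pair T M₀ H R X₁ S φ.range :=
    { TM := hTM, TH := hTH, RT := hRT, RM := hRM, eqS := heqS
      big := ⟨X, hX₁X, hHX, hTX⟩
      small := ⟨D, hDR, (hX₁X.trans hXH).trans hHD, hTH.trans hHD, (inf_le_inf_right _ hX₁X).trans hDc⟩
      to_mem := by rintro _ ⟨m, rfl⟩; exact ⟨m, m.2, hφ m⟩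
      of_mem := fun m hm => ⟨_, ⟨⟨m, hm⟩, rfl⟩, hφ ⟨m, hm⟩⟩ }
  exact hPair.contradiction c hE

end CfsgLib.PushingUpOdd
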