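import Cfsg.Agent.Lib.LocalEven.MovesFixed.SymFamily
import Cfsg.Agent.Lib.Classical.SL2Sylow
import Cfsg.Agent.Lib.Classical.SL2Fours

/-!
Good offenders in a Sylow two-subgroup: what is used of them to push up.
-/

set_option autoImplicit false
set_option linter.unusedSectionVars false
set_option linter.style.haveILetI false

open scoped MatrixGroups

namespace CfsgLib.PushingUpOdd

open CfsgLib.LocalEven.RankOneFF CfsgLib.LocalEven.SylowIn CfsgLib.LocalEven.MovesFixed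

variable {H : Type*} [Group H] [Finite H] {W : Type*} [AddCommGroup W] [Finite W] [Fact (Nat.Prime 2)]

/-- The good offenders in `T`. -/
def rootSet (ρ : H →* AddMonoid.End W) (T : Subgroup H) : Set (Subgroup H) := {X | Good ρ X ∧ X ≤ T}

/-- The group they generate. -/
def roots (ρ : H →* AddMonoid.End W) (T : Subgroup H) : Subgroup H := sSup (rootSet ρ T)

/-- The group generated by all but one. -/
def rest (ρ : H →* AddMonoid.End W) (T X : Subgroup H) : Subgroup H := sSup (rootSet ρ T \ {X})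

/-- An abelian group of exponent two and weight at least the order of the module. -/
structure Best (ρ : H →* AddMonoid.End W) (D : Subgroup H) : Prop where
  comm : ∀ a ∈ D, ∀ b ∈ D, a * b = b * a
  pow : ∀ a ∈ D, a ^ 2 = 1
  wt : Nat.card W ≤ Nat.card D * Nat.card (fx ρ D)

/-- The roots in `T`: one orbit, separated commutators, offenders split over a root, and one root lies in an
`SL₂` centralised by the others. -/
structure Roots (ρ : H →* AddMonoid.End W) (T : Sylow 2 H) (N : Subgroup H) : Prop where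
  base : Base ρ T N
  orbit : ∀ X ∈ rootSet ρ (T : Subgroup H), ∀ Y ∈ rootSet ρ (T : Subgroup H),
    ∃ t ∈ (T : Subgroup H), cj t X = Y
  sep : ∀ X ∈ rootSet ρ (T : Subgroup H), ∃ R : AddSubgroup W,
    (∀ Y ∈ rootSet ρ (T : Subgroup H), Y ≠ X → ∀ y ∈ Y, ∀ v, ρ y v - v ∈ R) ∧
    fx ρ (Subgroup.normalClosure (X : Set H)) ≤ R ∧
    ∀ a ∈ X, a ≠ 1 → ∀ v, ρ a v - v ∈ R → v ∈ fx ρ X
  strip : ∀ D : Subgroup H, Best ρ D → D ≤ (T : Subgroup H) → ∀ X ∈ rootSet ρ (T : Subgroup H), X ≤ D →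
    ∃ D₁ ≤ D, Nat.card D₁ < Nat.card D ∧ Best ρ D₁ ∧ D ≤ X ⊔ D₁
  block : ∃ X ∈ rootSet ρ (T : Subgroup H), ∃ (L : Subgroup H) (g : H) (F : Type) (_ : Field F) (_ : Fintype F)
    (n : ℕ) (φ : L →* SL(2, F)), ¬ L ≤ N ∧ 1 ≤ n ∧ Fintype.card F = 2 ^ n ∧ Function.Bijective φ ∧ X ⊔ cj g X = L ∧
    Nat.card X = Fintype.card F ∧ rest ρ (T : Subgroup H) X ≤ Subgroup.centralizer (L : Set H) ∧
    commSub ρ X ⊔ fx ρ (cj g X) = ⊤

namespace Roots

variable {ρ : H →* AddMonoid.End W} {T : Sylow 2 H} {N : Subgroup H} (h : Roots ρ T N)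

theorem roots_le : roots ρ (T : Subgroup H) ≤ (T : Subgroup H) := sSup_le fun _ hX => hX.2

theorem le_roots {X : Subgroup H} (hX : X ∈ rootSet ρ (T : Subgroup H)) : X ≤ roots ρ (T : Subgroup H) :=
  le_sSup hX

theorem rest_le (X : Subgroup H) : rest ρ (T : Subgroup H) X ≤ roots ρ (T : Subgroup H) :=
  sSup_le_sSup Set.sdiff_subset

theorem sup_rest {X : Subgroup H} (hX : X ∈ rootSet ρ (T : Subgroup H)) :
    X ⊔ rest ρ (T : Subgroup H) X = roots ρ (T : Subgroup H) := by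
  refine le_antisymm (sup_le (le_roots hX) (rest_le X)) (sSup_le fun Y hY => ?_)
  by_cases e : Y = X
  · exact e ▸ le_sup_left
  · exact le_sup_of_le_right (le_sSup ⟨hY, e⟩)

theorem fx_roots_le {X : Subgroup H} (hX : X ∈ rootSet ρ (T : Subgroup H)) :
    fx ρ (roots ρ (T : Subgroup H)) ≤ fx ρ X :=
  fx_anti ρ (le_roots hX)

theorem mem_fx_roots {v : W} (hv : ∀ X ∈ rootSet ρ (T : Subgroup H), v ∈ fx ρ X) :
    v ∈ fx ρ (roots ρ (T : Subgroup H)) :=
  (mem_fx_iff_le ρ).2 (sSup_le fun X hX => (mem_fx_iff_le ρ).1 (hv X hX))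

include h

/-- The roots act quadratically, into their common fixed points. -/
theorem roots_le_chain : roots ρ (T : Subgroup H) ≤ chain ρ (fx ρ (roots ρ (T : Subgroup H))) := by
  refine sSup_le fun X hX a ha => mem_chain.2 ⟨fun c hc => hc a (le_roots hX ha), fun v => ?_⟩
  refine mem_fx_roots fun Y hY => ?_
  by_cases e : Y = X
  · exact e ▸ hX.1.off.comm_mem_fx ρ ha v
  · exact (comm_pair h.base hX.1 hY.1 (Ne.symm e)
      (comm_of_pgroup h.base T T.2 X Y hX.2 hY.2 hX.1 hY.1)).2 a ha v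

theorem add_comm_act {a b : H} (ha : a ∈ roots ρ (T : Subgroup H)) (hb : b ∈ roots ρ (T : Subgroup H)) (v : W) :
    ρ (a * b) v - v = (ρ a v - v) + (ρ b v - v) :=
  chain_sub (h.roots_le_chain ha) (h.roots_le_chain hb) v

theorem comm_roots {a b : H} (ha : a ∈ roots ρ (T : Subgroup H)) (hb : b ∈ roots ρ (T : Subgroup H)) :
    a * b = b * a :=
  chain_comm h.base.amb _ (h.roots_le_chain ha) (h.roots_le_chain hb)

theorem add_self (v : W) : v + v = 0 := by rw [← two_nsmul]; exact h.base.amb.exponent v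

theorem sq_roots {a : H} (ha : a ∈ roots ρ (T : Subgroup H)) : a ^ 2 = 1 := by
  refine h.base.amb.faithful (AddMonoidHom.ext fun v => ?_)
  show ρ (a ^ 2) v = ρ 1 v
  rw [pow_two, LocalEven.RankOneFF.act_one, ← sub_eq_zero, h.add_comm_act ha ha, h.add_self]

theorem comm_mem_roots_fx {a : H} (ha : a ∈ roots ρ (T : Subgroup H)) (v : W) :
    ρ a v - v ∈ fx ρ (roots ρ (T : Subgroup H)) :=
  (h.roots_le_chain ha).2 v

/-- The others have their commutators in the separating subgroup. -/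
theorem sep_rest {X : Subgroup H} (hX : X ∈ rootSet ρ (T : Subgroup H)) :
    ∃ R : AddSubgroup W, (∀ y ∈ rest ρ (T : Subgroup H) X, ∀ v, ρ y v - v ∈ R) ∧
      fx ρ (Subgroup.normalClosure (roots ρ (T : Subgroup H) : Set H)) ≤ R ∧
      ∀ a ∈ X, a ≠ 1 → ∀ v, ρ a v - v ∈ R → v ∈ fx ρ X := by
  obtain ⟨R, h1, h2, h3⟩ := h.sep X hX
  refine ⟨R, fun y hy v => ?_, le_trans (fx_anti ρ (Subgroup.normalClosure_mono (le_roots hX))) h2, h3⟩
  have hy' : y ∈ Subgroup.closure (⋃ Y ∈ rootSet ρ (T : Subgroup H) \ {X}, (Y : Set H)) := by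
    refine (sSup_le fun Y hY z hz => ?_ : rest ρ (T : Subgroup H) X ≤ _) hy
    exact Subgroup.subset_closure (Set.mem_biUnion hY hz)
  suffices hs : y ∈ roots ρ (T : Subgroup H) ∧ ρ y v - v ∈ R from hs.2
  clear hy
  induction hy' using Subgroup.closure_induction with
  | mem z hz =>
    obtain ⟨Y, hY, hzY⟩ := Set.mem_iUnion₂.1 hz
    exact ⟨le_roots hY.1 hzY, h1 Y hY.1 hY.2 z hzY v⟩
  | one => exact ⟨one_mem _, by rw [LocalEven.RankOneFF.act_one, sub_self]; exact zero_mem R⟩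
  | mul a b _ _ ha hb =>
    exact ⟨mul_mem ha.1 hb.1, by rw [h.add_comm_act ha.1 hb.1]; exact add_mem ha.2 hb.2⟩
  | inv a _ ha =>
    refine ⟨inv_mem ha.1, ?_⟩
    rw [show a⁻¹ = a from inv_eq_of_mul_eq_one_right (by rw [← pow_two]; exact h.sq_roots ha.1)]
    exact ha.2

theorem exists_moved {X : Subgroup H} (hX : Good ρ X) : ∃ v, v ∉ fx ρ X := by
  by_contra hall
  push Not at hall
  exact hX.fx_ne_top h.base.amb (eq_top_iff.2 fun v _ => hall v)

theorem inf_rest {X : Subgroup H} (hX : X ∈ rootSet ρ (T : Subgroup H)) :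
    X ⊓ rest ρ (T : Subgroup H) X = ⊥ := by
  rw [eq_bot_iff]
  intro a ha
  obtain ⟨R, h1, -, h3⟩ := h.sep_rest hX
  by_contra ha1
  obtain ⟨v, hv⟩ := h.exists_moved hX.1
  exact hv (h3 a ha.1 ha1 v (h1 a ha.2 v))

/-- An element outside the others fixes only what the root fixes, even modulo the separating subgroup. -/
theorem fx_of_notMem {X : Subgroup H} (hX : X ∈ rootSet ρ (T : Subgroup H)) {a : H}
    (ha : a ∈ roots ρ (T : Subgroup H)) (har : a ∉ rest ρ (T : Subgroup H) X) {v : W}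
    (hv : ρ a v - v ∈ fx ρ (Subgroup.normalClosure (roots ρ (T : Subgroup H) : Set H))) : v ∈ fx ρ X := by
  obtain ⟨R, h1, h2, h3⟩ := h.sep_rest hX
  have hle : rest ρ (T : Subgroup H) X ≤ Subgroup.normalizer (X : Set H) := fun y hy =>
    Subgroup.centralizer_le_normalizer _ (Subgroup.mem_centralizer_iff.2 fun x hx =>
      h.comm_roots (le_roots hX hx) (rest_le X hy))
  rw [← sup_rest hX, ← SetLike.mem_coe, Subgroup.coe_mul_of_right_le_normalizer_left _ _ hle] at ha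
  obtain ⟨x, hx, y, hy, rfl⟩ := ha
  have hx1 : x ≠ 1 := fun e => har (by rw [e]; simpa using hy)
  refine h3 x hx hx1 v ?_
  have hxy := h.add_comm_act (le_roots hX hx) (rest_le X hy) v
  have : ρ x v - v = (ρ (x * y) v - v) - (ρ y v - v) := by rw [hxy]; abel
  rw [this]
  exact sub_mem (h2 hv) (h1 y hy v)

theorem exists_notRest {a : H} (ha : a ∈ roots ρ (T : Subgroup H)) (ha1 : a ≠ 1) :
    ∃ X ∈ rootSet ρ (T : Subgroup H), a ∉ rest ρ (T : Subgroup H) X := by
  classical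
  by_contra hall
  push Not at hall
  obtain ⟨v, hv⟩ : ∃ v, ρ a v ≠ v := by
    by_contra hno
    push Not at hno
    exact ha1 (h.base.amb.faithful (AddMonoidHom.ext fun v => (hno v).trans (LocalEven.RankOneFF.act_one ρ v).symm))
  -- shrink the set of roots needed
  have key : ∀ s : Finset (Subgroup H), (∀ Y ∈ s, Y ∈ rootSet ρ (T : Subgroup H)) →
      a ∈ (⨆ Y ∈ s, Y) → a = 1 := by
    intro s
    induction s using Finset.induction with
    | empty => intro _ hs; simpa using hs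
    | insert Y s hYs ih =>
      intro hmem hs
      have hY := hmem Y (Finset.mem_insert_self _ _)
      have hsr : (⨆ Z ∈ s, Z) ≤ rest ρ (T : Subgroup H) Y := iSup₂_le fun Z hZ =>
        le_sSup ⟨hmem Z (Finset.mem_insert_of_mem hZ), fun e => hYs (e ▸ hZ)⟩
      rw [Finset.iSup_insert] at hs
      have hle : (⨆ Z ∈ s, Z) ≤ Subgroup.normalizer (Y : Set H) := fun y hy =>
        Subgroup.centralizer_le_normalizer _ (Subgroup.mem_centralizer_iff.2 fun x hx =>
          h.comm_roots (le_roots hY hx) (rest_le Y (hsr hy)))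
      rw [← SetLike.mem_coe, Subgroup.coe_mul_of_right_le_normalizer_left _ _ hle] at hs
      obtain ⟨x, hx, y, hy, e⟩ := hs
      have hxr : x ∈ rest ρ (T : Subgroup H) Y := by
        have := mul_mem (hall Y hY) (inv_mem (hsr hy))
        rwa [← e, mul_inv_cancel_right] at this
      have hx1 : x = 1 := by
        have hbot : x ∈ Y ⊓ rest ρ (T : Subgroup H) Y := ⟨hx, hxr⟩
        rwa [h.inf_rest hY, Subgroup.mem_bot] at hbot
      have hay : a = y := by rw [← e, hx1]; exact one_mul y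
      exact ih (fun Z hZ => hmem Z (Finset.mem_insert_of_mem hZ)) (hay ▸ hy)
  haveI := Fintype.ofFinite (Subgroup H)
  classical
  refine ha1 (key (Finset.univ.filter (· ∈ rootSet ρ (T : Subgroup H))) (fun Y hY => (Finset.mem_filter.1 hY).2) ?_)
  refine (sSup_le fun Y hY => ?_ : roots ρ (T : Subgroup H) ≤ _) ha
  exact le_iSup₂_of_le Y (Finset.mem_filter.2 ⟨Finset.mem_univ _, hY⟩) le_rfl

omit h in
theorem cj_rest {t : H} (ht : t ∈ (T : Subgroup H)) (X : Subgroup H) :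
    cj t (rest ρ (T : Subgroup H) X) ≤ rest ρ (T : Subgroup H) (cj t X) := by
  rw [Subgroup.map_le_iff_le_comap]
  refine sSup_le fun Y hY => Subgroup.map_le_iff_le_comap.1 (le_sSup ⟨⟨hY.1.1.cj t, cj_le hY.1.2 ht⟩, fun e => hY.2 ?_⟩)
  exact Subgroup.map_injective (MulAut.conj t).injective e

/-- A subgroup of the roots invariant under `T` fixes only their fixed points. -/
theorem fx_invariant {K : Subgroup H} (hK : K ≤ roots ρ (T : Subgroup H)) (hne : K ≠ ⊥)
    (hinv : (T : Subgroup H) ≤ Subgroup.normalizer (K : Set H)) :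
    fx ρ K ≤ fx ρ (roots ρ (T : Subgroup H)) := by
  obtain ⟨a, haK, ha1, hfix⟩ : ∃ a ∈ K, a ≠ 1 ∧ ∀ t ∈ (T : Subgroup H), t * a = a * t := by
    have hKT : K ≤ (T : Subgroup H) := hK.trans roots_le
    haveI : (K.subgroupOf (T : Subgroup H)).Normal := (Subgroup.normal_subgroupOf_iff hKT).2
      fun k t hk ht => (Subgroup.mem_normalizer_iff.1 (hinv ht) k).1 hk
    haveI : Nontrivial ↥(T : Subgroup H) := by
      obtain ⟨k, hk, hk1⟩ := exists_ne_one hne
      exact ⟨⟨⟨k, hKT hk⟩, 1, fun e => hk1 (congrArg Subtype.val e)⟩⟩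
    haveI : Nontrivial ↥(K.subgroupOf (T : Subgroup H)) := by
      obtain ⟨k, hk, hk1⟩ := exists_ne_one hne
      exact ⟨⟨⟨⟨k, hKT hk⟩, hk⟩, 1, fun e => hk1 (congrArg Subtype.val (congrArg Subtype.val e))⟩⟩
    have hdvd : 2 ∣ Nat.card ↥(K.subgroupOf (T : Subgroup H)) := by
      obtain ⟨m, hm, e⟩ := (T.2.to_subgroup _).nontrivial_iff_card.1 ‹_›
      rw [e]; exact dvd_pow_self 2 hm.ne'
    obtain ⟨b, hb, hb1⟩ :=
        (T.2.of_equiv ConjAct.toConjAct).exists_fixed_point_of_prime_dvd_card_of_fixed_point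
          ↥(K.subgroupOf (T : Subgroup H)) hdvd (a := 1) (fun t => smul_one t)
    refine ⟨((b : (T : Subgroup H)) : H), b.2, fun e => hb1 (Subtype.ext (Subtype.ext e)).symm, fun t ht => ?_⟩
    have e1 := congrArg (fun z : ↥(K.subgroupOf (T : Subgroup H)) => ((z : (T : Subgroup H)) : H))
      (hb (ConjAct.toConjAct ⟨t, ht⟩))
    simp only [ConjAct.Subgroup.val_conj_smul, ConjAct.smul_def, ConjAct.ofConjAct_toConjAct,
      Subgroup.coe_mul, Subgroup.coe_inv] at e1
    exact mul_inv_eq_iff_eq_mul.1 e1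
  obtain ⟨X, hX, haX⟩ := h.exists_notRest (hK haK) ha1
  intro v hv
  refine mem_fx_roots fun Y hY => h.fx_of_notMem hY (hK haK) (fun hmem => ?_) (by
    rw [hv a haK, sub_self]; exact zero_mem _)
  obtain ⟨t, ht, rfl⟩ := h.orbit Y hY X hX
  have h1 := cj_rest ht Y (conj_mem_cj t hmem)
  rw [hfix t ht, mul_inv_cancel_right] at h1
  exact haX h1

/-- No choice of vectors with commutators fixed by all, other than common fixed points. -/
theorem rigid {P : H → W → Prop} (hP : ∀ x ∈ roots ρ (T : Subgroup H), ∃ v, P x v)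
    (hfix : ∀ x v, P x v → ρ x v - v ∈ fx ρ (Subgroup.normalClosure (roots ρ (T : Subgroup H) : Set H)))
    (hmul : ∀ x y v w, P x v → P y w → ∃ c ∈ fx ρ (roots ρ (T : Subgroup H)), P (x * y) (v + w + c))
    {x : H} {v : W} (hx : x ∈ roots ρ (T : Subgroup H)) (hv : P x v) :
    v ∈ fx ρ (roots ρ (T : Subgroup H)) := by
  refine mem_fx_roots fun X hX => ?_
  by_cases hxr : x ∈ rest ρ (T : Subgroup H) X
  · obtain ⟨a, ha, ha1⟩ := exists_ne_one hX.1.off.ne_bot
    have har : a ∉ rest ρ (T : Subgroup H) X := fun hm => ha1 (by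
      have hbot : a ∈ X ⊓ rest ρ (T : Subgroup H) X := ⟨ha, hm⟩
      rwa [h.inf_rest hX, Subgroup.mem_bot] at hbot)
    obtain ⟨w, hw⟩ := hP a (le_roots hX ha)
    obtain ⟨c, hc, hvw⟩ := hmul x a v w hv hw
    have h1 := h.fx_of_notMem hX (le_roots hX ha) har (hfix a w hw)
    have h2 := h.fx_of_notMem hX (mul_mem hx (le_roots hX ha))
      (fun hm => har (by simpa using mul_mem (inv_mem hxr) hm)) (hfix _ _ hvw)
    have := sub_mem (sub_mem h2 (fx_roots_le hX hc)) h1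
    rwa [add_sub_cancel_right, add_sub_cancel_right] at this
  · exact h.fx_of_notMem hX hx hxr (hfix x v hv)

theorem mem_fx_roots_of_comm {v : W}
    (hv : ∀ x ∈ roots ρ (T : Subgroup H),
      ρ x v - v ∈ fx ρ (Subgroup.normalClosure (roots ρ (T : Subgroup H) : Set H))) :
    v ∈ fx ρ (roots ρ (T : Subgroup H)) := by
  refine mem_fx_roots fun X hX => ?_
  obtain ⟨a, ha, ha1⟩ := exists_ne_one hX.1.off.ne_bot
  refine h.fx_of_notMem hX (le_roots hX ha) (fun hm => ha1 ?_) (hv a (le_roots hX ha))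
  have hbot : a ∈ X ⊓ rest ρ (T : Subgroup H) X := ⟨ha, hm⟩
  rwa [h.inf_rest hX, Subgroup.mem_bot] at hbot

/-- Offenders in `T` lie in the group generated by the roots. -/
theorem best_le : ∀ (D : Subgroup H), Best ρ D → D ≤ (T : Subgroup H) → D ≤ roots ρ (T : Subgroup H) := by
  intro D
  induction h' : Nat.card D using Nat.strong_induction_on generalizing D with
  | h n ih =>
    intro hD hDT
    by_cases hne : D = ⊥
    · exact hne ▸ bot_le
    obtain ⟨B, hBD, hB, -⟩ := exists_off_sub h.base.amb hne hD.comm hD.pow hD.wt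
    obtain ⟨X, hXB, hX, -⟩ := exists_good h.base hB
    have hXr : X ∈ rootSet ρ (T : Subgroup H) := ⟨hX, (hXB.trans hBD).trans hDT⟩
    obtain ⟨D₁, hle, hlt, hD₁, hsup⟩ := h.strip D hD hDT X hXr (hXB.trans hBD)
    exact hsup.trans (sup_le (le_roots hXr) (ih _ (h' ▸ hlt) D₁ rfl hD₁ (hle.trans hDT)))

/-- The offenders in `T` generate the roots, which have full weight. -/
theorem image {𝒟 : Set (Subgroup H)} (hbest : ∀ D ∈ 𝒟, Best ρ D ∧ D ≤ (T : Subgroup H))
    (hne : ∃ D ∈ 𝒟, D ≠ ⊥) (hinv : ∀ t ∈ (T : Subgroup H), ∀ D ∈ 𝒟, cj t D ∈ 𝒟) :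
    sSup 𝒟 = roots ρ (T : Subgroup H) ∧
      Nat.card W = Nat.card (roots ρ (T : Subgroup H)) * Nat.card (fx ρ (roots ρ (T : Subgroup H))) := by
  have hle : sSup 𝒟 ≤ roots ρ (T : Subgroup H) := sSup_le fun D hD => h.best_le D (hbest D hD).1 (hbest D hD).2
  obtain ⟨D, hD, hD0⟩ := hne
  obtain ⟨B, hBD, hB, -⟩ := exists_off_sub h.base.amb hD0 (hbest D hD).1.comm (hbest D hD).1.pow (hbest D hD).1.wt
  obtain ⟨X, hXB, hX, -⟩ := exists_good h.base hB
  have hXr : X ∈ rootSet ρ (T : Subgroup H) := ⟨hX, (hXB.trans hBD).trans (hbest D hD).2⟩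
  have hge : roots ρ (T : Subgroup H) ≤ sSup 𝒟 := sSup_le fun Y hY => by
    obtain ⟨t, ht, rfl⟩ := h.orbit X hXr Y hY
    exact (Subgroup.map_mono (hXB.trans hBD)).trans (le_sSup (hinv t ht D hD))
  have heq := le_antisymm hle hge
  have habel : ∀ K ≤ roots ρ (T : Subgroup H), (∀ a ∈ K, ∀ b ∈ K, a * b = b * a) ∧ ∀ a ∈ K, a ^ 2 = 1 :=
    fun K hK => ⟨fun a ha b hb => h.comm_roots (hK ha) (hK hb), fun a ha => h.sq_roots (hK ha)⟩
  have hno : ∀ K ≤ roots ρ (T : Subgroup H), Nat.card K * Nat.card (fx ρ K) ≤ Nat.card W :=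
    fun K hK => no_over_abelian h.base K (habel K hK).1 (habel K hK).2
  obtain ⟨K, ⟨hK, hKw⟩, hmax⟩ := Set.exists_max_image
    {K : Subgroup H | K ≤ roots ρ (T : Subgroup H) ∧ Nat.card W ≤ Nat.card K * Nat.card (fx ρ K)}
    (fun K => Nat.card K) (Set.toFinite _) ⟨⊥, bot_le, by
      have : fx ρ (⊥ : Subgroup H) = ⊤ := eq_top_iff.2 fun v _ a ha => by
        rw [Subgroup.mem_bot.1 ha, LocalEven.RankOneFF.act_one]
      rw [this, Subgroup.card_bot, one_mul, AddSubgroup.card_top]⟩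
  have hsub : ∀ D ∈ 𝒟, D ≤ K := by
    intro D hD
    have hDr : D ≤ roots ρ (T : Subgroup H) := (le_sSup hD).trans hle
    have h1 := LocalEven.RankOneFF.fx_sup ρ K D
    have hKD : K ≤ Subgroup.normalizer (D : Set H) := fun x hx =>
      Subgroup.centralizer_le_normalizer _ (Subgroup.mem_centralizer_iff.2 fun y hy => h.comm_roots (hDr hy) (hK hx))
    have h2 := CfsgLib.Fusion.Thompson.card_sup_mul_card_inf (N := D) (K := K) hKD
    have h3 : Nat.card (fx ρ K) * Nat.card (fx ρ D) ≤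
        Nat.card (fx ρ (K ⊔ D)) * Nat.card (fx ρ (D ⊓ K)) := by
      set φ : fx ρ K × fx ρ D →+ W := (fx ρ K).subtype.coprod (fx ρ D).subtype with hφ
      rw [← Nat.card_prod, AddSubgroup.card_eq_card_quotient_mul_card_addSubgroup φ.ker,
        Nat.card_congr (QuotientAddGroup.quotientKerEquivRange φ).toEquiv, mul_comm, h1]
      refine Nat.mul_le_mul ?_ (AddSubgroup.card_le_of_le ?_)
      · refine Nat.card_le_card_of_injective (fun z => (⟨z.1.1.1, ?_⟩ : (fx ρ K ⊓ fx ρ D : AddSubgroup W))) ?_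
        · have hz : (z.1.1 : W) + z.1.2 = 0 := AddMonoidHom.mem_ker.1 z.2
          refine ⟨z.1.1.2, ?_⟩
          show (z.1.1 : W) ∈ fx ρ D
          rw [eq_neg_of_add_eq_zero_left hz]
          exact neg_mem z.1.2.2
        · intro z z' e
          have e1 : (z.1.1 : W) = z'.1.1 := by simpa using congrArg (fun w : (fx ρ K ⊓ fx ρ D : AddSubgroup W) => (w : W)) e
          have hz : (z.1.1 : W) + z.1.2 = 0 := AddMonoidHom.mem_ker.1 z.2
          have hz' : (z'.1.1 : W) + z'.1.2 = 0 := AddMonoidHom.mem_ker.1 z'.2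
          exact Subtype.ext (Prod.ext (Subtype.ext e1) (Subtype.ext (add_left_cancel (hz.trans (e1 ▸ hz').symm))))
      · rintro _ ⟨⟨u, w⟩, rfl⟩
        exact add_mem (fx_anti ρ inf_le_right u.2) (fx_anti ρ inf_le_left w.2)
    have h4 := hno (D ⊓ K) (inf_le_left.trans hDr)
    have h5 : Nat.card W * Nat.card W ≤
        Nat.card ↥(D ⊔ K) * Nat.card (fx ρ (K ⊔ D)) * Nat.card W := by
      refine le_trans (Nat.mul_le_mul hKw (hbest D hD).1.wt) ?_
      calc Nat.card K * Nat.card (fx ρ K) * (Nat.card D * Nat.card (fx ρ D))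
          = (Nat.card D * Nat.card K) * (Nat.card (fx ρ K) * Nat.card (fx ρ D)) := by ring
        _ ≤ (Nat.card ↥(D ⊔ K) * Nat.card ↥(D ⊓ K)) * (Nat.card (fx ρ (K ⊔ D)) * Nat.card (fx ρ (D ⊓ K))) :=
            Nat.mul_le_mul h2.ge h3
        _ = Nat.card ↥(D ⊔ K) * Nat.card (fx ρ (K ⊔ D)) * (Nat.card ↥(D ⊓ K) * Nat.card (fx ρ (D ⊓ K))) := by ring
        _ ≤ _ := Nat.mul_le_mul_left _ h4
    have h6 : K ⊔ D ∈ {K : Subgroup H | K ≤ roots ρ (T : Subgroup H) ∧ Nat.card W ≤ Nat.card K * Nat.card (fx ρ K)} :=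
      ⟨sup_le hK hDr, by rw [sup_comm D K] at h5; exact Nat.le_of_mul_le_mul_right h5 Nat.card_pos⟩
    exact le_sup_right.trans (Subgroup.eq_of_le_of_card_ge le_sup_left (hmax _ h6)).ge
  have hKeq : K = roots ρ (T : Subgroup H) := le_antisymm hK (hge.trans (sSup_le hsub))
  exact ⟨heq, le_antisymm (hKeq ▸ hKw) (hno _ le_rfl)⟩

/-- The stabiliser in `T` of the common fixed points is the group of the roots. -/
theorem mem_roots_of_fix (hwt : Nat.card W = Nat.card (roots ρ (T : Subgroup H)) * Nat.card (fx ρ (roots ρ (T : Subgroup H))))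
    {t : H} (ht : t ∈ (T : Subgroup H)) (hfix : ∀ v ∈ fx ρ (roots ρ (T : Subgroup H)), ρ t v = v) :
    t ∈ roots ρ (T : Subgroup H) := by
  have hkey : ∀ v, ρ t v - v ∈ fx ρ (roots ρ (T : Subgroup H)) := by
    intro v
    refine mem_fx_roots fun X hX => ?_
    obtain ⟨R, h1, -, h3⟩ := h.sep X hX
    have htv : ∀ a, a ∈ X → ∀ u, ρ (t * a * t⁻¹) (ρ t u) - ρ t u = ρ a u - u := fun a ha u => by
      rw [← LocalEven.RankOneFF.act_mul, inv_mul_cancel_right, LocalEven.RankOneFF.act_mul, ← map_sub]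
      exact hfix _ (h.comm_mem_roots_fx (le_roots hX ha) u)
    have hnorm : cj t X = X := by
      by_contra hne
      obtain ⟨a, ha, ha1⟩ := exists_ne_one hX.1.off.ne_bot
      obtain ⟨u, hu⟩ := h.exists_moved hX.1
      refine hu (h3 a ha ha1 u ?_)
      rw [← htv a ha u]
      exact h1 _ ⟨hX.1.cj t, cj_le hX.2 ht⟩ hne _ (conj_mem_cj t ha) _
    have hmem : t ∈ (T : Subgroup H) ⊓ Subgroup.normalizer (X : Set H) := ⟨ht, map_conj_eq_iff.1 hnorm⟩
    letI : MulDistribMulAction ↥((T : Subgroup H) ⊓ Subgroup.normalizer (X : Set H)) X :=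
      { smul := fun s a => ⟨(s : H) * a * (s : H)⁻¹, (Subgroup.mem_normalizer_iff.1 s.2.2 a).1 a.2⟩
        one_smul := fun a => Subtype.ext (show (1 : H) * a * 1⁻¹ = a by simp)
        mul_smul := fun s s' a => Subtype.ext (show (s * s' : H) * a * (s * s' : H)⁻¹ =
          s * (s' * a * (s' : H)⁻¹) * (s : H)⁻¹ by group)
        smul_one := fun s => Subtype.ext (show (s : H) * 1 * (s : H)⁻¹ = 1 by simp)
        smul_mul := fun s a b => Subtype.ext (show (s : H) * (a * b : H) * (s : H)⁻¹ =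
          s * a * (s : H)⁻¹ * (s * b * (s : H)⁻¹) by group) }
    have hdvd : 2 ∣ Nat.card X := by
      haveI : Nontrivial X := (Subgroup.nontrivial_iff_ne_bot X).2 hX.1.off.ne_bot
      obtain ⟨m, hm, e⟩ := (T.2.to_le hX.2).nontrivial_iff_card.1 ‹_›
      rw [e]; exact dvd_pow_self 2 hm.ne'
    obtain ⟨a, ha, ha1⟩ := (T.2.to_le inf_le_left :
        IsPGroup 2 ↥((T : Subgroup H) ⊓ Subgroup.normalizer (X : Set H))).exists_fixed_point_of_prime_dvd_card_of_fixed_point
      X hdvd (a := 1) (fun s => smul_one s)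
    have hat : t * (a : H) * t⁻¹ = a := congrArg Subtype.val (ha ⟨t, hmem⟩)
    refine hX.1.fix a a.2 (fun e => ha1 (Subtype.ext e).symm) _ (sub_eq_zero.1 ?_)
    have e1 := htv a a.2 v
    rw [hat] at e1
    calc ρ (a : H) (ρ t v - v) - (ρ t v - v) = (ρ (a : H) (ρ t v) - ρ t v) - (ρ (a : H) v - v) := by
          rw [map_sub]; abel
      _ = 0 := by rw [e1, sub_self]
  have hchain : chain ρ (fx ρ (roots ρ (T : Subgroup H))) = roots ρ (T : Subgroup H) :=
    (Subgroup.eq_of_le_of_card_ge h.roots_le_chain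
      (Nat.le_of_mul_le_mul_right ((card_chain h.base _).trans hwt.le) Nat.card_pos)).symm
  exact hchain ▸ mem_chain.2 ⟨hfix, hkey⟩

/-- A rank one group over the roots. -/
theorem exists_rankOne : ∃ (x : H) (A : Subgroup H) (F : Type) (_ : Field F) (_ : Fintype F) (n : ℕ)
    (f : ↥(roots ρ (T : Subgroup H) ⊔ Subgroup.zpowers x) →* SL(2, F)),
    1 ≤ n ∧ Fintype.card F = 2 ^ n ∧ Good ρ A ∧ x ∈ A ∧ x ∉ N ∧ Function.Surjective f ∧
    fx ρ (roots ρ (T : Subgroup H)) ⊔ fx ρ (Subgroup.zpowers x) = ⊤ ∧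
    (∀ R ≤ roots ρ (T : Subgroup H) ⊔ Subgroup.zpowers x, IsPGroup 2 R → roots ρ (T : Subgroup H) ≤ R →
      R = roots ρ (T : Subgroup H)) ∧
    ∀ K ≤ roots ρ (T : Subgroup H) ⊔ Subgroup.zpowers x, roots ρ (T : Subgroup H) ≤ K →
      K = roots ρ (T : Subgroup H) ⊔ Subgroup.zpowers x ∨
        K ≤ Subgroup.normalizer (roots ρ (T : Subgroup H) : Set H) := by
  classical
  obtain ⟨X, hX, L, g, F, iF, iFF, n, φ, hLN, hn, hF, hφ, hgen, hcard, hcent, hspan⟩ := h.block
  haveI : CharP F 2 := charP_of_card_eq_prime_pow hF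
  set X' := cj g X with hX'
  have hXL : X ≤ L := hgen ▸ le_sup_left
  have hX'L : X' ≤ L := hgen ▸ le_sup_right
  have hmax : ∀ P : Subgroup SL(2, F), IsPGroup 2 P → Nat.card P ≤ Nat.card X := by
    intro P hP
    obtain ⟨Q, hQ⟩ := hP.exists_le_sylow
    refine (Subgroup.card_le_of_le hQ).trans (le_of_eq ?_)
    rw [Sylow.card_eq_multiplicity, CfsgLib.Classical.sl2_ordProj 2, hcard]
  set ψ : L ≃* SL(2, F) := MulEquiv.ofBijective φ hφ
  set Xb : Subgroup SL(2, F) := (X.subgroupOf L).map ψ.toMonoidHom with hXb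
  have hXbcard : Nat.card Xb = Nat.card X := by
    exact (Subgroup.card_map_of_injective ψ.injective).trans
      (Nat.card_congr (Subgroup.subgroupOfEquivOfLe hXL).toEquiv)
  have hXbp : IsPGroup 2 Xb := ((T.2.to_le hX.2).comap_of_injective L.subtype L.subtype_injective).map _
  have hsyl : ∀ z : SL(2, F), ∃ P : Sylow 2 SL(2, F), (P : Subgroup SL(2, F)) = Xb.map (MulAut.conj z).toMonoidHom := by
    intro z
    obtain ⟨P, hP⟩ := (hXbp.map (MulAut.conj z).toMonoidHom).exists_le_sylow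
    refine ⟨P, (Subgroup.eq_of_le_of_card_ge hP ?_).symm⟩
    rw [Subgroup.card_map_of_injective (MulAut.conj z).injective, hXbcard]
    exact hmax _ P.2
  have hmove : ∀ K : Subgroup SL(2, F), Xb ≤ K → ∀ z ∈ K, z ∉ Subgroup.normalizer (Xb : Set SL(2, F)) → K = ⊤ := by
    intro K hK z hz hzN
    obtain ⟨P, hP⟩ := hsyl 1
    obtain ⟨Q, hQ⟩ := hsyl z
    have hP' : (P : Subgroup SL(2, F)) = Xb := hP.trans (map_conj_one Xb)
    have hne : P ≠ Q := fun e => hzN (map_conj_eq_iff.1 (by rw [← hQ, ← e, hP']))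
    refine top_le_iff.1 ((CfsgLib.Classical.sylowSL2_sup_eq_top P Q hne).ge.trans (sup_le (hP'.le.trans hK) ?_))
    rw [hQ]
    exact cj_le hK hz
  obtain ⟨x, hxX', hxN⟩ : ∃ x ∈ X', x ∉ N := by
    by_contra hall
    push Not at hall
    exact hLN (hgen ▸ sup_le (hX.2.trans h.base.le) hall)
  have hxX : x ∉ X := fun hm => hxN (h.base.le (hX.2 hm))
  have hgenL : L ≤ X ⊔ Subgroup.zpowers x := by
    set K := (X ⊔ Subgroup.zpowers x).subgroupOf L
    have hK : K.map ψ.toMonoidHom = ⊤ := by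
      refine hmove _ (Subgroup.map_mono fun y hy => Subgroup.mem_sup_left (T := Subgroup.zpowers x) hy)
        (ψ ⟨x, hX'L hxX'⟩) ⟨⟨x, hX'L hxX'⟩, Subgroup.mem_sup_right (Subgroup.mem_zpowers x), rfl⟩ fun hzN => ?_
      have hp : IsPGroup 2 (Xb ⊔ Subgroup.zpowers (ψ ⟨x, hX'L hxX'⟩) : Subgroup SL(2, F)) := by
        refine hXbp.to_sup_of_normal_left' ?_ (Subgroup.zpowers_le.2 hzN)
        have := (((hX.1.cj g).isPGroup h.base.amb).comap_of_injective L.subtype L.subtype_injective).map ψ.toMonoidHom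
        exact this.to_le (Subgroup.zpowers_le.2 ⟨⟨x, hX'L hxX'⟩, hxX', rfl⟩)
      have heq := Subgroup.eq_of_le_of_card_ge (le_sup_left :
        Xb ≤ Xb ⊔ Subgroup.zpowers (ψ ⟨x, hX'L hxX'⟩)) (hXbcard ▸ hmax _ hp)
      have hmem : ψ ⟨x, hX'L hxX'⟩ ∈ Xb := heq ▸ Subgroup.mem_sup_right (Subgroup.mem_zpowers _)
      obtain ⟨y, hy, e⟩ := hmem
      have e1 : (y : H) = x := congrArg Subtype.val (ψ.injective e)
      exact hxX (e1 ▸ hy)
    intro l hl
    obtain ⟨l', hl', e⟩ : ψ ⟨l, hl⟩ ∈ K.map ψ.toMonoidHom := hK ▸ Subgroup.mem_top _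
    have e1 : (l' : H) = l := congrArg Subtype.val (ψ.injective e)
    exact e1 ▸ hl'
  set R₀ := rest ρ (T : Subgroup H) X with hR₀
  have hD : roots ρ (T : Subgroup H) ⊔ Subgroup.zpowers x = L ⊔ R₀ := by
    refine le_antisymm (sup_le ((sup_rest hX).ge.trans (sup_le_sup_right hXL _))
      (Subgroup.zpowers_le.2 (Subgroup.mem_sup_left (hX'L hxX')))) (sup_le (hgenL.trans ?_) ((rest_le X).trans le_sup_left))
    exact sup_le_sup_right (le_roots hX) _
  set D := roots ρ (T : Subgroup H) ⊔ Subgroup.zpowers x with hDdef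
  have hcommLR : ∀ (l : L) (r : R₀), Commute (L.subtype l) (R₀.subtype r) := fun l r =>
    Subgroup.mem_centralizer_iff.1 (hcent r.2) l l.2
  have hinj : ∀ l ∈ L, l ∈ R₀ → l = 1 := by
    intro l hl hlR
    have hc : ψ ⟨l, hl⟩ ∈ Subgroup.center SL(2, F) := Subgroup.mem_center_iff.2 fun z => by
      obtain ⟨⟨m, hm⟩, rfl⟩ := ψ.surjective z
      rw [← map_mul, ← map_mul]
      exact congrArg ψ (Subtype.ext (Subgroup.mem_centralizer_iff.1 (hcent hlR) m hm))
    have h1 : ψ ⟨l, hl⟩ = 1 := by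
      rcases CfsgLib.Classical.sl2_center_eq hc with e | e
      · exact e
      · rw [e]
        ext i j
        simp only [Matrix.SpecialLinearGroup.coe_neg, Matrix.SpecialLinearGroup.coe_one]
        rw [Matrix.neg_apply, CharTwo.neg_eq]
    exact congrArg Subtype.val (ψ.injective (h1.trans (map_one ψ).symm))
  have hdec : ∀ z ∈ D, ∃ l : L, ∃ r : R₀, (l : H) * r = z := by
    intro z hz
    rw [hD, ← SetLike.mem_coe, Subgroup.coe_mul_of_right_le_normalizer_left _ _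
      (hcent.trans (Subgroup.centralizer_le_normalizer _))] at hz
    obtain ⟨l, hl, r, hr, rfl⟩ := hz
    exact ⟨⟨l, hl⟩, ⟨r, hr⟩, rfl⟩
  choose lp rp hlr using fun z : D => hdec z z.2
  have huniq : ∀ (l l' : L) (r r' : R₀), (l : H) * r = l' * r' → l = l' := by
    intro l l' r r' e
    have e1 : (l' : H)⁻¹ * l = r' * (r : H)⁻¹ := by
      rw [eq_mul_inv_iff_mul_eq, mul_assoc, e, inv_mul_cancel_left]
    have := hinj _ (mul_mem (inv_mem l'.2) l.2) (e1 ▸ mul_mem r'.2 (inv_mem r.2))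
    exact (Subtype.ext (inv_mul_eq_one.1 this)).symm
  let f : D →* SL(2, F) := MonoidHom.mk' (fun z => ψ (lp z)) fun z w => by
    rw [← map_mul]
    refine congrArg ψ (huniq _ _ (rp (z * w)) (rp z * rp w) ?_)
    have hc : (lp w : H) * rp z = rp z * lp w := (hcommLR (lp w) (rp z)).eq
    rw [hlr, Subgroup.coe_mul, Subgroup.coe_mul, Subgroup.coe_mul, mul_assoc,
      ← mul_assoc ((lp w : H)), hc, mul_assoc, hlr w, ← mul_assoc, hlr z]
  have hf : ∀ (z : D) (l : L) (r : R₀), (l : H) * r = z → f z = ψ l := fun z l r e =>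
    congrArg ψ (huniq _ _ (rp z) r ((hlr z).trans e.symm))
  have hfroots : ∀ z : D, f z ∈ Xb → (z : H) ∈ roots ρ (T : Subgroup H) := by
    rintro z ⟨y, hy, e⟩
    rw [← hlr z, show lp z = y from (ψ.injective e).symm]
    exact mul_mem (le_roots hX hy) (rest_le X (rp z).2)
  have hfX : ∀ y ∈ X, ∀ (hy : y ∈ D), f ⟨y, hy⟩ ∈ Xb := fun y hy hyD => by
    rw [hf ⟨y, hyD⟩ ⟨y, hXL hy⟩ 1 (mul_one y)]
    exact ⟨_, hy, rfl⟩
  have hXD : X ≤ D := (le_roots hX).trans le_sup_left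
  refine ⟨x, X', F, iF, iFF, n, f, hn, hF, hX.1.cj g, hxX', hxN, fun s => ?_, ?_, fun R hRD hR hle => ?_, fun K hKD hle => ?_⟩
  · obtain ⟨l, rfl⟩ := ψ.surjective s
    exact ⟨⟨l, hD.ge (Subgroup.mem_sup_left l.2)⟩, hf _ l 1 (mul_one _)⟩
  · refine top_le_iff.1 (hspan.ge.trans (sup_le_sup ((AddSubgroup.closure_le _).2 ?_) (fx_anti ρ ?_)))
    · rintro _ ⟨a, ha, v, rfl⟩
      exact h.comm_mem_roots_fx (le_roots hX ha) v
    · exact Subgroup.zpowers_le.2 hxX'
  · refine le_antisymm (fun r hr => hfroots ⟨r, hRD hr⟩ ?_) hle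
    have hp : IsPGroup 2 ((R.subgroupOf D).map f) := (hR.comap_of_injective D.subtype D.subtype_injective).map f
    have hXR : Xb ≤ (R.subgroupOf D).map f := by
      rintro _ ⟨y, hy, rfl⟩
      exact ⟨⟨y, hXD hy⟩, hle (le_roots hX hy), hf _ y 1 (mul_one _)⟩
    rw [Subgroup.eq_of_le_of_card_ge hXR (hXbcard ▸ hmax _ hp)]
    exact ⟨_, hr, rfl⟩
  · by_cases hall : ∀ k (hk : k ∈ K), f ⟨k, hKD hk⟩ ∈ Subgroup.normalizer (Xb : Set SL(2, F))
    · refine Or.inr fun k hk => ?_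
      refine map_conj_eq_iff.1 (Subgroup.eq_of_le_of_card_ge ?_ (card_cj k _).ge)
      rintro _ ⟨r, hr, rfl⟩
      have hrD : r ∈ D := Subgroup.mem_sup_left hr
      have hr' : f ⟨r, hrD⟩ ∈ Xb := by
        rw [SetLike.mem_coe, ← sup_rest hX, ← SetLike.mem_coe, Subgroup.coe_mul_of_right_le_normalizer_left _ _
          (hcent.trans ((Subgroup.centralizer_le hXL).trans (Subgroup.centralizer_le_normalizer _)))] at hr
        obtain ⟨y, hy, s, hs, rfl⟩ := hr
        rw [hf _ ⟨y, hXL hy⟩ ⟨s, hs⟩ rfl]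
        exact ⟨_, hy, rfl⟩
      refine hfroots ⟨_, mul_mem (mul_mem (hKD hk) hrD) (inv_mem (hKD hk))⟩ ?_
      have := (Subgroup.mem_normalizer_iff.1 (hall k hk) _).1 hr'
      rwa [← map_inv, ← map_mul, ← map_mul] at this
    · push Not at hall
      obtain ⟨k, hk, hkN⟩ := hall
      refine Or.inl (le_antisymm hKD ?_)
      show D ≤ K
      rw [hD]
      refine sup_le (fun l hl => ?_) ((rest_le X).trans hle)
      have htop : (K.subgroupOf D).map f = ⊤ := hmove _ (by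
        rintro _ ⟨y, hy, rfl⟩
        exact ⟨⟨y, hXD hy⟩, hle (le_roots hX hy), hf _ y 1 (mul_one _)⟩) _ ⟨_, hk, rfl⟩ hkN
      obtain ⟨z, hz, e⟩ : ψ ⟨l, hl⟩ ∈ (K.subgroupOf D).map f := htop ▸ Subgroup.mem_top _
      have e1 : (lp z : H) = l := congrArg Subtype.val (ψ.injective e)
      have := mul_mem (show (z : H) ∈ K from hz) (inv_mem (hle (rest_le X (rp z).2)))
      rwa [← hlr z, mul_inv_cancel_right, e1] at this

end Roots

end CfsgLib.PushingUpOdd
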