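import Cfsg.Agent.Lib.PushingUpOdd.Roots
import Cfsg.Agent.Lib.LocalEven.SolvableOffender

/-!
The good offenders in a Sylow two-subgroup always satisfy the conditions of `Roots`.
-/

set_option autoImplicit false
set_option linter.unusedSectionVars false
set_option linter.style.haveILetI false

open scoped MatrixGroups

namespace CfsgLib.PushingUpOdd

open CfsgLib.LocalEven.RankOneFF CfsgLib.LocalEven.SylowIn CfsgLib.LocalEven.MovesFixed

variable {H : Type*} [Group H] [Finite H] {W : Type*} [AddCommGroup W] [Finite W] [Fact (Nat.Prime 2)]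
  {ρ : H →* AddMonoid.End W} {T : Sylow 2 H} {N : Subgroup H}

section Linear

variable {A L : Subgroup H}

theorem card_pow_two (hc : Base ρ T N) {X : Subgroup H} (hX : Good ρ X) :
    ∃ n, 1 ≤ n ∧ Nat.card X = 2 ^ n := by
  obtain ⟨n, hn⟩ := IsPGroup.iff_card.1 (hX.isPGroup hc.amb)
  exact ⟨n, Nat.one_le_iff_ne_zero.2 fun h => hX.off.ne_bot (Subgroup.card_eq_one.1 (by rw [hn, h, pow_zero])), hn⟩

theorem lin_at (h : Lin ρ T N A L) {X : Subgroup H} (hX : X ∈ rootSet ρ (T : Subgroup H)) :
    ∃ M, Lin ρ T N X M := by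
  obtain ⟨t, ht, rfl⟩ := h.orbit hX.1 hX.2
  exact ⟨_, h.transport ht⟩

theorem roots_of_lin (h : Lin ρ T N A L) : Roots ρ T N := by
  classical
  refine ⟨h.base, fun X hX Y hY => ?_, fun X hX => ?_, fun D hD hDT X hX hXD => ?_, ?_⟩
  · obtain ⟨M, hM⟩ := lin_at h hX
    exact hM.orbit hY.1 hY.2
  · obtain ⟨M, hM⟩ := lin_at h hX
    obtain ⟨F, _, _, S, hC0, hwL, hgen, -⟩ := id hM.block
    refine ⟨fx ρ M, fun Y hY hne y hy v => (hM.centralise hY.1 hY.2 hne y hy).2 v, fx_anti ρ ?_, fun a ha ha1 v hv => ?_⟩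
    · refine hgen.ge.trans (sup_le Subgroup.le_normalClosure fun x hx => ?_)
      have := (Subgroup.normalClosure_normal (s := (X : Set H))).conj_mem _
        (Subgroup.le_normalClosure (mem_cj.1 hx)) S.w
      simpa [mul_assoc] using this
    · obtain ⟨t, rfl⟩ := S.a_surj a ha
      obtain ⟨s, r, c, hc, rfl⟩ := S.dec v
      have ht : t ≠ 0 := fun e => ha1 (by rw [e]; exact S.a_zero)
      have h1 : ρ (S.a t) (S.e s + S.f r + c) - (S.e s + S.f r + c) = ρ (S.a t) (S.f r) - S.f r := by
        rw [map_add, map_add, S.e_mem s _ (S.a_mem t), S.C0_le hc _ (S.a_mem t)]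
        abel
      rw [h1, ← hC0] at hv
      have h2 : S.e (t * r) + S.f 0 ∈ S.C0 := by
        rw [map_zero, add_zero]
        have := sub_mem hv (S.act t r)
        rwa [sub_sub_cancel] at this
      have hr : r = 0 := (mul_eq_zero.1 (S.indep _ _ h2).1).resolve_left ht
      rw [hr, map_zero, add_zero]
      exact add_mem (S.e_mem s) (S.C0_le hc)
  · obtain ⟨M, hM⟩ := lin_at h hX
    have hnorm : ∀ d ∈ D, LocalEven.RankOneFF.cj d M = M := fun d hd => hM.fix_block (hDT hd) (map_conj_eq_iff.2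
      (Subgroup.centralizer_le_normalizer _ (Subgroup.mem_centralizer_iff.2 fun x hx => hD.comm x (hXD hx) d hd)))
    obtain ⟨D₁, hle, hne, hwt, hsup⟩ := hM.block.step h.base hX.1 hD.comm hD.pow hD.wt hXD hnorm
    refine ⟨D₁, hle, lt_of_le_of_ne (Subgroup.card_le_of_le hle) fun e => hne (Subgroup.eq_of_le_of_card_ge hle e.ge),
      ⟨fun a ha b hb => hD.comm a (hle ha) b (hle hb), fun a ha => hD.pow a (hle ha), hwt⟩, ?_⟩
    obtain ⟨F, iF, iFF, S, -, -, -, φ, -, hφ, -⟩ := id hM.block
    obtain ⟨n, -, hn⟩ := card_pow_two h.base hX.1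
    haveI : CharP F 2 := charP_of_card_eq_prime_pow (S.card_F.trans hn)
    have hDM : D ⊓ M = X := by
      refine (Subgroup.eq_of_le_of_card_ge (le_inf hXD hM.block.le) ?_).symm
      have hp : IsPGroup 2 (((D ⊓ M).subgroupOf M).map φ) :=
        ((T.2.to_le (inf_le_left.trans hDT)).comap_of_injective M.subtype M.subtype_injective).map φ
      obtain ⟨P, hP⟩ := hp.exists_le_sylow
      calc Nat.card ↥(D ⊓ M) = Nat.card ↥(((D ⊓ M).subgroupOf M).map φ) := by
            rw [Subgroup.card_map_of_injective hφ.1, Nat.card_congr (Subgroup.subgroupOfEquivOfLe inf_le_right).toEquiv]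
        _ ≤ Nat.card P := Subgroup.card_le_of_le hP
        _ = Nat.card X := by rw [Sylow.card_eq_multiplicity, CfsgLib.Classical.sl2_ordProj 2, S.card_F]
    intro d hd
    have hd' := hsup hd
    rw [← SetLike.mem_coe, Subgroup.coe_mul_of_right_le_normalizer_left _ _
      (fun z hz => map_conj_eq_iff.1 (hnorm z (hle hz)))] at hd'
    obtain ⟨l, hl, z, hz, e⟩ := hd'
    have hlD : l ∈ D := by
      have := mul_mem hd (inv_mem (hle hz))
      rwa [← e, mul_inv_cancel_right] at this
    rw [← e]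
    exact mul_mem (Subgroup.mem_sup_left (hDM.le ⟨hlD, hl⟩)) (Subgroup.mem_sup_right hz)
  · obtain ⟨F, iF, iFF, S, hC0, hwL, hgen, φ, ψ, hφ, -⟩ := id h.block
    obtain ⟨n, hn1, hn⟩ := card_pow_two h.base h.good
    refine ⟨A, ⟨h.good, h.leT⟩, L, S.w, F, iF, iFF, n, φ, h.outside, hn1, S.card_F.trans hn, hφ, hgen, S.card_F.symm, ?_, ?_⟩
    · refine le_trans (sSup_le fun Y hY => ?_) h.others_le_centralizer
      exact CfsgLib.Fsys.CentralTorus.le_gen ⟨hY.1.1, hY.2⟩ hY.1.2
    · rw [eq_top_iff]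
      intro v _
      have hwA : LocalEven.RankOneFF.cj S.w A ≤ L := hgen ▸ le_sup_right
      have hCw : S.C0 ≤ fx ρ (LocalEven.RankOneFF.cj S.w A) := hC0.le.trans (fx_anti ρ hwA)
      obtain ⟨s, r, c, hc, rfl⟩ := S.dec v
      refine add_mem (add_mem ?_ (AddSubgroup.mem_sup_right ?_)) (AddSubgroup.mem_sup_right (hCw hc))
      · have h1 := S.act 1 s
        rw [one_mul] at h1
        have h2 := sub_mem (AddSubgroup.mem_sup_left (T := fx ρ (LocalEven.RankOneFF.cj S.w A))
          (AddSubgroup.subset_closure ⟨_, S.a_mem 1, S.f s, rfl⟩ : ρ (S.a 1) (S.f s) - S.f s ∈ commSub ρ A))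
          (AddSubgroup.mem_sup_right (S := commSub ρ A) (hCw h1))
        rwa [sub_sub_cancel] at h2
      · have := act_mem_fx ρ S.w (S.e_mem (-r))
        rwa [S.w_e, neg_neg] at this

end Linear

section Transvections

/-- Two noncommuting transvections generate `SL₂(2)`. -/
theorem exists_sl_two (hT : Trans ρ T N) {d e : H} (hd : Tv ρ d) (he : Tv ρ e) (h1 : lam ρ d (cen ρ e) = 1) :
    ∃ φ : Subgroup.closure ({d, e} : Set H) →* SL(2, ZMod 2), Function.Bijective φ := by
  classical
  have hdd := hT.mul_self hd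
  have hee := hT.mul_self he
  have hbr := hT.braid hd he h1
  have hdi := hT.inv_eq hd
  have hei := hT.inv_eq he
  have hne : d * e ≠ e * d := fun c => by
    have := (hT.comm_iff hd he).1 c
    rw [h1] at this
    exact one_ne_zero this
  have hde : d ≠ e := fun c => hne (by rw [c])
  set f := d * e * d with hf
  have hfd : f ≠ d := fun c => hde (by
    have : e = d * f * d := by rw [hf]; simp only [mul_assoc, hdd, mul_one]; rw [← mul_assoc, hdd, one_mul]
    rw [this, c, hdd, one_mul])
  have hfe : f ≠ e := fun c => hne (by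
    calc d * e = f * d := by rw [hf, mul_assoc, hdd, mul_one]
      _ = e * d := by rw [c])
  set L := Subgroup.closure ({d, e} : Set H)
  let S : Set H := {d, e, f}
  have hdef : d * f * d = e := by
    rw [hf, show d * (d * e * d) * d = (d * d) * e * (d * d) by simp only [mul_assoc], hdd, one_mul, mul_one]
  have hefe : e * f * e = d := by
    rw [hbr, show e * (e * d * e) * e = (e * e) * d * (e * e) by simp only [mul_assoc], hee, one_mul, mul_one]
  have hLS : L ≤ Subgroup.normalizer S := by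
    refine (Subgroup.closure_le _).2 ?_
    rintro g hg
    refine Subgroup.mem_normalizer_fintype fun x hx => ?_
    rcases hg with rfl | rfl <;> rcases hx with rfl | rfl | rfl
    · rw [mul_inv_cancel_right]; exact Or.inl rfl
    · rw [hdi]; exact Or.inr (Or.inr rfl)
    · rw [hdi, hdef]; exact Or.inr (Or.inl rfl)
    · rw [hei, ← hbr]; exact Or.inr (Or.inr rfl)
    · rw [mul_inv_cancel_right]; exact Or.inr (Or.inl rfl)
    · rw [hei, hefe]; exact Or.inl rfl
  letI : MulAction L S :=
    { smul := fun g x => ⟨(g : H) * x * (g : H)⁻¹, (Subgroup.mem_set_normalizer_iff.1 (hLS g.2) x).1 x.2⟩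
      one_smul := fun x => Subtype.ext (show (1 : H) * x * 1⁻¹ = x by simp)
      mul_smul := fun g g' x => Subtype.ext (show ((g * g' : L) : H) * x * ((g * g' : L) : H)⁻¹ =
        g * (g' * x * (g' : H)⁻¹) * (g : H)⁻¹ by rw [Subgroup.coe_mul]; group) }
  have hcard : Nat.card S = 3 := by
    rw [Nat.card_coe_set_eq, show S = {d, e, f} from rfl, Set.ncard_eq_three]
    exact ⟨d, e, f, hde, hfd.symm, hfe.symm, rfl⟩
  let Φ : L →* Equiv.Perm (Fin 3) :=
    (Equiv.permCongrHom (Finite.equivFinOfCardEq hcard)).toMonoidHom.comp (MulAction.toPermHom L S)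
  have hdL : d ∈ L := Subgroup.subset_closure (Or.inl rfl)
  have heL : e ∈ L := Subgroup.subset_closure (Or.inr rfl)
  have hinj : Function.Injective Φ := by
    refine (Equiv.permCongrHom (Finite.equivFinOfCardEq hcard)).injective.comp
      ((injective_iff_map_eq_one _).2 fun g hg => ?_)
    have hfix : ∀ x ∈ S, (g : H) * x * (g : H)⁻¹ = x := fun x hx => by
      have h2 : g • (⟨x, hx⟩ : S) = ⟨x, hx⟩ := DFunLike.congr_fun hg (⟨x, hx⟩ : S)
      exact congrArg Subtype.val h2
    have hgd : (g : H) * d = d * g := mul_inv_eq_iff_eq_mul.1 (hfix d (Or.inl rfl))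
    have hge : (g : H) * e = e * g := mul_inv_eq_iff_eq_mul.1 (hfix e (Or.inr (Or.inl rfl)))
    have hclosed : ∀ y ∈ ({1, d, e, d * e, e * d, f} : Set H),
        d * y ∈ ({1, d, e, d * e, e * d, f} : Set H) ∧ e * y ∈ ({1, d, e, d * e, e * d, f} : Set H) := by
      intro y hy
      simp only [Set.mem_insert_iff, Set.mem_singleton_iff] at hy ⊢
      rcases hy with c | c | c | c | c | c
      · subst c; simp
      · subst c; simp [hdd]
      · subst c; simp [hee]
      · subst c
        rw [← mul_assoc, ← mul_assoc, hdd, one_mul, ← hbr]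
        simp
      · subst c
        rw [← mul_assoc, ← mul_assoc, hee, one_mul, ← hf]
        simp
      · subst c
        have e1 : d * f = e * d := by rw [hf, ← mul_assoc, ← mul_assoc, hdd, one_mul]
        have e2 : e * f = d * e := by rw [hbr, ← mul_assoc, ← mul_assoc, hee, one_mul]
        rw [e1, e2]
        simp
    have hsix : (g : H) ∈ ({1, d, e, d * e, e * d, f} : Set H) := by
      refine Subgroup.closure_induction_left (p := fun x _ => x ∈ ({1, d, e, d * e, e * d, f} : Set H))
        (Or.inl rfl) ?_ ?_ g.2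
      · rintro x (rfl | rfl) y - hy
        exacts [(hclosed y hy).1, (hclosed y hy).2]
      · rintro x (rfl | rfl) y - hy
        · rw [hdi]; exact (hclosed y hy).1
        · rw [hei]; exact (hclosed y hy).2
    refine Subtype.ext ?_
    rcases hsix with c | c | c | c | c | c <;> rw [c] at hgd hge
    · exact c
    · exact absurd hge hne
    · exact absurd hgd.symm hne
    · rw [← mul_assoc, hdd, one_mul] at hgd
      exact absurd hgd hfe
    · rw [mul_assoc, hdd, mul_one] at hgd
      exact absurd (hgd.trans (mul_assoc d e d).symm) hfe.symm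
    · have h2 : f * d = d * e := by rw [hf, mul_assoc, hdd, mul_one]
      have h3 : d * f = e * d := by rw [hf, ← mul_assoc, ← mul_assoc, hdd, one_mul]
      exact absurd (h2.symm.trans (hgd.trans h3)) hne
  have hsix : 6 ≤ Nat.card L := by
    have hdo : orderOf (⟨d, hdL⟩ : L) = 2 := by
      rw [← Subgroup.orderOf_coe]; exact hT.orderOf_eq hd
    have hdeo : orderOf (⟨d * e, mul_mem hdL heL⟩ : L) = 3 := by
      rw [← Subgroup.orderOf_coe]
      refine orderOf_eq_prime ?_ fun c => hde ?_
      · calc (d * e) ^ 3 = d * e * d * (e * d * e) := by simp only [pow_succ, pow_zero, one_mul, mul_assoc]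
          _ = f * f := by rw [← hbr, hf]
          _ = d * (e * ((d * d) * (e * d))) := by rw [hf]; simp only [mul_assoc]
          _ = 1 := by rw [hdd, one_mul, ← mul_assoc e e, hee, one_mul, hdd]
      · rw [eq_inv_of_mul_eq_one_left c, hei]
    refine Nat.le_of_dvd Nat.card_pos (Nat.Coprime.mul_dvd_of_dvd_of_dvd (by norm_num : Nat.Coprime 2 3) ?_ ?_)
    · exact hdo ▸ orderOf_dvd_natCard _
    · exact hdeo ▸ orderOf_dvd_natCard _
  have hbij : Function.Bijective Φ := by
    refine (Nat.bijective_iff_injective_and_card Φ).2 ⟨hinj, le_antisymm (Nat.card_le_card_of_injective _ hinj) ?_⟩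
    rw [Nat.card_perm, Nat.card_fin]
    exact hsix
  obtain ⟨ψ⟩ := CfsgLib.LocalEven.SolvableOffender.exists_sl_two_equiv_perm
  exact ⟨ψ.symm.toMonoidHom.comp Φ, ψ.symm.bijective.comp hbij⟩

variable {m : ℕ} {k : Fin m → H}

theorem exists_fixedPoint (h : Sym ρ T N k) : ∃ z, mate T k z = z := by
  classical
  obtain ⟨n, hn, hm⟩ := h.degree
  haveI := Fintype.ofFinite {e // e ∈ inT T k}
  have hp := h.card_points
  rw [Fintype.card_option, Fintype.card_fin] at hp
  by_contra hall
  push Not at hall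
  rw [Finset.card_eq_zero.2 (Finset.filter_eq_empty_iff.2 fun x _ => hall x), add_zero] at hp
  have : Even m := hm ▸ Nat.even_pow.2 ⟨even_two, by omega⟩
  obtain ⟨a, ha⟩ := this
  omega

theorem inT_orbit (h : Sym ρ T N k) {e f : H} (he : e ∈ inT T k) (hf : f ∈ inT T k) :
    ∃ t ∈ (T : Subgroup H), t * e * t⁻¹ = f := by
  classical
  let P : H → Prop := fun f => ∃ t ∈ stabT T k, t * e * t⁻¹ = f
  suffices hP : P f by
    obtain ⟨t, ht, e'⟩ := hP
    exact ⟨t, ht.1, e'⟩
  by_contra hPf
  have hP0 : P e := ⟨1, one_mem _, by group⟩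
  have hPinv : ∀ t ∈ stabT T k, ∀ f, P f → P (t * f * t⁻¹) := fun t ht f ⟨s, hs, e'⟩ =>
    ⟨t * s, mul_mem ht hs, by rw [← e']; group⟩
  obtain ⟨z₀, hz₀⟩ := exists_fixedPoint h
  obtain ⟨c, hc, hce⟩ := h.exists_pairAt he
  have hcz : c ≠ z₀ := fun e' => hc (e' ▸ hz₀)
  refine h.no_partition (fun f g => P f ∧ P g) (fun _ _ h => ⟨h.2, h.1⟩) (fun _ _ _ h h' => ⟨h.1, h'.2⟩)
    (fun t ht f g h => ⟨hPinv t ht f h.1, hPinv t ht g h.2⟩) (fun _ _ _ h h' => ⟨h.1, h'.2⟩)
    ⟨e, he, f, hf, fun e' => hPf (e' ▸ hP0), fun h => hPf h.2⟩ hc hcz (by rwa [hz₀])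
    ((h.mem_linked_iff hcz.symm).2 (Or.inr ?_)) fun z hz => h.fixed_unique hz hz₀
  intro u v hu hv hu' hv'
  obtain rfl : u = c := hu.resolve_left fun e' => hu' (e' ▸ hz₀)
  obtain rfl : v = u := hv.resolve_left fun e' => hv' (e' ▸ hz₀)
  rw [hce]
  exact ⟨hP0, hP0⟩

/-- A root with its component, the two ends, and the point outside the matching. -/
theorem exists_at (h : Sym ρ T N k) {X : Subgroup H} (hX : X ∈ rootSet ρ (T : Subgroup H)) :
    ∃ (k' : Fin m → H) (x y z : Option (Fin m)), Sym ρ T N k' ∧ x ≠ y ∧ z ≠ x ∧ z ≠ y ∧ mate T k' x = y ∧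
      mate T k' z = z ∧ X = Subgroup.zpowers (edge k' x y) := by
  obtain ⟨d, hd, rfl⟩ := h.trans.exists_tv hX.1
  obtain ⟨t, ht, x, y, hxy, rfl⟩ := h.cover hd
  have h' := h.transport ht
  have hm := h'.mate_spec hxy (hX.2 (Subgroup.mem_zpowers _))
  obtain ⟨z, hz⟩ := exists_fixedPoint h'
  refine ⟨cjk t k, x, y, z, h', hxy, fun e => hxy ?_, fun e => hxy ?_, hm, hz, rfl⟩
  · rw [← hm, ← e, hz]
  · rw [← h'.mate_mate x, hm, ← e, hz]

theorem disjoint_pair (h : Sym ρ T N k) {x y u v : Option (Fin m)} (huv : u ≠ v) (hm : mate T k x = y)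
    (hf : edge k u v ∈ (T : Subgroup H)) (hne : edge k u v ≠ edge k x y) : u ≠ x ∧ u ≠ y ∧ v ≠ x ∧ v ≠ y := by
  have hs := h.star.toStar
  have hu := h.mate_spec huv hf
  have hv : mate T k v = u := by rw [← hu, h.mate_mate]
  have hy : mate T k y = x := by rw [← hm, h.mate_mate]
  refine ⟨fun e => hne ?_, fun e => hne ?_, fun e => hne ?_, fun e => hne ?_⟩
  · rw [show v = y by rw [← hu, e, hm], e]
  · rw [hs.edge_symm h.trans huv, show v = x by rw [← hu, e, hy], e]
  · rw [hs.edge_symm h.trans huv, show u = y by rw [← hv, e, hm], e]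
  · rw [show u = x by rw [← hv, e, hy], e]

theorem roots_of_sym (h₀ : Sym ρ T N k) : Roots ρ T N := by
  classical
  obtain ⟨n, hn, hm⟩ := h₀.degree
  have heven : Even m := hm ▸ Nat.even_pow.2 ⟨even_two, by omega⟩
  have hT := h₀.trans
  refine ⟨hT.base, fun X hX Y hY => ?_, fun X hX => ?_, fun D hD hDT X hX hXD => ?_, ?_⟩
  · obtain ⟨d, hd, rfl⟩ := hT.exists_tv hX.1
    obtain ⟨d', hd', rfl⟩ := hT.exists_tv hY.1
    obtain ⟨t, ht, hdt⟩ := h₀.cover hd
    obtain ⟨t', ht', hdt'⟩ := h₀.cover hd'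
    rw [mem_edges_cjk] at hdt hdt'
    obtain ⟨s, hs, he⟩ := inT_orbit h₀
      ⟨hdt, mul_mem (mul_mem (inv_mem ht) (hX.2 (Subgroup.mem_zpowers d))) ht⟩
      ⟨hdt', mul_mem (mul_mem (inv_mem ht') (hY.2 (Subgroup.mem_zpowers d'))) ht'⟩
    refine ⟨t' * s * t⁻¹, mul_mem (mul_mem ht' hs) (inv_mem ht), ?_⟩
    show (Subgroup.zpowers d).map (MulAut.conj (t' * s * t⁻¹)).toMonoidHom = _
    rw [MonoidHom.map_zpowers]
    congr 1
    show t' * s * t⁻¹ * d * (t' * s * t⁻¹)⁻¹ = d'
    calc _ = t' * (s * (t⁻¹ * d * t) * s⁻¹) * t'⁻¹ := by group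
      _ = d' := by rw [he]; group
  · obtain ⟨k', x, y, z, h, hxy, -, -, hm', -, rfl⟩ := exists_at h₀ hX
    have hs := h.star.toStar
    let R : AddSubgroup W := AddMonoidHom.ker ((Pi.evalAddMonoidHom (fun _ => ZMod 2) x).comp (hs.coordHom hT))
    have hR : ∀ w, w ∈ R ↔ coord ρ k' w x = 0 := fun w => Iff.rfl
    refine ⟨R, fun Y hY hne f hf v => ?_, fun w hw => (hR w).2 ?_, fun a ha ha1 v hv => ?_⟩
    · obtain ⟨f', hf', rfl⟩ := hT.exists_tv hY.1
      rcases hT.zpowers_eq hf' hf with rfl | rfl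
      · rw [LocalEven.RankOneFF.act_one, sub_self]; exact zero_mem R
      rw [hT.comm_cases hf']
      split_ifs
      · exact zero_mem R
      rw [hR]
      by_cases hfe : f ∈ edges k'
      · obtain ⟨u, w, huw, rfl⟩ := hfe
        obtain ⟨h1, -, h3, -⟩ := disjoint_pair h huw hm' (hY.2 (Subgroup.mem_zpowers _)) fun e => hne (by rw [e])
        rw [hs.coord_edge hT heven huw, ind_ne h1.symm, ind_ne h3.symm, add_zero]
      · refine (hs.coord_eq_zero_iff hT heven _).2 ((hs.mem_fx_closure hT _).2 fun i => ?_) x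
        rw [hT.lam_symm (hs.tv i) hf']
        exact ((h.star.dichotomy hT hf').resolve_left hfe) _ (mem_edges k' i)
    · refine (hs.coord_eq_zero_iff hT heven _).2 ((mem_fx_iff_le ρ).2 ?_) x
      refine le_trans ?_ ((mem_fx_iff_le ρ).1 hw)
      rw [← closure_edges, Subgroup.closure_le]
      exact h.edges_le_normal Subgroup.normalClosure_normal ⟨x, y, hxy, rfl⟩
        (Subgroup.le_normalClosure (Subgroup.mem_zpowers _))
    · obtain rfl := (hT.zpowers_eq (hs.tv_edge hT x y hxy) ha).resolve_left ha1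
      refine mem_fx_zpowers ρ |>.2 (lam_eq_zero_iff.1 ?_)
      rcases zmod2_cases (lam ρ (edge k' x y) v) with e | e
      · exact e
      exfalso
      rw [hR, hT.act_of_one (hs.tv_edge hT x y hxy) e, add_sub_cancel_left, hs.coord_edge hT heven hxy, ind_self,
        ind_ne hxy, add_zero] at hv
      exact one_ne_zero hv
  · obtain ⟨k', x, y, z, h, hxy, hzx, hzy, hm', hz, rfl⟩ := exists_at h₀ hX
    have hs := h.star.toStar
    set a := edge k' x y
    have hTv := hs.tv_edge hT x y hxy
    have he : Tv ρ (edge k' x z) := hs.tv_edge hT x z hzx.symm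
    set u := cen ρ (edge k' x z)
    have hlam : lam ρ a u = 1 := by
      rw [hs.lam_edge_cen hT hzx.symm hxy, ind_self, ind_ne hxy, ind_ne hzx, ind_ne hzy]
      simp
    have hau : ρ a u = u + cen ρ a := hT.act_of_one hTv hlam
    have hsw : ∀ d ∈ D, ρ d u = u ∨ ρ d u = u + cen ρ a := by
      intro d hd
      have hfix : d * a * d⁻¹ = a := by
        rw [hD.comm d hd a (hXD (Subgroup.mem_zpowers _)), mul_inv_cancel_right]
      have hstab : d ∈ stabT T k' := h.mem_stabT (hDT hd) ⟨x, y, hxy, rfl⟩ (hfix.symm ▸ ⟨x, y, hxy, rfl⟩)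
      obtain ⟨p, q, hpq, hpqe⟩ := (Subgroup.mem_set_normalizer_iff.1 hstab.2 (edge k' x z)).1 ⟨x, z, hzx.symm, rfl⟩
      have hc : cen ρ (edge k' p q) = ρ d u := by rw [hpqe, hT.cen_conj d he]
      -- every pair of the matching other than `a` commutes with the image
      have hcom : ∀ f ∈ inT T k', f ≠ a → lam ρ f (cen ρ (edge k' p q)) = 0 := by
        intro f hf hfa
        have hf' : d⁻¹ * f * d ∈ inT T k' := by simpa using h.stabT_inT (inv_mem hstab) hf
        obtain ⟨⟨u', w', huw, e'⟩, hfT⟩ := id hf'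
        rw [← e'] at hfT
        obtain ⟨h1, -, h3, -⟩ := disjoint_pair h huw hm' hfT fun e => hfa (by
          rw [← hfix, show a = d⁻¹ * f * d from e.symm.trans e']; group)
        have h2 : u' ≠ z := fun e => huw (by rw [← h.mate_spec huw hfT, e, hz])
        have h4 : w' ≠ z := fun e => huw (by
          have := h.mate_mate u'
          rw [h.mate_spec huw hfT, e, hz] at this
          rw [e, this])
        have h0 : lam ρ (d⁻¹ * f * d) u = 0 := by
          rw [← e', hs.lam_edge_cen hT hzx.symm huw, ind_ne h1.symm, ind_ne h3.symm, ind_ne h2.symm, ind_ne h4.symm,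
            add_zero, add_zero]
        rw [hc]
        have := Trans.lam_conj hT (d := d⁻¹ * f * d) d (ρ d u)
        rw [LocalEven.RankOneFF.act_inv] at this
        rw [← h0, ← this]
        congr 1
        group
      have hone : lam ρ a (cen ρ (edge k' p q)) = 1 := by
        rw [hc, ← hlam]
        have := Trans.lam_conj hT (d := a) d (ρ d u)
        rw [LocalEven.RankOneFF.act_inv, hfix] at this
        exact this
      rw [hs.lam_edge_cen hT hpq hxy] at hone
      have hout : ∀ w w', w ≠ w' → edge k' w w' = edge k' p q → (w = x ∨ w = y) → w' ≠ x → w' ≠ y → w' = z := by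
        intro w w' hww e hw hw1 hw2
        by_contra hwz
        have hmw : mate T k' w' ≠ w' := fun e' => hwz (h.fixed_unique e' hz)
        have hfa : pairAt T k' w' ≠ a := fun e' => by
          rw [pairAt] at e'
          rcases (hs.edge_eq_iff hT hmw.symm hxy).1 e' with ⟨c, -⟩ | ⟨c, -⟩
          exacts [hw1 c, hw2 c]
        have hwm : w ≠ mate T k' w' := by
          intro e'
          have : mate T k' w = w' := by rw [e', h.mate_mate]
          rcases hw with rfl | rfl
          · exact hw2 (this.symm.trans hm')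
          · exact hw1 (this.symm.trans (by rw [← hm', h.mate_mate]))
        have := hcom _ (h.pairAt_mem hmw) hfa
        rw [← e, pairAt, hs.lam_edge_cen hT hww hmw.symm, ind_ne hww, ind_ne hwm, ind_self, ind_ne hmw.symm,
          add_zero, zero_add] at this
        exact one_ne_zero this
      have hfin : ∀ w w', w ≠ w' → edge k' w w' = edge k' p q → (w = x ∨ w = y) → w' ≠ x → w' ≠ y →
          ρ d u = u ∨ ρ d u = u + cen ρ a := by
        intro w w' hww e hw hw1 hw2
        obtain rfl := hout w w' hww e hw hw1 hw2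
        rw [← hc, ← e]
        rcases hw with rfl | rfl
        · exact Or.inl rfl
        · refine Or.inr ?_
          have h2x : pointCen ρ k' x + pointCen ρ k' x = 0 := by
            rw [← two_nsmul]; exact hT.base.amb.exponent _
          rw [hs.cen_edge hT _ _ hww, show u = pointCen ρ k' x + pointCen ρ k' w' from hs.cen_edge hT _ _ hzx.symm,
            hs.cen_edge hT x _ hxy]
          calc pointCen ρ k' w + pointCen ρ k' w' =
              (pointCen ρ k' x + pointCen ρ k' x) + (pointCen ρ k' w + pointCen ρ k' w') := by rw [h2x, zero_add]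
            _ = _ := by abel
      by_cases hp : p = x ∨ p = y
      · by_cases hq : q = x ∨ q = y
        · exfalso
          rcases hp with rfl | rfl <;> rcases hq with rfl | rfl
          · exact hpq rfl
          · rw [ind_self, ind_ne hxy, ind_self, ind_ne hxy.symm] at hone; simp [CharTwo.add_self_eq_zero] at hone
          · rw [ind_self, ind_ne hxy, ind_self, ind_ne hxy.symm] at hone; simp [CharTwo.add_self_eq_zero] at hone
          · exact hpq rfl
        · push Not at hq
          exact hfin p q hpq rfl hp hq.1 hq.2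
      · push Not at hp
        by_cases hq : q = x ∨ q = y
        · exact hfin q p hpq.symm (hs.edge_symm hT hpq.symm) hq hp.1 hp.2
        · exfalso
          push Not at hq
          rw [ind_ne hp.1, ind_ne hp.2, ind_ne hq.1, ind_ne hq.2] at hone
          simp [CharTwo.add_self_eq_zero] at hone
    set D₁ := D ⊓ stab ρ u
    have haD : a ∈ D := hXD (Subgroup.mem_zpowers _)
    have ha₁ : a ∉ D₁ := fun hm' => by
      have h1 : ρ a u = u := hm'.2
      rw [hau, add_eq_left] at h1
      exact hT.cen_ne hTv h1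
    have hsup : D ≤ Subgroup.zpowers a ⊔ D₁ := by
      intro d hd
      rcases hsw d hd with e | e
      · exact Subgroup.mem_sup_right ⟨hd, e⟩
      · have h1 : a * d ∈ D₁ := by
          refine ⟨mul_mem haD hd, ?_⟩
          show ρ (a * d) u = u
          rw [LocalEven.RankOneFF.act_mul, e, map_add, hau, ← hau]
          rw [show ρ a (cen ρ a) = cen ρ a from Trans.act_of_zero hT (hT.lam_cen_self hTv), hau, add_assoc,
            hT.cen_add hTv, add_zero]
        have := mul_mem (Subgroup.mem_sup_left (T := D₁) (inv_mem (Subgroup.mem_zpowers a)))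
          (Subgroup.mem_sup_right (S := Subgroup.zpowers a) h1)
        rwa [inv_mul_cancel_left] at this
    have hlt : Nat.card D₁ < Nat.card D := lt_of_le_of_ne (Subgroup.card_le_of_le inf_le_left) fun e =>
      ha₁ ((Subgroup.eq_of_le_of_card_ge inf_le_left e.ge).ge haD)
    refine ⟨D₁, inf_le_left, hlt, ⟨fun a' ha' b hb => hD.comm a' ha'.1 b hb.1, fun a' ha' => hD.pow a' ha'.1, ?_⟩, hsup⟩
    have h2D : Nat.card D ≤ 2 * Nat.card D₁ := by
      have hnorm : D₁ ≤ Subgroup.normalizer (Subgroup.zpowers a : Set H) := fun b hb =>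
        Subgroup.centralizer_le_normalizer _ (Subgroup.mem_centralizer_iff.2 fun w hw =>
          hD.comm w (Subgroup.zpowers_le.2 haD hw) b hb.1)
      calc Nat.card D ≤ Nat.card ↥(Subgroup.zpowers a ⊔ D₁) := Subgroup.card_le_of_le hsup
        _ ≤ Nat.card ↥(Subgroup.zpowers a ⊔ D₁) * Nat.card ↥(Subgroup.zpowers a ⊓ D₁) :=
            Nat.le_mul_of_pos_right _ Nat.card_pos
        _ = Nat.card ↥(Subgroup.zpowers a) * Nat.card D₁ := CfsgLib.Fusion.Thompson.card_sup_mul_card_inf hnorm
        _ = _ := by rw [Nat.card_zpowers, hT.orderOf_eq hTv]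
    have hfx : 2 * Nat.card (fx ρ D) ≤ Nat.card (fx ρ D₁) := by
      have hle : fx ρ D ≤ fx ρ D₁ := fx_anti ρ inf_le_left
      have hne : fx ρ D ≠ fx ρ D₁ := fun e => by
        have h1 : ρ a u = u := (e ▸ (fun b hb => hb.2 : u ∈ fx ρ D₁) : u ∈ fx ρ D) a haD
        rw [hau, add_eq_left] at h1
        exact hT.cen_ne hTv h1
      obtain ⟨q, hq⟩ := AddSubgroup.card_dvd_of_le hle
      have hq2 : 2 ≤ q := by
        by_contra hlt'
        interval_cases q
        · have := Nat.card_pos (α := fx ρ D₁)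
          omega
        · exact hne (AddSubgroup.eq_of_le_of_card_ge hle (by rw [hq, mul_one]))
      rw [hq]
      calc 2 * Nat.card (fx ρ D) ≤ q * Nat.card (fx ρ D) := Nat.mul_le_mul_right _ hq2
        _ = _ := mul_comm _ _
    calc Nat.card W ≤ Nat.card D * Nat.card (fx ρ D) := hD.wt
      _ ≤ 2 * Nat.card D₁ * Nat.card (fx ρ D) := Nat.mul_le_mul_right _ h2D
      _ = Nat.card D₁ * (2 * Nat.card (fx ρ D)) := by ring
      _ ≤ _ := Nat.mul_le_mul_left _ hfx
  · obtain ⟨z, hz⟩ := exists_fixedPoint h₀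
    obtain ⟨x, hxz, hxN⟩ : ∃ x, x ≠ z ∧ edge k x z ∉ N := by
      by_contra hall
      push Not at hall
      have hs := h₀.star.toStar
      refine h₀.outside ((Subgroup.closure_le _).2 ?_)
      rintro _ ⟨i, rfl⟩
      show edge k none (some i) ∈ N
      by_cases h1 : none = z
      · rw [hs.edge_symm hT (by simp)]
        exact h1 ▸ hall (some i) (fun e => by rw [← e] at h1; exact absurd h1 (by simp))
      by_cases h2 : some i = z
      · exact h2 ▸ hall none h1
      have e := hs.edge_conj hT (x := none) (y := z) (u := some i) (v := z) h1 h2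
      rw [Equiv.swap_apply_of_ne_of_ne (by simp) h1, Equiv.swap_apply_right] at e
      rw [← e]
      exact mul_mem (mul_mem (hall _ h2) (hall _ h1)) (inv_mem (hall _ h2))
    set k' := k
    have h := h₀
    set y := mate T k x
    have hm' : mate T k x = y := rfl
    have hxy : x ≠ y := fun e => hxz (h.fixed_unique e.symm hz)
    have hzx : z ≠ x := hxz.symm
    have hzy : z ≠ y := fun e => hxz (by rw [← h.mate_mate x, ← hm'.symm, ← e, hz])
    have hX₁ : Subgroup.zpowers (edge k x y) ∈ rootSet ρ (T : Subgroup H) :=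
      ⟨(h.star.toStar.tv_edge hT x y hxy).2, Subgroup.zpowers_le.2 (h.pairAt_mem hxy.symm).2⟩
    have hs := h.star.toStar
    set d := edge k' x y
    set e := edge k' x z
    have hd : Tv ρ d := hs.tv_edge hT x y hxy
    have he : Tv ρ e := hs.tv_edge hT x z hzx.symm
    have hlam : lam ρ d (cen ρ e) = 1 := by
      rw [hs.lam_edge_cen hT hzx.symm hxy, ind_self, ind_ne hxy, ind_ne hzx, ind_ne hzy]
      simp
    have hlam' : lam ρ e (cen ρ d) = 1 := (hT.lam_symm he hd).trans hlam
    obtain ⟨g, hg⟩ := hT.conj_of_one hd he hlam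
    obtain ⟨φ, hφ⟩ := exists_sl_two hT hd he hlam
    have hcj : LocalEven.RankOneFF.cj g (Subgroup.zpowers d) = Subgroup.zpowers e := by
      rw [hg, LocalEven.RankOneFF.cj, MonoidHom.map_zpowers]; rfl
    have hgen : Subgroup.zpowers d ⊔ LocalEven.RankOneFF.cj g (Subgroup.zpowers d) = Subgroup.closure ({d, e} : Set H) := by
      rw [hcj, Subgroup.zpowers_eq_closure, Subgroup.zpowers_eq_closure, ← Subgroup.closure_union]
      rfl
    refine ⟨Subgroup.zpowers d, hX₁, Subgroup.closure ({d, e} : Set H), g, ZMod 2, inferInstance, inferInstance,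
      1, φ, fun hle => hxN (hle (Subgroup.subset_closure (Or.inr rfl))), le_rfl, by simp, hφ, hgen, ?_, ?_, ?_⟩
    · rw [Nat.card_zpowers, hT.orderOf_eq hd, ZMod.card]
    · refine sSup_le fun Y hY => ?_
      obtain ⟨f, hf, rfl⟩ := hT.exists_tv hY.1.1
      rw [Subgroup.zpowers_le, Subgroup.centralizer_closure, Subgroup.mem_centralizer_iff]
      have hfT : f ∈ (T : Subgroup H) := hY.1.2 (Subgroup.mem_zpowers f)
      have hfd : f ≠ d := fun c => hY.2 (by rw [c]; exact Set.mem_singleton _)
      by_cases hfe : f ∈ edges k'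
      · obtain ⟨p, q, hpq, rfl⟩ := hfe
        obtain ⟨h1, h2, h3, h4⟩ := disjoint_pair h hpq hm' hfT hfd
        have h5 : p ≠ z := fun c => hpq (by rw [← h.mate_spec hpq hfT, c, hz])
        have h6 : q ≠ z := fun c => hpq (by
          have := h.mate_mate p
          rw [h.mate_spec hpq hfT, c, hz] at this
          rw [c, this])
        rintro w (rfl | rfl)
        · refine ((hT.comm_iff hd hf).2 ?_)
          rw [hs.lam_edge_cen hT hpq hxy, ind_ne h1, ind_ne h2, ind_ne h3, ind_ne h4, add_zero, add_zero]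
        · refine ((hT.comm_iff he hf).2 ?_)
          rw [hs.lam_edge_cen hT hpq hzx.symm, ind_ne h1, ind_ne h5, ind_ne h3, ind_ne h6, add_zero, add_zero]
      · rintro w (rfl | rfl)
        · exact (h.comm_of_notMem hf hfe ⟨x, y, hxy, rfl⟩).symm
        · exact (h.comm_of_notMem hf hfe ⟨x, z, hzx.symm, rfl⟩).symm
    · rw [hcj, eq_top_iff]
      intro v _
      rcases zmod2_cases (lam ρ e v) with c | c
      · exact AddSubgroup.mem_sup_right ((mem_fx_zpowers ρ).2 (lam_eq_zero_iff.1 c))
      · have h1 : cen ρ d ∈ commSub ρ (Subgroup.zpowers d) := by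
          refine AddSubgroup.subset_closure ⟨d, Subgroup.mem_zpowers d, cen ρ e, ?_⟩
          rw [hT.act_of_one hd hlam, add_sub_cancel_left]
        have h2 : v - cen ρ d ∈ fx ρ (Subgroup.zpowers e) := (mem_fx_zpowers ρ).2 (lam_eq_zero_iff.1 (by
          rw [hT.lam_sub he, c, hlam', sub_self]))
        have := add_mem (AddSubgroup.mem_sup_right (S := commSub ρ (Subgroup.zpowers d)) h2)
          (AddSubgroup.mem_sup_left (T := fx ρ (Subgroup.zpowers e)) h1)
        rwa [sub_add_cancel] at this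

end Transvections

/-- The roots exist as soon as there is a good offender. -/
theorem exists_roots (hc : Base ρ T N) {A₀ : Subgroup H} (hA₀ : Good ρ A₀) : Roots ρ T N := by
  by_cases h3 : ∃ A, Good ρ A ∧ 3 ≤ Nat.card A
  · obtain ⟨A₁, hA₁, h3⟩ := h3
    obtain ⟨P, hP⟩ := (hA₁.isPGroup hc.amb).exists_le_sylow
    obtain ⟨g, hg⟩ := MulAction.exists_smul_eq H P T
    have hex : ∃ B ≤ (T : Subgroup H), Good ρ B ∧ 3 ≤ Nat.card B :=
      ⟨_, hg ▸ Subgroup.map_mono hP, hA₁.cj g, by rw [card_cj]; exact h3⟩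
    obtain ⟨B, L, hB, hBL, hLN, hloc, hmin⟩ := CfsgLib.Fsys.CentralTorus.exists_isolated
      (Q := fun B => Good ρ B ∧ 3 ≤ Nat.card B) (fun g B h => ⟨h.1.cj g, by rw [card_cj]; exact h.2⟩) T N hc.ne_top
      hc.overgroup hc.core (fun B hB => hB.1.off.ne_bot) hex
    obtain ⟨hBN, -⟩ := hloc B hBL (hB.1.isPGroup hc.amb) le_rfl
    obtain ⟨u, hu, hle⟩ := hc.exists_sylow (hB.1.isPGroup hc.amb) hBN
    refine roots_of_lin (A := LocalEven.RankOneFF.cj u⁻¹ B) (L := LocalEven.RankOneFF.cj u⁻¹ L) ⟨hc, hB.1.cj _,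
      cj_mem_of_conj hle, by rw [card_cj]; exact hB.2,
      ((block_of_isolated hc hB.1.off hB.1.strict hBL hLN hloc hmin).2.2 hB.2).cj _, fun h => hLN fun x hx => ?_⟩
    have h1 := h (conj_mem_cj u⁻¹ hx)
    have h2 := mul_mem (mul_mem hu h1) (inv_mem hu)
    simpa [mul_assoc] using h2
  · push Not at h3
    have hT : Trans ρ T N := ⟨hc, fun A hA => le_antisymm (Nat.le_of_lt_succ (h3 A hA))
      ((Subgroup.one_lt_card_iff_ne_bot _).2 hA.off.ne_bot)⟩
    obtain ⟨m, k, h⟩ := exists_sym hT hA₀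
    exact roots_of_sym h

end CfsgLib.PushingUpOdd
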