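import Cfsg.Agent.Lib.PushingUpOdd.RootsExist
import Cfsg.Agent.Lib.PushingUpSingle.BaumannPart

/-!
The action on `Ω₁(Z(O₂(G)))` when no nontrivial invariant subgroup of the Sylow subgroup is normal.
-/

set_option autoImplicit false
set_option linter.unusedSectionVars false
set_option linter.style.haveILetI false

open scoped IsMulCommutative

namespace CfsgLib.PushingUpOdd

open Cfsg CfsgLib.LocalEven.RankOneFF CfsgLib.LocalEven.SylowIn CfsgLib.LocalEven.MovesFixed
open CfsgLib.Fusion.Thompson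

variable {G : Type*} [Group G] [Finite G] [Fact (Nat.Prime 2)]

/-- The hypotheses. -/
structure Hyp (S : Sylow 2 G) (M : Subgroup G) (A : Subgroup (MulAut ↥(S : Subgroup G))) : Prop where
  con : Subgroup.centralizer (pCore 2 G : Set G) ≤ pCore 2 G
  coatom : IsCoatom M
  le : (S : Subgroup G) ≤ M
  overM : ∀ K : Subgroup G, (S : Subgroup G) ≤ K → K ≠ ⊤ → K ≤ M
  none : ∀ T : Subgroup ↥(S : Subgroup G), (T.map (S : Subgroup G).subtype).Normal →
    (∀ a ∈ A, ∀ x ∈ T, a x ∈ T) → T = ⊥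

namespace Hyp

variable {S : Sylow 2 G} {M : Subgroup G} {A : Subgroup (MulAut ↥(S : Subgroup G))} (h : Hyp S M A)

include h

theorem char {T : Subgroup ↥(S : Subgroup G)} (hT : T.Characteristic)
    (hn : (T.map (S : Subgroup G).subtype).Normal) : T = ⊥ :=
  h.none T hn fun a _ x hx => (Subgroup.characteristic_iff_map_eq.1 hT a).le ⟨x, hx, rfl⟩

theorem sylow_ne_bot : (S : Subgroup G) ≠ ⊥ := by
  intro e
  have hQ : pCore 2 G = ⊥ := le_bot_iff.1 (e ▸ Solvable.Cores.pCore_le_sylow S)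
  have htop : (⊤ : Subgroup G) ≤ ⊥ := by
    have h1 := h.con
    rw [hQ] at h1
    exact le_trans (fun x _ => by simp [Subgroup.mem_centralizer_iff]) h1
  exact h.coatom.1 (le_antisymm le_top (htop.trans bot_le))

theorem normalizer_char_le {T : Subgroup ↥(S : Subgroup G)} (hT : T.Characteristic) (hne : T ≠ ⊥) :
    Subgroup.normalizer (T.map (S : Subgroup G).subtype : Set G) ≤ M :=
  h.overM _ (fun _ hs => OddOrder.PStable.normalizer_le_normalizer_map (S : Subgroup G) T (Subgroup.le_normalizer hs))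
    fun e => hne (h.char hT (Subgroup.normalizer_eq_top_iff.1 e))

theorem normalizer_thompson_le : Subgroup.normalizer (thompsonSubgroupOf 2 (S : Subgroup G) : Set G) ≤ M := by
  refine h.normalizer_char_le inferInstance fun e => ?_
  haveI := (Subgroup.nontrivial_iff_ne_bot _).2 h.sylow_ne_bot
  haveI := S.2.center_nontrivial
  obtain ⟨B, hB⟩ := exists_maxEA (p := 2) (G := ↥(S : Subgroup G))
  obtain ⟨x, hx⟩ := exists_ne (1 : Subgroup.center ↥(S : Subgroup G))
  obtain ⟨k, hk⟩ := S.2 ((x : Subgroup.center ↥(S : Subgroup G)) : ↥(S : Subgroup G))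
  have hB1 : B = ⊥ := le_bot_iff.1 (e ▸ le_sSup hB)
  obtain ⟨y, hy⟩ : ∃ y : ↥(S : Subgroup G), orderOf y = 2 := by
    refine exists_prime_orderOf_dvd_card' 2 ?_
    obtain ⟨n, hn, e⟩ := S.2.nontrivial_iff_card.1 inferInstance
    rw [e]; exact dvd_pow_self 2 hn.ne'
  have hyEA : IsElementaryAbelian 2 (Subgroup.zpowers y) := ⟨inferInstance, fun z hz => by
    obtain ⟨i, rfl⟩ := hz
    rw [← zpow_natCast, ← zpow_mul, mul_comm, zpow_mul, zpow_natCast, (by rw [← orderOf_dvd_iff_pow_eq_one, hy] : y ^ 2 = 1), one_zpow]⟩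
  have := hB.2 _ hyEA
  rw [hB1, Subgroup.card_bot, Nat.card_zpowers, hy] at this
  omega

theorem centralizer_le (hne : omegaOneCenter 2 (S : Subgroup G) ≠ ⊥) :
    Subgroup.centralizer (omegaOneCenter 2 (S : Subgroup G) : Set G) ≤ M := by
  refine h.overM _ (fun s hs => Subgroup.mem_centralizer_iff.2 fun z hz =>
    (Subgroup.mem_centralizer_iff.1 (omc_le _ hz).2 s hs).symm) fun e => hne ?_
  have hcen : ∀ z ∈ omegaOneCenter 2 (S : Subgroup G), ∀ g, g * z * g⁻¹ = z := fun z hz g => by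
    have hg : g ∈ Subgroup.centralizer (omegaOneCenter 2 (S : Subgroup G) : Set G) := e ▸ Subgroup.mem_top g
    rw [← Subgroup.mem_centralizer_iff.1 hg z hz, mul_inv_cancel_right]
  set T := (omegaOneCenter 2 (S : Subgroup G)).subgroupOf (S : Subgroup G)
  have hmap : T.map (S : Subgroup G).subtype = omegaOneCenter 2 (S : Subgroup G) :=
    Subgroup.map_subgroupOf_eq_of_le ((omc_le _).trans inf_le_left)
  rw [← hmap, h.none T ⟨fun z hz g => by rw [hmap] at hz ⊢; rwa [hcen z hz g]⟩ fun a _ x hx => ?_, Subgroup.map_bot]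
  have hc := (Subgroup.mem_centralizer_iff.1 (omc_le _ hx).2 : _)
  refine mem_omc (a x).2 (fun y hy => ?_) ?_
  · have hs : a.symm ⟨y, hy⟩ * x = x * a.symm ⟨y, hy⟩ := Subtype.ext (hc _ (a.symm ⟨y, hy⟩).2)
    have := congrArg (fun z : ↥(S : Subgroup G) => ((a z : ↥(S : Subgroup G)) : G)) hs
    simpa using this
  · have hx2 : x ^ 2 = 1 := Subtype.ext (omc_pow _ hx)
    rw [← map_pow, ← map_pow, hx2, map_one, map_one]

theorem omc_ne_bot : omegaOneCenter 2 (S : Subgroup G) ≠ ⊥ := by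
  intro e
  haveI := (Subgroup.nontrivial_iff_ne_bot _).2 h.sylow_ne_bot
  haveI := S.2.center_nontrivial
  obtain ⟨y, hy⟩ : ∃ y : Subgroup.center ↥(S : Subgroup G), orderOf y = 2 := by
    refine exists_prime_orderOf_dvd_card' 2 ?_
    obtain ⟨n, hn, e⟩ := (S.2.to_subgroup (Subgroup.center ↥(S : Subgroup G))).nontrivial_iff_card.1 inferInstance
    rw [e]; exact dvd_pow_self 2 hn.ne'
  have hy2 : y ^ 2 = 1 := by rw [← orderOf_dvd_iff_pow_eq_one, hy]
  have hmem : ((y : ↥(S : Subgroup G)) : G) ∈ omegaOneCenter 2 (S : Subgroup G) := mem_omc (y : ↥(S : Subgroup G)).2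
    (fun w hw => congrArg Subtype.val (Subgroup.mem_center_iff.1 y.2 ⟨w, hw⟩))
    (congrArg (fun z : Subgroup.center ↥(S : Subgroup G) => ((z : ↥(S : Subgroup G)) : G)) hy2)
  rw [e, Subgroup.mem_bot] at hmem
  have : y = 1 := Subtype.ext (Subtype.ext hmem)
  rw [this, orderOf_one] at hy
  omega

theorem omc_le_Vp : omegaOneCenter 2 (S : Subgroup G) ≤ Vp 2 G := (Subgroup.closure_le _).2 fun x hx => by
  obtain ⟨⟨hxT, hxc⟩, hxp⟩ := hx
  exact mem_omc (h.con (Subgroup.mem_centralizer_iff.2 fun y hy => Subgroup.mem_centralizer_iff.1 hxc y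
    (Solvable.Cores.pCore_le_sylow S hy)))
    (fun y hy => Subgroup.mem_centralizer_iff.1 hxc y (Solvable.Cores.pCore_le_sylow S hy)) hxp

theorem C_le : Cp 2 G ≤ M :=
  (Subgroup.centralizer_le h.omc_le_Vp).trans (h.centralizer_le h.omc_ne_bot)

/-- A normal subgroup whose Sylow part has the Thompson subgroup of `S` is outside `M`. -/
theorem not_normal_le {K : Subgroup G} [hK : K.Normal] (hKM : K ≤ M)
    (hN : Subgroup.normalizer (((S : Subgroup G) ⊓ K : Subgroup G) : Set G) ≤ M) : False := by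
  have hSs : IsSylowIn 2 ((S : Subgroup G) ⊓ K) K := by
    refine ⟨inf_le_right, S.2.to_le inf_le_left, fun X hX hXp hle => ?_⟩
    obtain ⟨P, hP⟩ := hXp.exists_le_sylow
    obtain ⟨g, hg⟩ := MulAction.exists_smul_eq G P S
    have hle' : LocalEven.RankOneFF.cj g X ≤ (S : Subgroup G) ⊓ K := le_inf (hg ▸ Subgroup.map_mono hP) fun z hz => by
      have := hK.conj_mem _ (hX (mem_cj.1 hz)) g
      simpa [mul_assoc] using this
    exact (Subgroup.eq_of_le_of_card_ge hle ((card_cj g X).ge.trans (Subgroup.card_le_of_le hle'))).symm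
  refine h.coatom.1 (eq_top_iff.2 fun g _ => ?_)
  obtain ⟨l, hl, n, hn, rfl⟩ := frattini_argument (H := ⊤) hSs (Subgroup.normalizer_eq_top_iff.2 hK).ge le_top
    (Subgroup.mem_top g)
  exact mul_mem (hKM hl) (hN (Subgroup.mem_inf.1 hn).2)

theorem sylow_inf_C : (S : Subgroup G) ⊓ Cp 2 G ≤ pCore 2 G := by
  haveI := Cp_normal (p := 2) (G := G)
  set X := (S : Subgroup G) ⊓ Cp 2 G
  by_cases e : Subgroup.normalizer (X : Set G) = ⊤
  · haveI : X.Normal := Subgroup.normalizer_eq_top_iff.1 e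
    exact le_pCore (S.2.to_le inf_le_left)
  · refine (h.not_normal_le h.C_le (h.overM _ (fun s hs => ?_) e)).elim
    refine le_normalizer_of_map_conj (T := X) (H := (S : Subgroup G)) (fun t ht =>
      Subgroup.eq_of_le_of_card_ge (le_inf (cj_le inf_le_left ht) fun z hz => ?_) (card_cj t X).ge) hs
    have := ‹(Cp 2 G).Normal›.conj_mem _ (Subgroup.mem_inf.1 (mem_cj.1 hz)).2 t
    simpa [mul_assoc] using this

theorem pgroup_C_le {R : Subgroup G} (hR : IsPGroup 2 R) (hRC : R ≤ Cp 2 G) : R ≤ pCore 2 G := by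
  obtain ⟨P, hP⟩ := hR.exists_le_sylow
  obtain ⟨g, hg⟩ := MulAction.exists_smul_eq G P S
  intro r hr
  haveI := Cp_normal (p := 2) (G := G)
  have h1 : g * r * g⁻¹ ∈ (S : Subgroup G) ⊓ Cp 2 G :=
    ⟨hg ▸ Subgroup.mem_map_of_mem _ (hP hr), ‹(Cp 2 G).Normal›.conj_mem r (hRC hr) g⟩
  have := (pCore_normal G 2).conj_mem _ (h.sylow_inf_C h1) g⁻¹
  simpa [mul_assoc] using this

theorem thompson_sup : thompsonSubgroup 2 G ⊔ (S : Subgroup G) = ⊤ := by
  by_contra e
  haveI : (thompsonSubgroup 2 G).Normal := Subgroup.normal_of_characteristic _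
  refine h.not_normal_le (K := thompsonSubgroup 2 G) (le_sup_left.trans (h.overM _ le_sup_right e))
    (le_trans (fun g hg => ?_) h.normalizer_thompson_le)
  obtain ⟨A₀, hA₀, hA₀T⟩ := exists_maxEA_le_sylow (p := 2) S
  have hJ : thompsonSubgroupOf 2 (S : Subgroup G) = thompsonSubgroupOf 2 ((S : Subgroup G) ⊓ thompsonSubgroup 2 G) := by
    rw [thompsonSubgroupOf_eq hA₀ hA₀T,
      thompsonSubgroupOf_eq (U := (S : Subgroup G) ⊓ thompsonSubgroup 2 G) hA₀ (le_inf hA₀T (le_sSup hA₀))]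
    congr 1
    ext B
    exact ⟨fun hB => ⟨hB.1, le_inf hB.2 (le_sSup hB.1)⟩, fun hB => ⟨hB.1, hB.2.trans inf_le_left⟩⟩
  rw [hJ]
  refine map_conj_eq_iff.1 ?_
  rw [← thompsonSubgroupOf_map_conj, map_conj_eq_iff.2 hg]

end Hyp

variable [hC : (Cp 2 G).Normal] [IsMulCommutative (Vp 2 G)]

/-- An elementary abelian subgroup of maximal order against the module. -/
theorem maxEA_facts (ρ : G ⧸ Cp 2 G →* AddMonoid.End (Additive (Vp 2 G)))
    (hρ : ∀ (g : G) (v : Additive (Vp 2 G)),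
      ((Additive.toMul (ρ (g : G ⧸ Cp 2 G) v) : Vp 2 G) : G) = g * ((Additive.toMul v : Vp 2 G) : G) * g⁻¹)
    {E : Subgroup G} (hE : E ∈ maxElementaryAbelianSubgroups 2 G) :
    let π := QuotientGroup.mk' (Cp 2 G)
    IsElementaryAbelian 2 ((E ⊓ Cp 2 G) ⊔ Vp 2 G : Subgroup G) ∧ Best ρ (E.map π) ∧
      (Nat.card (E.map π) * Nat.card (fx ρ (E.map π)) ≤ Nat.card (Additive (Vp 2 G)) →
        (E ⊓ Cp 2 G) ⊔ Vp 2 G ∈ maxElementaryAbelianSubgroups 2 G) := by
  intro π
  have hV : IsElementaryAbelian 2 (Vp 2 G) := omc_isEA _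
  set V := Vp 2 G
  set B := E ⊓ Cp 2 G
  have hBV : V ≤ Subgroup.normalizer (B : Set G) := fun v hv => Subgroup.centralizer_le_normalizer _
    (Subgroup.mem_centralizer_iff.2 fun b hb => (Subgroup.mem_centralizer_iff.1 hb.2 v hv).symm)
  have hEA : IsElementaryAbelian 2 (B ⊔ V : Subgroup G) := CfsgLib.CharTransfer.isEA_sup
    (isEA_le hE.1 inf_le_left) hV fun b hb v hv => (Subgroup.mem_centralizer_iff.1 hb.2 v hv).symm
  have h1 : Nat.card (B ⊔ V : Subgroup G) ≤ Nat.card E := hE.2 _ hEA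
  have h2 := CfsgLib.Fusion.Thompson.card_sup_mul_card_inf hBV
  have h3 : Nat.card (B ⊓ V : Subgroup G) ≤ Nat.card (fx ρ (E.map π)) := by
    refine Nat.card_le_card_of_injective (fun x => (⟨Additive.ofMul (⟨(x : G), x.2.2⟩ : V), ?_⟩ : fx ρ (E.map π)))
      fun x y e => Subtype.ext (congrArg (fun z : fx ρ (E.map π) => ((Additive.toMul (z : Additive V) : V) : G)) e)
    rintro _ ⟨a, ha, rfl⟩
    refine Additive.toMul.injective (Subtype.ext ?_)
    rw [show π a = (a : G ⧸ Cp 2 G) from rfl, hρ]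
    show a * (x : G) * a⁻¹ = x
    rw [mul_comm_of_isEA hE.1 ha x.2.1.1, mul_inv_cancel_right]
  have h4 : Nat.card E = Nat.card (E.map π) * Nat.card B := by
    have := Subgroup.card_eq_card_quotient_mul_card_subgroup (π.comp E.subtype).ker
    rw [Nat.card_congr (QuotientGroup.quotientKerEquivRange (π.comp E.subtype)).toEquiv,
      MonoidHom.range_comp, Subgroup.range_subtype, show (π.comp E.subtype).ker = B.subgroupOf E by
        ext a
        exact ⟨fun h => Subgroup.mem_inf.2 ⟨a.2, (QuotientGroup.eq_one_iff _).1 h⟩,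
          fun h => (QuotientGroup.eq_one_iff _).2 (Subgroup.mem_inf.1 h).2⟩,
      Nat.card_congr (Subgroup.subgroupOfEquivOfLe inf_le_left).toEquiv] at this
    exact this
  refine ⟨hEA, ⟨fun a ha b hb => mul_comm_of_isEA (isEA_map π hE.1) ha hb, (isEA_map π hE.1).2, ?_⟩,
    fun hle => ⟨hEA, fun X hX => (hE.2 X hX).trans ?_⟩⟩
  · refine Nat.le_of_mul_le_mul_left ?_ (Nat.card_pos (α := B))
    calc Nat.card B * Nat.card (Additive V) = Nat.card (B ⊔ V : Subgroup G) * Nat.card (B ⊓ V : Subgroup G) := h2.symm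
      _ ≤ Nat.card E * Nat.card (fx ρ (E.map π)) := Nat.mul_le_mul h1 h3
      _ = _ := by rw [h4]; ring
  · refine Nat.le_of_mul_le_mul_right ?_ (Nat.card_pos (α := (B ⊓ V : Subgroup G)))
    calc Nat.card E * Nat.card (B ⊓ V : Subgroup G) ≤ Nat.card E * Nat.card (fx ρ (E.map π)) :=
          Nat.mul_le_mul_left _ h3
      _ = Nat.card B * (Nat.card (E.map π) * Nat.card (fx ρ (E.map π))) := by rw [h4]; ring
      _ ≤ Nat.card B * Nat.card (Additive V) := Nat.mul_le_mul_left _ hle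
      _ = _ := h2.symm

/-- The configuration with its action and roots. -/
structure Cfg (S : Sylow 2 G) (M : Subgroup G) (A : Subgroup (MulAut ↥(S : Subgroup G)))
    (ρ : G ⧸ Cp 2 G →* AddMonoid.End (Additive (Vp 2 G))) (T : Sylow 2 (G ⧸ Cp 2 G)) : Prop where
  hyp : Hyp S M A
  act : ∀ (g : G) (v : Additive (Vp 2 G)),
    ((Additive.toMul (ρ (g : G ⧸ Cp 2 G) v) : Vp 2 G) : G) = g * ((Additive.toMul v : Vp 2 G) : G) * g⁻¹
  eqT : (T : Subgroup (G ⧸ Cp 2 G)) = (S : Subgroup G).map (QuotientGroup.mk' (Cp 2 G))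
  roots : Roots ρ T (M.map (QuotientGroup.mk' (Cp 2 G)))
  image : (thompsonSubgroupOf 2 (S : Subgroup G)).map (QuotientGroup.mk' (Cp 2 G)) =
    PushingUpOdd.roots ρ (T : Subgroup (G ⧸ Cp 2 G))
  wt : Nat.card (Additive (Vp 2 G)) =
    Nat.card (PushingUpOdd.roots ρ (T : Subgroup (G ⧸ Cp 2 G))) *
      Nat.card (fx ρ (PushingUpOdd.roots ρ (T : Subgroup (G ⧸ Cp 2 G))))

theorem exists_cfg {S : Sylow 2 G} {M : Subgroup G} {A : Subgroup (MulAut ↥(S : Subgroup G))} (h : Hyp S M A) :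
    ∃ ρ T, Cfg S M A ρ T := by
  classical
  haveI hVn := Vp_normal (p := 2) (G := G)
  set V := Vp 2 G
  set C := Cp 2 G
  have hV : IsElementaryAbelian 2 V := omc_isEA _
  have hVN : (⊤ : Subgroup G) ≤ Subgroup.normalizer (V : Set G) := (Subgroup.normalizer_eq_top_iff.2 hVn).ge
  set π := QuotientGroup.mk' C
  have hπ : Function.Surjective π := QuotientGroup.mk'_surjective C
  set ρG : G →* AddMonoid.End (Additive V) :=
    (conjV hVN).comp (Subgroup.topEquiv (G := G)).symm.toMonoidHom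
  have hker : C ≤ ρG.ker := fun c hc => by
    refine MonoidHom.mem_ker.2 (AddMonoidHom.ext fun v => Additive.toMul.injective (Subtype.ext ?_))
    show c * ((Additive.toMul v : V) : G) * c⁻¹ = _
    rw [← Subgroup.mem_centralizer_iff.1 hc _ (Additive.toMul v).2, mul_inv_cancel_right]
    rfl
  set ρ : G ⧸ C →* AddMonoid.End (Additive V) := QuotientGroup.lift C ρG hker
  have hρ : ∀ (g : G) v, ((Additive.toMul (ρ (g : G ⧸ C) v) : V) : G) =
      g * ((Additive.toMul v : V) : G) * g⁻¹ := fun g v => rfl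
  have hamb : Ambient ρ 2 := by
    refine ⟨(injective_iff_map_eq_one ρ).2 fun x hx => ?_, fun v => Additive.toMul.injective (Subtype.ext ?_)⟩
    · obtain ⟨g, rfl⟩ := QuotientGroup.mk_surjective x
      refine (QuotientGroup.eq_one_iff g).2 (Subgroup.mem_centralizer_iff.2 fun v hv => ?_)
      have h : g * v * g⁻¹ = v := by
        have h1 := hρ g (Additive.ofMul (⟨v, hv⟩ : V))
        rw [hx] at h1
        exact h1.symm
      exact (mul_inv_eq_iff_eq_mul.1 h).symm
    · rw [toMul_nsmul, Subgroup.coe_pow]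
      exact hV.2 _ (Additive.toMul v).2
  set TT := S.mapSurjective hπ
  have hTT : (TT : Subgroup (G ⧸ C)) = (S : Subgroup G).map π := rfl
  have hbase : Base ρ TT (M.map π) := by
    refine ⟨hamb, hTT.le.trans (Subgroup.map_mono h.le), fun e => h.coatom.1 ?_, fun K hK hK' => ?_,
      fun U hU hUp => ?_, ?_⟩
    · have h1 := congrArg (Subgroup.comap π) e
      rwa [Subgroup.comap_map_eq, QuotientGroup.ker_mk', sup_eq_left.2 h.C_le, Subgroup.comap_top] at h1
    · refine (Subgroup.map_comap_eq_self_of_surjective hπ K).ge.trans (Subgroup.map_mono (h.overM _ ?_ fun e => hK' ?_))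
      · exact Subgroup.map_le_iff_le_comap.1 (hTT.ge.trans hK)
      · rw [← Subgroup.map_comap_eq_self_of_surjective hπ K, e, Subgroup.map_top_of_surjective _ hπ]
    · set K := U.comap π with hK
      haveI : K.Normal := hU.comap π
      have hUT : U ≤ (TT : Subgroup (G ⧸ C)) := by
        obtain ⟨P, hP⟩ := hUp.exists_le_sylow
        obtain ⟨g, hg⟩ := MulAction.exists_smul_eq (G ⧸ C) P TT
        intro x hx
        rw [← hg]
        exact ⟨g⁻¹ * x * g, hP (by simpa [mul_assoc] using hU.conj_mem x hx g⁻¹),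
          show g * (g⁻¹ * x * g) * g⁻¹ = x by group⟩
      have hKSC : K ≤ ((S : Subgroup G) ⊓ K) ⊔ C := fun x hx => by
        obtain ⟨t, ht, he⟩ : π x ∈ (S : Subgroup G).map π := hTT ▸ hUT hx
        have hc : t⁻¹ * x ∈ C := QuotientGroup.eq.1 he
        have htK : t ∈ K := Subgroup.mem_comap.2 (he ▸ hx)
        simpa using mul_mem (Subgroup.mem_sup_left (T := C)
          (show t ∈ (S : Subgroup G) ⊓ K from Subgroup.mem_inf.2 ⟨ht, htK⟩)) (Subgroup.mem_sup_right hc)
      have hSK : ((S : Subgroup G) ⊓ K) ≤ C := by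
        by_cases e : Subgroup.normalizer (((S : Subgroup G) ⊓ K : Subgroup G) : Set G) = ⊤
        · haveI : ((S : Subgroup G) ⊓ K).Normal := Subgroup.normalizer_eq_top_iff.1 e
          exact (le_pCore (S.2.to_le inf_le_left)).trans pCore_le_Cp
        · refine (h.not_normal_le (K := K) ?_ (h.overM _ (fun s hs => ?_) e)).elim
          · exact hKSC.trans (sup_le (inf_le_left.trans h.le) h.C_le)
          refine le_normalizer_of_map_conj (T := (S : Subgroup G) ⊓ K) (H := (S : Subgroup G)) (fun t ht =>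
            Subgroup.eq_of_le_of_card_ge (le_inf (cj_le inf_le_left ht) fun z hz => ?_) (card_cj t _).ge) hs
          have := ‹K.Normal›.conj_mem _ (Subgroup.mem_inf.1 (mem_cj.1 hz)).2 t
          simpa [mul_assoc] using this
      refine eq_bot_iff.2 fun u hu => ?_
      obtain ⟨x, rfl⟩ := hπ u
      exact (Subgroup.mem_bot).2 ((QuotientGroup.eq_one_iff x).2 (sup_le hSK le_rfl (hKSC hu)))
    · by_contra hall
      push Not at hall
      refine h.coatom.1 (eq_top_iff.2 fun g _ => h.centralizer_le h.omc_ne_bot (Subgroup.mem_centralizer_iff.2 fun z hz => ?_))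
      have hfix : Additive.ofMul (⟨z, h.omc_le_Vp hz⟩ : V) ∈ fx ρ (TT : Subgroup (G ⧸ C)) := by
        intro x hx
        obtain ⟨t, ht, rfl⟩ : x ∈ (S : Subgroup G).map π := hTT ▸ hx
        refine Additive.toMul.injective (Subtype.ext ?_)
        rw [show π t = (t : G ⧸ C) from rfl, hρ]
        show t * z * t⁻¹ = z
        rw [Subgroup.mem_centralizer_iff.1 (omc_le _ hz).2 t ht, mul_inv_cancel_right]
      have h2 : g * z * g⁻¹ = z := by
        have h3 := hρ g (Additive.ofMul (⟨z, h.omc_le_Vp hz⟩ : V))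
        rw [hall _ hfix (g : G ⧸ C) (Subgroup.mem_top _)] at h3
        exact h3.symm
      exact (mul_inv_eq_iff_eq_mul.1 h2).symm
  -- one offender in `S` is not in `C`
  obtain ⟨E₁, hE₁, hE₁S, hE₁C⟩ : ∃ E ∈ maxElementaryAbelianSubgroups 2 G, E ≤ (S : Subgroup G) ∧ ¬ E ≤ C := by
    by_contra hall
    push Not at hall
    refine h.not_normal_le (K := C) h.C_le (le_trans (fun g hg => ?_) h.normalizer_thompson_le)
    obtain ⟨A₀, hA₀, hA₀T⟩ := exists_maxEA_le_sylow (p := 2) S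
    have hJ : thompsonSubgroupOf 2 (S : Subgroup G) = thompsonSubgroupOf 2 ((S : Subgroup G) ⊓ C) := by
      rw [thompsonSubgroupOf_eq hA₀ hA₀T, thompsonSubgroupOf_eq hA₀ (le_inf hA₀T (hall A₀ hA₀ hA₀T))]
      congr 1
      ext B
      exact ⟨fun hB => ⟨hB.1, le_inf hB.2 (hall B hB.1 hB.2)⟩, fun hB => ⟨hB.1, hB.2.trans inf_le_left⟩⟩
    rw [hJ]
    refine map_conj_eq_iff.1 ?_
    rw [← thompsonSubgroupOf_map_conj, map_conj_eq_iff.2 hg]
  have hne₁ : E₁.map π ≠ ⊥ := fun e => hE₁C fun a ha =>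
    (QuotientGroup.eq_one_iff a).1 ((Subgroup.mem_bot).1 (e ▸ Subgroup.mem_map_of_mem π ha))
  obtain ⟨-, hb₁, -⟩ := maxEA_facts ρ hρ hE₁
  obtain ⟨B, -, hB, -⟩ := exists_off_sub hamb hne₁ hb₁.comm hb₁.pow hb₁.wt
  obtain ⟨X, -, hX, -⟩ := exists_good hbase hB
  have hR := exists_roots hbase hX
  set 𝒟 := (fun E : Subgroup G => E.map π) ''
    {E | E ∈ maxElementaryAbelianSubgroups 2 G ∧ E ≤ (S : Subgroup G)}
  obtain ⟨him, hwt⟩ := hR.image (𝒟 := 𝒟)
    (by
      rintro _ ⟨E, ⟨hE, hES⟩, rfl⟩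
      exact ⟨(maxEA_facts ρ hρ hE).2.1, hTT ▸ Subgroup.map_mono hES⟩)
    ⟨_, ⟨E₁, ⟨hE₁, hE₁S⟩, rfl⟩, hne₁⟩
    (by
      rintro t ht _ ⟨E, ⟨hE, hES⟩, rfl⟩
      obtain ⟨s, hs, rfl⟩ : t ∈ (S : Subgroup G).map π := hTT ▸ ht
      refine ⟨LocalEven.RankOneFF.cj s E, ⟨maxEA_map_equiv (MulAut.conj s) hE, cj_le hES hs⟩, ?_⟩
      show (E.map (MulAut.conj s).toMonoidHom).map π = (E.map π).map (MulAut.conj (π s)).toMonoidHom
      rw [Subgroup.map_map, Subgroup.map_map]
      congr 1)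
  refine ⟨ρ, TT, h, hρ, hTT, hR, ?_, hwt⟩
  obtain ⟨A₀, hA₀, hA₀T⟩ := exists_maxEA_le_sylow (p := 2) S
  rw [← him, thompsonSubgroupOf_eq hA₀ hA₀T]
  refine le_antisymm (Subgroup.map_le_iff_le_comap.2 (sSup_le fun E hE => ?_)) (sSup_le ?_)
  · exact Subgroup.map_le_iff_le_comap.1 (le_sSup ⟨E, hE, rfl⟩)
  · rintro _ ⟨E, hE, rfl⟩
    exact Subgroup.map_mono (le_sSup hE)

end CfsgLib.PushingUpOdd
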